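/-
Fusion systems on a Sylow 3-subgroup of `Co₁` (S5227): the group `U = 3 ^ 6 : 3 ^ (1 + 2)`.
An element is `n(X) l(A)` with `A = !![1, a, c; 0, 1, b; 0, 0, 1]`, `X = !![p, q, r; q, u, v; r, v, w]`,
`l(A) n(X) l(A)⁻¹ = n(A X Aᵀ)`.
-/
import Cfsg.Agent.FUS.U5.Gen
import Cfsg.Agent.FUS.EssExt
import Cfsg.Agent.FUS.Realized

set_option autoImplicit false
set_option linter.unusedSimpArgs false
set_option linter.unusedVariables false
set_option linter.unusedTactic false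
set_option linter.unnecessarySeqFocus false
set_option linter.unreachableTactic false

namespace CL.C1F

open CL.Fus CL.RF4 Subgroup Cfsg Cfsg.FusionSystem
open scoped commutatorElement

/-- the field with three elements -/
abbrev k3 := ZMod 3

/-- the Sylow subgroup -/
@[ext] structure U where
  a : k3
  b : k3
  c : k3
  p : k3
  q : k3
  r : k3
  u : k3
  v : k3
  w : k3
  deriving DecidableEq

namespace U

instance : One U := ⟨⟨0, 0, 0, 0, 0, 0, 0, 0, 0⟩⟩
instance : Mul U := ⟨fun x y => ⟨x.a + y.a, x.b + y.b, x.c + y.c + x.a * y.b,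
  x.p + y.p + 2 * x.a * y.q + 2 * x.c * y.r + x.a * x.a * y.u + 2 * x.a * x.c * y.v + x.c * x.c * y.w,
  x.q + y.q + x.b * y.r + x.a * y.u + (x.a * x.b + x.c) * y.v + x.b * x.c * y.w,
  x.r + y.r + x.a * y.v + x.c * y.w, x.u + y.u + 2 * x.b * y.v + x.b * x.b * y.w, x.v + y.v + x.b * y.w, x.w + y.w⟩⟩
instance : Inv U := ⟨fun x => ⟨-x.a, -x.b, x.a * x.b - x.c,
  -(x.p - 2 * x.a * x.q + 2 * (x.a * x.b - x.c) * x.r + x.a * x.a * x.u - 2 * x.a * (x.a * x.b - x.c) * x.v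
    + (x.a * x.b - x.c) * (x.a * x.b - x.c) * x.w),
  -(x.q - x.b * x.r - x.a * x.u + (2 * x.a * x.b - x.c) * x.v - x.b * (x.a * x.b - x.c) * x.w),
  -(x.r - x.a * x.v + (x.a * x.b - x.c) * x.w), -(x.u - 2 * x.b * x.v + x.b * x.b * x.w), -(x.v - x.b * x.w), -x.w⟩⟩

variable (x y : U)
theorem one_a : (1 : U).a = 0 := rfl
theorem one_b : (1 : U).b = 0 := rfl
theorem one_c : (1 : U).c = 0 := rfl
theorem one_p : (1 : U).p = 0 := rfl
theorem one_q : (1 : U).q = 0 := rfl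
theorem one_r : (1 : U).r = 0 := rfl
theorem one_u : (1 : U).u = 0 := rfl
theorem one_v : (1 : U).v = 0 := rfl
theorem one_w : (1 : U).w = 0 := rfl
theorem mul_a : (x * y).a = x.a + y.a := rfl
theorem mul_b : (x * y).b = x.b + y.b := rfl
theorem mul_c : (x * y).c = x.c + y.c + x.a * y.b := rfl
theorem mul_p : (x * y).p =
    x.p + y.p + 2 * x.a * y.q + 2 * x.c * y.r + x.a * x.a * y.u + 2 * x.a * x.c * y.v + x.c * x.c * y.w := rfl
theorem mul_q : (x * y).q = x.q + y.q + x.b * y.r + x.a * y.u + (x.a * x.b + x.c) * y.v + x.b * x.c * y.w := rfl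
theorem mul_r : (x * y).r = x.r + y.r + x.a * y.v + x.c * y.w := rfl
theorem mul_u : (x * y).u = x.u + y.u + 2 * x.b * y.v + x.b * x.b * y.w := rfl
theorem mul_v : (x * y).v = x.v + y.v + x.b * y.w := rfl
theorem mul_w : (x * y).w = x.w + y.w := rfl
theorem inv_a : x⁻¹.a = -x.a := rfl
theorem inv_b : x⁻¹.b = -x.b := rfl
theorem inv_c : x⁻¹.c = x.a * x.b - x.c := rfl
theorem inv_p : x⁻¹.p = -(x.p - 2 * x.a * x.q + 2 * (x.a * x.b - x.c) * x.r + x.a * x.a * x.u
    - 2 * x.a * (x.a * x.b - x.c) * x.v + (x.a * x.b - x.c) * (x.a * x.b - x.c) * x.w) := rfl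
theorem inv_q : x⁻¹.q =
    -(x.q - x.b * x.r - x.a * x.u + (2 * x.a * x.b - x.c) * x.v - x.b * (x.a * x.b - x.c) * x.w) := rfl
theorem inv_r : x⁻¹.r = -(x.r - x.a * x.v + (x.a * x.b - x.c) * x.w) := rfl
theorem inv_u : x⁻¹.u = -(x.u - 2 * x.b * x.v + x.b * x.b * x.w) := rfl
theorem inv_v : x⁻¹.v = -(x.v - x.b * x.w) := rfl
theorem inv_w : x⁻¹.w = -x.w := rfl

end U

/-- expands products, inverses, commutators and conjugates into coordinates -/
scoped macro "usimp" loc:(Lean.Parser.Tactic.location)? : tactic => `(tactic| simp only [U.ext_iff, commutatorElement_def, CL.Fus.cj,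
  U.one_a, U.one_b, U.one_c, U.one_p, U.one_q, U.one_r, U.one_u, U.one_v, U.one_w,
  U.mul_a, U.mul_b, U.mul_c, U.mul_p, U.mul_q, U.mul_r, U.mul_u, U.mul_v, U.mul_w,
  U.inv_a, U.inv_b, U.inv_c, U.inv_p, U.inv_q, U.inv_r, U.inv_u, U.inv_v, U.inv_w] $[$loc]?)

namespace U

instance : Group U := Group.ofLeftAxioms
  (fun x y z => by usimp; and_intros <;> ring) (fun x => by usimp; and_intros <;> ring) (fun x => by usimp; and_intros <;> ring)

/-- coordinates -/
def eqv : U ≃ (k3 × k3 × k3) × (k3 × k3 × k3 × k3 × k3 × k3) where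
  toFun x := ((x.a, x.b, x.c), (x.p, x.q, x.r, x.u, x.v, x.w))
  invFun t := ⟨t.1.1, t.1.2.1, t.1.2.2, t.2.1, t.2.2.1, t.2.2.2.1, t.2.2.2.2.1, t.2.2.2.2.2.1, t.2.2.2.2.2.2⟩
  left_inv _ := rfl
  right_inv _ := rfl

instance : Finite U := Finite.of_equiv _ eqv.symm

theorem card : Nat.card U = 3 ^ 9 := by
  rw [Nat.card_congr eqv]; simp only [Nat.card_prod, Nat.card_zmod]; norm_num

/-- a statement for all elements, in a form for `decide` -/
theorem forall_iff {P : U → Prop} : (∀ x, P x) ↔ ∀ a b c p q r u v w, P ⟨a, b, c, p, q, r, u, v, w⟩ :=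
  ⟨fun h _ _ _ _ _ _ _ _ _ => h _, fun h x => h x.a x.b x.c x.p x.q x.r x.u x.v x.w⟩

end U

theorem pgU : IsPGroup 3 U := IsPGroup.of_card U.card
theorem pgT : IsPGroup 3 (⊤ : Subgroup U) := pgU.to_subgroup _

theorem three_eq : (3 : k3) = 0 := rfl
theorem k3_cases (x : k3) : x = 0 ∨ x = 1 ∨ x = 2 := by revert x; decide
theorem k3_sq {x : k3} (h : x ≠ 0) : x * x = 1 := by revert x; decide
theorem k3_cube (x : k3) : x * x * x = x := by revert x; decide

/-- an element of the complement `T` -/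
def tt (a b c : k3) : U := ⟨a, b, c, 0, 0, 0, 0, 0, 0⟩
/-- an element of `J` -/
def jj (p q r u v w : k3) : U := ⟨0, 0, 0, p, q, r, u, v, w⟩
/-- root elements -/
def xa : U := tt 1 0 0
/-- root elements -/
def xb : U := tt 0 1 0
/-- root elements -/
def xc : U := tt 0 0 1
/-- root elements -/
def xp : U := jj 1 0 0 0 0 0
/-- root elements -/
def xq : U := jj 0 1 0 0 0 0
/-- root elements -/
def xr : U := jj 0 0 1 0 0 0
/-- root elements -/
def xu : U := jj 0 0 0 1 0 0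
/-- root elements -/
def xv : U := jj 0 0 0 0 1 0
/-- root elements -/
def xw : U := jj 0 0 0 0 0 1

/-- `J = 3 ^ 6` -/
def sJ : Subgroup U where
  carrier := {g | g.a = 0 ∧ g.b = 0 ∧ g.c = 0}
  one_mem' := by simp only [Set.mem_ofPred_eq]; usimp; simp
  mul_mem' ha hb := by simp only [Set.mem_ofPred_eq] at *; usimp; simp [ha, hb]
  inv_mem' ha := by simp only [Set.mem_ofPred_eq] at *; usimp; simp [ha]
/-- `Y = [J, T]` -/
def sY : Subgroup U where
  carrier := {g | g.a = 0 ∧ g.b = 0 ∧ g.c = 0 ∧ g.w = 0}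
  one_mem' := by simp only [Set.mem_ofPred_eq]; usimp; simp
  mul_mem' ha hb := by simp only [Set.mem_ofPred_eq] at *; usimp; simp [ha, hb]
  inv_mem' ha := by simp only [Set.mem_ofPred_eq] at *; usimp; simp [ha]
/-- `Z₃(U)` -/
def sZ3 : Subgroup U where
  carrier := {g | g.a = 0 ∧ g.b = 0 ∧ g.c = 0 ∧ g.v = 0 ∧ g.w = 0}
  one_mem' := by simp only [Set.mem_ofPred_eq]; usimp; simp
  mul_mem' ha hb := by simp only [Set.mem_ofPred_eq] at *; usimp; simp [ha, hb]
  inv_mem' ha := by simp only [Set.mem_ofPred_eq] at *; usimp; simp [ha]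
/-- `W = Z(E₁)` -/
def sW : Subgroup U where
  carrier := {g | g.a = 0 ∧ g.b = 0 ∧ g.c = 0 ∧ g.r = 0 ∧ g.v = 0 ∧ g.w = 0}
  one_mem' := by simp only [Set.mem_ofPred_eq]; usimp; simp
  mul_mem' ha hb := by simp only [Set.mem_ofPred_eq] at *; usimp; simp [ha, hb]
  inv_mem' ha := by simp only [Set.mem_ofPred_eq] at *; usimp; simp [ha]
/-- `Y₁ = E₂'` -/
def sY1 : Subgroup U where
  carrier := {g | g.a = 0 ∧ g.b = 0 ∧ g.c = 0 ∧ g.u = 0 ∧ g.v = 0 ∧ g.w = 0}
  one_mem' := by simp only [Set.mem_ofPred_eq]; usimp; simp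
  mul_mem' ha hb := by simp only [Set.mem_ofPred_eq] at *; usimp; simp [ha, hb]
  inv_mem' ha := by simp only [Set.mem_ofPred_eq] at *; usimp; simp [ha]
/-- `Z₂(U)` -/
def sZ2 : Subgroup U where
  carrier := {g | g.a = 0 ∧ g.b = 0 ∧ g.c = 0 ∧ g.r = 0 ∧ g.u = 0 ∧ g.v = 0 ∧ g.w = 0}
  one_mem' := by simp only [Set.mem_ofPred_eq]; usimp; simp
  mul_mem' ha hb := by simp only [Set.mem_ofPred_eq] at *; usimp; simp [ha, hb]
  inv_mem' ha := by simp only [Set.mem_ofPred_eq] at *; usimp; simp [ha]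
/-- `Z(U)` -/
def sZ : Subgroup U where
  carrier := {g | g.a = 0 ∧ g.b = 0 ∧ g.c = 0 ∧ g.q = 0 ∧ g.r = 0 ∧ g.u = 0 ∧ g.v = 0 ∧ g.w = 0}
  one_mem' := by simp only [Set.mem_ofPred_eq]; usimp; simp
  mul_mem' ha hb := by simp only [Set.mem_ofPred_eq] at *; usimp; simp [ha, hb]
  inv_mem' ha := by simp only [Set.mem_ofPred_eq] at *; usimp; simp [ha]
/-- `Φ(U)` -/
def sPh : Subgroup U where
  carrier := {g | g.a = 0 ∧ g.b = 0 ∧ g.w = 0}
  one_mem' := by simp only [Set.mem_ofPred_eq]; usimp; simp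
  mul_mem' ha hb := by simp only [Set.mem_ofPred_eq] at *; usimp; simp [ha, hb]
  inv_mem' ha := by simp only [Set.mem_ofPred_eq] at *; usimp; simp [ha]
/-- `J ⟨xc⟩` -/
def sJc : Subgroup U where
  carrier := {g | g.a = 0 ∧ g.b = 0}
  one_mem' := by simp only [Set.mem_ofPred_eq]; usimp; simp
  mul_mem' ha hb := by simp only [Set.mem_ofPred_eq] at *; usimp; simp [ha, hb]
  inv_mem' ha := by simp only [Set.mem_ofPred_eq] at *; usimp; simp [ha]
/-- `E₁ = J ℬ` -/
def E1 : Subgroup U where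
  carrier := {g | g.a = 0}
  one_mem' := by simp only [Set.mem_ofPred_eq]; usimp
  mul_mem' ha hb := by simp only [Set.mem_ofPred_eq] at *; usimp; simp [ha, hb]
  inv_mem' ha := by simp only [Set.mem_ofPred_eq] at *; usimp; simp [ha]
/-- `E₂ = J 𝒜` -/
def E2 : Subgroup U where
  carrier := {g | g.b = 0}
  one_mem' := by simp only [Set.mem_ofPred_eq]; usimp
  mul_mem' ha hb := by simp only [Set.mem_ofPred_eq] at *; usimp; simp [ha, hb]
  inv_mem' ha := by simp only [Set.mem_ofPred_eq] at *; usimp; simp [ha]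
/-- `E₃ = Y T` -/
def E3 : Subgroup U where
  carrier := {g | g.w = 0}
  one_mem' := by simp only [Set.mem_ofPred_eq]; usimp
  mul_mem' ha hb := by simp only [Set.mem_ofPred_eq] at *; usimp; simp [ha, hb]
  inv_mem' ha := by simp only [Set.mem_ofPred_eq] at *; usimp; simp [ha]
/-- `R = E₁ ⊓ E₃ = 3 ^ (3 + 4)` -/
def sR : Subgroup U where
  carrier := {g | g.a = 0 ∧ g.w = 0}
  one_mem' := by simp only [Set.mem_ofPred_eq]; usimp; simp
  mul_mem' ha hb := by simp only [Set.mem_ofPred_eq] at *; usimp; simp [ha, hb]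
  inv_mem' ha := by simp only [Set.mem_ofPred_eq] at *; usimp; simp [ha]
/-- `Φ(E₃)` -/
def sP3 : Subgroup U where
  carrier := {g | g.a = 0 ∧ g.b = 0 ∧ g.v = 0 ∧ g.w = 0}
  one_mem' := by simp only [Set.mem_ofPred_eq]; usimp; simp
  mul_mem' ha hb := by simp only [Set.mem_ofPred_eq] at *; usimp; simp [ha, hb]
  inv_mem' ha := by simp only [Set.mem_ofPred_eq] at *; usimp; simp [ha]
/-- `Q = 3 ^ (1 + 4)` -/
def sQ : Subgroup U where
  carrier := {g | g.b = 0 ∧ g.u = 0 ∧ g.v = 0 ∧ g.w = 0}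
  one_mem' := by simp only [Set.mem_ofPred_eq]; usimp; simp
  mul_mem' ha hb := by simp only [Set.mem_ofPred_eq] at *; usimp; simp [ha, hb]
  inv_mem' ha := by simp only [Set.mem_ofPred_eq] at *; usimp; simp [ha]

/-- the maximal subgroups `J 𝒞` -/
def sC (e : k3) : Subgroup U where
  carrier := {g | g.b = e * g.a}
  one_mem' := by simp only [Set.mem_ofPred_eq]; usimp; simp
  mul_mem' ha hb := by simp only [Set.mem_ofPred_eq] at *; usimp; rw [ha, hb]; ring
  inv_mem' ha := by simp only [Set.mem_ofPred_eq] at *; usimp; rw [ha]; ring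

/-- `J ⟨k⟩`, `k = tt 1 e (i - e)` -/
def sK (e i : k3) : Subgroup U where
  carrier := {g | g.b = e * g.a ∧ g.c = i * g.a - e * (g.a * g.a)}
  one_mem' := by simp only [Set.mem_ofPred_eq]; usimp; simp
  mul_mem' {x y} ha hb := by
    simp only [Set.mem_ofPred_eq] at *; usimp; rw [ha.1, hb.1, ha.2, hb.2]
    exact ⟨by ring, by linear_combination (e * x.a * y.a) * three_eq⟩
  inv_mem' {x} ha := by
    simp only [Set.mem_ofPred_eq] at *; usimp; rw [ha.1, ha.2]
    exact ⟨by ring, by linear_combination (e * x.a * x.a) * three_eq⟩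

/-- the three conjugates of `W ⟨xb, xc⟩ = 3 ^ 5` -/
def Y5 (e : k3) : Subgroup U where
  carrier := {g | g.a = 0 ∧ g.w = 0 ∧ g.r = e * g.c ∧ g.v = e * g.b}
  one_mem' := by simp only [Set.mem_ofPred_eq]; usimp; simp
  mul_mem' ha hb := by simp only [Set.mem_ofPred_eq] at *; usimp; simp [ha, hb, mul_add]
  inv_mem' ha := by simp only [Set.mem_ofPred_eq] at *; usimp; simp [ha]

variable {g : U} {e i : k3}
theorem mem_sJ : g ∈ sJ ↔ g.a = 0 ∧ g.b = 0 ∧ g.c = 0 := Iff.rfl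
theorem mem_sY : g ∈ sY ↔ g.a = 0 ∧ g.b = 0 ∧ g.c = 0 ∧ g.w = 0 := Iff.rfl
theorem mem_sZ3 : g ∈ sZ3 ↔ g.a = 0 ∧ g.b = 0 ∧ g.c = 0 ∧ g.v = 0 ∧ g.w = 0 := Iff.rfl
theorem mem_sW : g ∈ sW ↔ g.a = 0 ∧ g.b = 0 ∧ g.c = 0 ∧ g.r = 0 ∧ g.v = 0 ∧ g.w = 0 := Iff.rfl
theorem mem_sY1 : g ∈ sY1 ↔ g.a = 0 ∧ g.b = 0 ∧ g.c = 0 ∧ g.u = 0 ∧ g.v = 0 ∧ g.w = 0 := Iff.rfl
theorem mem_sZ2 : g ∈ sZ2 ↔ g.a = 0 ∧ g.b = 0 ∧ g.c = 0 ∧ g.r = 0 ∧ g.u = 0 ∧ g.v = 0 ∧ g.w = 0 := Iff.rfl
theorem mem_sZ : g ∈ sZ ↔ g.a = 0 ∧ g.b = 0 ∧ g.c = 0 ∧ g.q = 0 ∧ g.r = 0 ∧ g.u = 0 ∧ g.v = 0 ∧ g.w = 0 := Iff.rfl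
theorem mem_sPh : g ∈ sPh ↔ g.a = 0 ∧ g.b = 0 ∧ g.w = 0 := Iff.rfl
theorem mem_sJc : g ∈ sJc ↔ g.a = 0 ∧ g.b = 0 := Iff.rfl
theorem mem_E1 : g ∈ E1 ↔ g.a = 0 := Iff.rfl
theorem mem_E2 : g ∈ E2 ↔ g.b = 0 := Iff.rfl
theorem mem_E3 : g ∈ E3 ↔ g.w = 0 := Iff.rfl
theorem mem_sR : g ∈ sR ↔ g.a = 0 ∧ g.w = 0 := Iff.rfl
theorem mem_sP3 : g ∈ sP3 ↔ g.a = 0 ∧ g.b = 0 ∧ g.v = 0 ∧ g.w = 0 := Iff.rfl
theorem mem_sQ : g ∈ sQ ↔ g.b = 0 ∧ g.u = 0 ∧ g.v = 0 ∧ g.w = 0 := Iff.rfl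
theorem mem_sC : g ∈ sC e ↔ g.b = e * g.a := Iff.rfl
theorem mem_sK : g ∈ sK e i ↔ g.b = e * g.a ∧ g.c = i * g.a - e * (g.a * g.a) := Iff.rfl
theorem mem_Y5 : g ∈ Y5 e ↔ g.a = 0 ∧ g.w = 0 ∧ g.r = e * g.c ∧ g.v = e * g.b := Iff.rfl

/-- membership in the named subgroups; coordinates of the root elements -/
scoped macro "msimp" loc:(Lean.Parser.Tactic.location)? : tactic => `(tactic| simp only [SetLike.mem_coe, mem_sJ, mem_sY, mem_sZ3,
  mem_sW, mem_sY1, mem_sZ2, mem_sZ, mem_sPh, mem_sJc, mem_E1, mem_E2, mem_E3, mem_sR, mem_sP3, mem_sQ, mem_sC, mem_sK, mem_Y5,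
  tt, jj, xa, xb, xc, xp, xq, xr, xu, xv, xw] $[$loc]?)

instance : sJ.Normal := ⟨fun x hx s => by msimp at *; usimp; simp only [hx]; and_intros <;> first | trivial | ring⟩
instance : sY.Normal := ⟨fun x hx s => by msimp at *; usimp; simp only [hx]; and_intros <;> first | trivial | ring⟩
instance : sZ3.Normal := ⟨fun x hx s => by msimp at *; usimp; simp only [hx]; and_intros <;> first | trivial | ring⟩
instance : sW.Normal := ⟨fun x hx s => by msimp at *; usimp; simp only [hx]; and_intros <;> first | trivial | ring⟩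
instance : sY1.Normal := ⟨fun x hx s => by msimp at *; usimp; simp only [hx]; and_intros <;> first | trivial | ring⟩
instance : sZ2.Normal := ⟨fun x hx s => by msimp at *; usimp; simp only [hx]; and_intros <;> first | trivial | ring⟩
instance : sZ.Normal := ⟨fun x hx s => by msimp at *; usimp; simp only [hx]; and_intros <;> first | trivial | ring⟩
instance : sPh.Normal := ⟨fun x hx s => by msimp at *; usimp; simp only [hx]; and_intros <;> first | trivial | ring⟩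
instance : sJc.Normal := ⟨fun x hx s => by msimp at *; usimp; simp only [hx]; and_intros <;> first | trivial | ring⟩
instance : E1.Normal := ⟨fun x hx s => by msimp at *; usimp; simp only [hx]; and_intros <;> first | trivial | ring⟩
instance : E2.Normal := ⟨fun x hx s => by msimp at *; usimp; simp only [hx]; and_intros <;> first | trivial | ring⟩
instance : E3.Normal := ⟨fun x hx s => by msimp at *; usimp; simp only [hx]; and_intros <;> first | trivial | ring⟩
instance : sR.Normal := ⟨fun x hx s => by msimp at *; usimp; simp only [hx]; and_intros <;> first | trivial | ring⟩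
instance : sP3.Normal := ⟨fun x hx s => by msimp at *; usimp; simp only [hx]; and_intros <;> first | trivial | ring⟩
instance : sQ.Normal := ⟨fun x hx s => by msimp at *; usimp; simp only [hx]; and_intros <;> first | trivial | ring⟩
instance : (sC e).Normal := ⟨fun x hx s => by msimp at *; usimp; simp only [hx]; and_intros <;> first | trivial | ring⟩

instance (g : U) : Decidable (g ∈ sJ) := decidable_of_iff' _ mem_sJ
instance (g : U) : Decidable (g ∈ sY) := decidable_of_iff' _ mem_sY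
instance (g : U) : Decidable (g ∈ sZ3) := decidable_of_iff' _ mem_sZ3
instance (g : U) : Decidable (g ∈ sW) := decidable_of_iff' _ mem_sW
instance (g : U) : Decidable (g ∈ sY1) := decidable_of_iff' _ mem_sY1
instance (g : U) : Decidable (g ∈ sZ2) := decidable_of_iff' _ mem_sZ2
instance (g : U) : Decidable (g ∈ sZ) := decidable_of_iff' _ mem_sZ
instance (g : U) : Decidable (g ∈ sPh) := decidable_of_iff' _ mem_sPh
instance (g : U) : Decidable (g ∈ sJc) := decidable_of_iff' _ mem_sJc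
instance (g : U) : Decidable (g ∈ E1) := decidable_of_iff' _ mem_E1
instance (g : U) : Decidable (g ∈ E2) := decidable_of_iff' _ mem_E2
instance (g : U) : Decidable (g ∈ E3) := decidable_of_iff' _ mem_E3
instance (g : U) : Decidable (g ∈ sR) := decidable_of_iff' _ mem_sR
instance (g : U) : Decidable (g ∈ sP3) := decidable_of_iff' _ mem_sP3
instance (g : U) : Decidable (g ∈ sQ) := decidable_of_iff' _ mem_sQ
instance (g : U) : Decidable (g ∈ sC e) := decidable_of_iff' _ mem_sC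
instance (g : U) : Decidable (g ∈ sK e i) := decidable_of_iff' _ mem_sK
instance (g : U) : Decidable (g ∈ Y5 e) := decidable_of_iff' _ mem_Y5

theorem comm_J {x y : U} (hx : x ∈ sJ) (hy : y ∈ sJ) : x * y = y * x := by
  msimp at *; usimp; simp only [hx, hy]; and_intros <;> first | trivial | ring

theorem pow3_J {x : U} (hx : x ∈ sJ) : x * x * x = 1 := by
  msimp at *; usimp; simp only [hx]
  and_intros <;> first | trivial | ring1 | linear_combination x.p * three_eq | linear_combination x.q * three_eq |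
    linear_combination x.r * three_eq | linear_combination x.u * three_eq | linear_combination x.v * three_eq |
    linear_combination x.w * three_eq

/-- `C(J) = J` -/
theorem mem_J_of_comm {x : U} (h1 : x * xw = xw * x) (h2 : x * xv = xv * x) : x ∈ sJ := by
  msimp at *; usimp at h1 h2
  exact ⟨by linear_combination h2.2.2.2.2.2.1, by linear_combination h1.2.2.2.2.2.2.2.1, by linear_combination h1.2.2.2.2.2.1⟩

/-! ### the automorphisms -/

/-- a sign -/
def sg (s : Bool) : k3 := if s then -1 else 1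

theorem sg_sq (s : Bool) : sg s * sg s = 1 := by cases s <;> decide

/-- the diagonal automorphisms: `a, b, w` are multiplied by the three signs -/
def tor (s t d : Bool) (x : U) : U :=
  ⟨sg s * x.a, sg t * x.b, sg s * sg t * x.c, sg d * x.p, sg s * sg d * x.q, sg s * sg t * sg d * x.r, sg d * x.u,
    sg t * sg d * x.v, sg d * x.w⟩
/-- the central involution of the `SL₂(3)` on `E₁` and on `E₃` -/
abbrev h1 : U → U := tor false true false
/-- the central involution of the `SL₂(3)` on `E₂` -/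
abbrev h2 : U → U := tor true false false
/-- the diagonal automorphism inverting `J` -/
abbrev dl : U → U := tor false false true
/-- a central automorphism -/
def tau (e : k3) (x : U) : U := ⟨x.a, x.b, x.c, x.p + e * x.w, x.q, x.r, x.u, x.v, x.w⟩
/-- the Weyl element on `E₁`, conjugated by `tau e` -/
def w1 (e : k3) (x : U) : U := ⟨0, -x.c, x.b, x.u + e * x.w, -x.q, x.v, x.p - e * x.w, -x.r, x.w⟩
/-- the Weyl element on `E₂`, conjugated by `tau e` -/
def w2 (e : k3) (x : U) : U := ⟨-x.c, 0, x.a, x.p - e * x.w + e * x.u, -x.r, x.q, x.w, -x.v, x.u⟩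
/-- the Weyl element on `E₃` -/
def w3 (x : U) : U :=
  ⟨x.a, -x.v, -x.r, x.p - 2 * x.r * x.c, x.q - x.v * x.c - x.r * x.b, x.c, x.u - 2 * x.v * x.b, x.b, 0⟩

theorem tor_mul (s t d : Bool) (x y : U) : tor s t d (x * y) = tor s t d x * tor s t d y := by
  cases s <;> cases t <;> cases d <;> (simp only [tor, sg]; usimp; simp; try (and_intros <;> ring))
theorem tor_tor (s t d s' t' d' : Bool) (x : U) : tor s t d (tor s' t' d' x) = tor (xor s s') (xor t t') (xor d d') x := by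
  cases s <;> cases t <;> cases d <;> cases s' <;> cases t' <;> cases d' <;> simp [tor, sg]
theorem tor_id (x : U) : tor false false false x = x := by simp [tor, sg]
theorem tor_self (s t d : Bool) (x : U) : tor s t d (tor s t d x) = x := by rw [tor_tor]; simp [tor_id]
theorem tau_mul (e : k3) (x y : U) : tau e (x * y) = tau e x * tau e y := by
  simp only [tau]; usimp; and_intros <;> first | trivial | ring
theorem tau_tau (e e' : k3) (x : U) : tau e (tau e' x) = tau (e + e') x := by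
  simp only [tau]; usimp; and_intros <;> first | trivial | ring
theorem tau_zero (x : U) : tau 0 x = x := by simp [tau]
theorem tau_tor (e : k3) (s t d : Bool) (x : U) : tau e (tor s t d x) = tor s t d (tau e x) := by
  simp only [tau, tor]; usimp; and_intros <;> first | trivial | ring
theorem hom_w1 (e : k3) : IsHomOn E1 (w1 e) := fun x hx y hy => by
  msimp at *; simp only [w1]; usimp; simp only [hx, hy]; and_intros <;> first | trivial | ring
theorem hom_w2 (e : k3) : IsHomOn E2 (w2 e) := fun x hx y hy => by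
  msimp at *; simp only [w2]; usimp; simp only [hx, hy]; and_intros <;> first | trivial | ring
theorem hom_w3 : IsHomOn E3 w3 := fun x hx y hy => by
  msimp at *; simp only [w3]; usimp; simp only [hx, hy]; and_intros <;> first | trivial | ring
theorem w1_w1 (e : k3) {x : U} (hx : x ∈ E1) : w1 e (w1 e x) = h1 x := by
  msimp at *; simp [w1, tor, sg, hx]
theorem w2_w2 (e : k3) {x : U} (hx : x ∈ E2) : w2 e (w2 e x) = h2 x := by
  msimp at *; simp [w2, tor, sg, hx]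
theorem w3_w3 {x : U} (hx : x ∈ E3) : w3 (w3 x) = h1 x := by
  msimp at *; simp only [w3, tor, sg]; usimp; simp [hx]; and_intros <;> first | trivial | ring
theorem tau_w1 (e e' : k3) {x : U} (hx : x ∈ E1) : tau e (w1 e' (tau (-e) x)) = w1 (e + e') x := by
  simp only [w1, tau]; usimp; and_intros <;> first | trivial | ring
theorem tau_w2 (e e' : k3) {x : U} (hx : x ∈ E2) : tau e (w2 e' (tau (-e) x)) = w2 (e + e') x := by
  simp only [w2, tau]; usimp; and_intros <;> first | trivial | ring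
theorem tau_w3 (e : k3) {x : U} (hx : x ∈ E3) : tau e (w3 (tau (-e) x)) = w3 x := by
  msimp at *; simp [w3, tau, hx]

/-- the three signs -/
abbrev D3 := Multiplicative (ZMod 2 × ZMod 2 × ZMod 2)

theorem dec_add (x y : ZMod 2) : decide (x + y = 1) = xor (decide (x = 1)) (decide (y = 1)) := by revert x y; decide

/-- the torus as a group of automorphisms -/
def dd : D3 →* MulAut U := MonoidHom.mk' (fun x =>
  { toFun := tor (decide (x.toAdd.1 = 1)) (decide (x.toAdd.2.1 = 1)) (decide (x.toAdd.2.2 = 1))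
    invFun := tor (decide (x.toAdd.1 = 1)) (decide (x.toAdd.2.1 = 1)) (decide (x.toAdd.2.2 = 1))
    left_inv := tor_self _ _ _
    right_inv := tor_self _ _ _
    map_mul' := tor_mul _ _ _ }) fun x y => MulEquiv.ext fun g => by
      change tor _ _ _ g = tor _ _ _ (tor _ _ _ g)
      rw [tor_tor, ← dec_add, ← dec_add, ← dec_add]; rfl

theorem dd_apply (x : D3) (g : U) :
    dd x g = tor (decide (x.toAdd.1 = 1)) (decide (x.toAdd.2.1 = 1)) (decide (x.toAdd.2.2 = 1)) g := rfl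

theorem exists_dd (s t d : Bool) : ∃ x, ∀ g, dd x g = tor s t d g :=
  ⟨.ofAdd (if s then 1 else 0, if t then 1 else 0, if d then 1 else 0), fun g => by cases s <;> cases t <;> cases d <;> rfl⟩

/-- `k`, with `sK 1 0 = J ⟨k⟩` -/
def xk : U := tt 1 1 2

/-- the candidates for the Weyl element on `sK 1 0` -/
def m4g (g : k3) (x : U) : U :=
  ⟨x.a, x.b, x.c, -g * x.q - x.r + g * x.v - g * g * x.w, -x.q + g * x.r + g * x.u - x.v, x.p - g * x.v,
    -x.p + x.r + x.u + g * x.v - x.w, -x.q + x.v - g * x.w, -x.r - x.u - x.w⟩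
/-- the candidates for the Weyl element on `sK 1 0`, conjugated by `tau e` -/
def m4 (e g : k3) (x : U) : U := tau e (m4g g (tau (-e) x))

/-- the value of a word in the maps `G 0, G 1, …` (the first letter is applied last) -/
def ev (G : List (U → U)) : List ℕ → U → U
  | [], x => x
  | n :: l, x => G.getD n id (ev G l x)

/-! ### the classes of fusion systems -/

/-- `f` is an `F`-automorphism of `E` -/
def Aut (F : FusionSystem (⊤ : Subgroup U)) (E : Subgroup U) (f : U → U) : Prop := Mor F E f ∧ ∀ y ∈ E, f y ∈ E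

/-- `Aut_F(U) = Inn(U) (Aut_F(U) ⊓ torus)` -/
def Std (F : FusionSystem (⊤ : Subgroup U)) : Prop :=
  ∀ f, Mor F ⊤ f → ∃ (y : U) (s t d : Bool), Mor F ⊤ (tor s t d) ∧ ∀ x, f x = cj y (tor s t d x)

/-- the possible essential subgroups -/
def Lst (E : Subgroup U) : Prop := E = E1 ∨ E = E2 ∨ E = E3 ∨ ∃ e i, e ≠ 0 ∧ E = sK e i

/-- the standard form of a system with parameter `e` -/
structure Dat (F : FusionSystem (⊤ : Subgroup U)) (e : k3) : Prop where
  sat : F.IsSaturated 3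
  std : Std F
  ne : e ≠ 1
  t1 : Mor F ⊤ h1
  t2 : Mor F ⊤ h2
  m1 : Mor F E1 (w1 0)
  m2 : Mor F E2 (w2 e)
  m3 : Mor F E3 w3

/-- `g` induces `f` on `P` -/
def Ind {G : Type*} [Group G] (ι : U →* G) (P : Subgroup U) (f : U → U) : Prop := ∃ n : G, ∀ x ∈ P, n * ι x * n⁻¹ = ι (f x)

/-- a group with Sylow 3-subgroup `U` and the generating maps -/
structure Md {G : Type*} [Group G] (ι : U →* G) (e : k3) : Prop where
  inj : Function.Injective ι
  idx : ¬ 3 ∣ ι.range.index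
  t1 : Ind ι ⊤ h1
  t2 : Ind ι ⊤ h2
  m1 : Ind ι E1 (w1 0)
  m2 : Ind ι E2 (w2 e)
  m3 : Ind ι E3 w3

/-- the relations of `U` -/
structure Rel {G : Type*} [Group G] (a b c p q r u v w : G) : Prop where
  a3 : a * a * a = 1
  b3 : b * b * b = 1
  c3 : c * c * c = 1
  p3 : p * p * p = 1
  q3 : q * q * q = 1
  r3 : r * r * r = 1
  u3 : u * u * u = 1
  v3 : v * v * v = 1
  w3 : w * w * w = 1
  ab : a * b = c * b * a
  ac : a * c = c * a
  bc : b * c = c * b
  cm : [p, q, r, u, v, w].Pairwise fun x y => x * y = y * x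
  aJ : a * p = p * a ∧ a * q = p * p * q * a ∧ a * r = r * a ∧ a * u = p * q * u * a ∧ a * v = r * v * a ∧ a * w = w * a
  bJ : b * p = p * b ∧ b * q = q * b ∧ b * r = q * r * b ∧ b * u = u * b ∧ b * v = u * u * v * b ∧ b * w = u * v * w * b
  cJ : c * p = p * c ∧ c * q = q * c ∧ c * r = p * p * r * c ∧ c * u = u * c ∧ c * v = q * v * c ∧ c * w = p * r * w * c

theorem rel_U : Rel xa xb xc xp xq xr xu xv xw := by
  constructor <;> decide

/-- the situation of an essential subgroup `E ≱ J`; `J₁` is an image of `E ⊓ J` under an automorphism of `E` -/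
structure Ca (E J₁ : Subgroup U) : Prop where
  nle : ¬ sJ ≤ E
  cen : ∀ g, (∀ y ∈ E, g * y = y * g) → g ∈ E
  le : J₁ ≤ E
  ab : ∀ x ∈ J₁, ∀ y ∈ J₁, x * y = y * x
  ex : ∀ x ∈ J₁, x * x * x = 1
  nrm : ∀ s ∈ E, ∀ x ∈ J₁, cj s x ∈ J₁
  card : Nat.card J₁ = Nat.card ↥(E ⊓ sJ)
  mv : ∃ x ∈ J₁, x ∉ sJ
  pr : ∀ b ∈ sJ, (∀ y ∈ E, ⁅b, y⁆ ∈ E) → ∀ x ∈ J₁, x ∉ sJ → ⁅b, x⁆ ∈ J₁ → b ∈ E

/-- `Out_F(E)` embeds into `GL₂(3) × {±1}`, through the action on `D` modulo the kernel of `(π₁, π₂)` and on `C` modulo the kernel of `χ` -/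
structure Rho (F : FusionSystem (⊤ : Subgroup U)) (E D C : Subgroup U) (π₁ π₂ χ : U → k3) (x : U) : Prop where
  sat : F.IsSaturated 3
  ess : F.IsEssential 3 E
  DE : D ≤ E
  CE : C ≤ E
  a1 : ∀ y ∈ D, ∀ z ∈ D, π₁ (y * z) = π₁ y + π₁ z
  a2 : ∀ y ∈ D, ∀ z ∈ D, π₂ (y * z) = π₂ y + π₂ z
  a3 : ∀ y ∈ C, ∀ z ∈ C, χ (y * z) = χ y + χ z
  s1 : ∃ d ∈ D, π₁ d = 1 ∧ π₂ d = 0
  s2 : ∃ d ∈ D, π₁ d = 0 ∧ π₂ d = 1
  s3 : ∃ d ∈ C, χ d = 1
  iD : ∀ f, Aut F E f → ∀ y ∈ D, f y ∈ D ∧ (π₁ y = 0 → π₂ y = 0 → π₁ (f y) = 0 ∧ π₂ (f y) = 0)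
  iC : ∀ f, Aut F E f → ∀ y ∈ C, f y ∈ C ∧ (χ y = 0 → χ (f y) = 0)
  ker : ∀ f, Aut F E f → (∀ y ∈ D, π₁ (f y) = π₁ y ∧ π₂ (f y) = π₂ y) → (∀ y ∈ C, χ (f y) = χ y) →
    ∃ u ∈ E, ∀ y ∈ E, f y = cj u y
  xn : ∀ y ∈ E, cj x y ∈ E
  x1 : ∀ y ∈ D, π₁ (cj x y) = π₁ y + π₂ y ∧ π₂ (cj x y) = π₂ y
  x3 : ∀ y ∈ C, χ (cj x y) = χ y
  inn : ∀ u ∈ E, (∀ y ∈ D, π₁ (cj u y) = π₁ y ∧ π₂ (cj u y) = π₂ y) ∧ ∀ y ∈ C, χ (cj u y) = χ y
  nrm : ∀ s, (∀ y ∈ E, cj s y ∈ E) → ∃ u ∈ E, ∃ k : ℕ, s = u * x ^ k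

/-- `Z(J ⟨k⟩)` -/
def sZK : Subgroup U where
  carrier := {g | g.a = 0 ∧ g.b = 0 ∧ g.c = 0 ∧ g.q = 0 ∧ g.r = -g.u ∧ g.v = 0 ∧ g.w = 0}
  one_mem' := by simp only [Set.mem_ofPred_eq]; usimp; simp
  mul_mem' ha hb := by simp only [Set.mem_ofPred_eq] at *; usimp; simp [ha, hb, add_comm]
  inv_mem' ha := by simp only [Set.mem_ofPred_eq] at *; usimp; simp [ha]

theorem mem_sZK : g ∈ sZK ↔ g.a = 0 ∧ g.b = 0 ∧ g.c = 0 ∧ g.q = 0 ∧ g.r = -g.u ∧ g.v = 0 ∧ g.w = 0 := Iff.rfl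

instance (g : U) : Decidable (g ∈ sZK) := decidable_of_iff' _ mem_sZK

/-- `B ≰ E` stabilises the chain `1 ≤ N ≤ Z ≤ M ≤ E`; `N` and `M` are invariant -/
structure Qm {Ω : Type*} [Group Ω] (P E : Subgroup Ω) (A : Set (Ω → Ω)) (B M Z N : Subgroup Ω) : Prop where
  le : B ≤ P
  nle : ¬ B ≤ E
  ME : M ≤ E
  ZM : Z ≤ M
  NZ : N ≤ Z
  ivM : Iv E A M
  iv : Iv E A N
  bE : ∀ b ∈ B, ∀ y ∈ E, ⁅b, y⁆ ∈ M
  bM : ∀ b ∈ B, ∀ y ∈ M, ⁅b, y⁆ ∈ Z
  bZ : ∀ b ∈ B, ∀ z ∈ Z, ⁅b, z⁆ ∈ N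
  bN : ∀ b ∈ B, ∀ n ∈ N, b * n = n * b

/-- `H` is strongly embedded in `Aut_F(E)` modulo `Inn(E)` -/
abbrev Hs (F : FusionSystem (⊤ : Subgroup U)) (E : Subgroup U) (H : Subgroup (MulAut E)) : Prop :=
  RelSPE (Inn E) (autInducedBy ⊤ E) (F.autGroup E) H

end CL.C1F
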