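/-
S5227: `J` is weakly closed; automorphisms of `J`.
-/
import Cfsg.Agent.FUS.C1.Defs

set_option autoImplicit false
set_option linter.unusedSimpArgs false
set_option linter.unusedVariables false
set_option linter.unusedSectionVars false

namespace CL.C1F

open CL.Fus CL.RF4 CL.U5 Subgroup Cfsg Cfsg.FusionSystem
open scoped commutatorElement

variable {F F' : FusionSystem (⊤ : Subgroup U)} {E P : Subgroup U} {A : Set (U → U)} {f g : U → U} {e : k3}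

namespace Jchx

theorem card_le {G κ μ : Type*} [Group G] [Finite κ] [Finite μ] {P N : Subgroup G} (χ : G → κ) (ψ : G → μ)
    (h1 : ∀ y ∈ P, ∀ y' ∈ P, χ y = χ y' → y⁻¹ * y' ∈ N)
    (h2 : ∀ y ∈ P, ∀ y' ∈ P, y ∈ N → y' ∈ N → ψ y = ψ y' → y = y') :
    Nat.card P ≤ Nat.card κ * Nat.card μ := by
  classical
  have : ∀ k : κ, ∃ r ∈ P, ∀ y ∈ P, χ y = k → χ r = k := fun k => by
    by_cases h : ∃ y ∈ P, χ y = k
    · obtain ⟨y, hy, e⟩ := h
      exact ⟨y, hy, fun _ _ _ => e⟩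
    · exact ⟨1, one_mem _, fun y hy e => absurd ⟨y, hy, e⟩ h⟩
  choose r hr hr' using this
  rw [← Nat.card_prod]
  refine Nat.card_le_card_of_injective (fun y : P => (χ y, ψ ((r (χ y))⁻¹ * y))) fun y y' e => ?_
  obtain ⟨e1, e2⟩ := Prod.ext_iff.1 e
  simp only at e1 e2
  rw [← e1] at e2
  exact Subtype.ext (mul_left_cancel (h2 _ (mul_mem (inv_mem (hr _)) y.2) _ (mul_mem (inv_mem (hr _)) y'.2)
    (h1 _ (hr _) _ y.2 (hr' _ _ y.2 rfl)) (h1 _ (hr _) _ y'.2 ((hr' _ _ y.2 rfl).trans e1)) e2))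

theorem c1 : ∀ a b c r v w : k3, (b ≠ 0 ∨ (a = 0 ∧ c ≠ 0)) →
    tt a b c * jj 0 0 r 0 v w = jj 0 0 r 0 v w * tt a b c → r = 0 ∧ v = 0 ∧ w = 0 := by decide +kernel

theorem c2 : ∀ a c q u v : k3, a ≠ 0 →
    tt a 0 c * jj 0 q 0 u v 0 = jj 0 q 0 u v 0 * tt a 0 c → q = 0 ∧ u = 0 ∧ v = 0 := by decide +kernel

theorem tt_comm {x y : U} (hy : y ∈ sJ) (h : x * y = y * x) : tt x.a x.b x.c * y = y * tt x.a x.b x.c := by
  have m : x * (tt x.a x.b x.c)⁻¹ ∈ sJ := by msimp; usimp; and_intros <;> ring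
  have e := comm_J m hy
  refine mul_left_cancel (a := x * (tt x.a x.b x.c)⁻¹) ?_
  rw [← mul_assoc, ← mul_assoc, e, inv_mul_cancel_right, mul_assoc, inv_mul_cancel_right, h]

theorem eq_jj {y : U} (hy : y ∈ sJ) : y = jj y.p y.q y.r y.u y.v y.w := by
  msimp at *; usimp; simp only [hy, and_self]

theorem div_jj {y y' : U} (hy : y ∈ sJ) (hy' : y' ∈ sJ) :
    y⁻¹ * y' = jj (y'.p - y.p) (y'.q - y.q) (y'.r - y.r) (y'.u - y.u) (y'.v - y.v) (y'.w - y.w) := by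
  msimp at *; usimp; simp only [hy, hy']; and_intros <;> ring

theorem jdec : ∀ p q r u v w : k3,
    jj p q r u v w = xp ^ p.val * xq ^ q.val * xr ^ r.val * xu ^ u.val * xv ^ v.val * xw ^ w.val := by
  decide +kernel

theorem kdec : ∀ p q r u v w : k3, jj p q r u v w * xk * (jj p q r u v w * xk) * (jj p q r u v w * xk) = 1 →
    jj p q r u v w * xk = cj (jj 0 (p - q + u) (-q + 2 * v) 0 (u - v) (-v)) xk := by
  unfold cj; decide +kernel

theorem card_J' : Nat.card sJ = 3 ^ 6 := by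
  let e : sJ ≃ k3 × k3 × k3 × k3 × k3 × k3 :=
    { toFun := fun y => (y.1.p, y.1.q, y.1.r, y.1.u, y.1.v, y.1.w)
      invFun := fun t => ⟨jj t.1 t.2.1 t.2.2.1 t.2.2.2.1 t.2.2.2.2.1 t.2.2.2.2.2, rfl, rfl, rfl⟩
      left_inv := fun y => Subtype.ext (eq_jj y.2).symm
      right_inv := fun _ => rfl }
  rw [Nat.card_congr e]; simp only [Nat.card_prod, Nat.card_zmod]; norm_num

theorem cube_J (s : U) : s * s * s ∈ sJ := by
  msimp; usimp
  exact ⟨by linear_combination s.a * three_eq, by linear_combination s.b * three_eq,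
    by linear_combination (s.c + s.a * s.b) * three_eq⟩

end Jchx

open Jchx

/-- `A ⊓ J` centralises the image `Ā` of `A` in `T = U / J` (abelian). `|C_J(t)| ≤ 27` for `t ≠ 1`, `|Ā| ≤ 9`: so `|A| ≤ 3 ^ 5` unless `A ≤ J`.
(Injective maps into products of `k3`: e.g. for `x ∈ A ∖ J`, `A ⊓ J ≤ C_J(x)` embeds into `k3 ^ 3` by three coordinates, `A / (A ⊓ J)` into `C_T(t)` or an abelian subgroup.) -/
theorem eq_J_of_ab (h : ∀ x ∈ P, ∀ y ∈ P, x * y = y * x) (hc : 3 ^ 6 ≤ Nat.card P) : P = sJ := by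
  refine eq_of_le_of_card_ge (S := ⊤) (fun x hx => by_contra fun hn => ?_) le_top (card_J'.le.trans hc)
  obtain ⟨χ, h1⟩ : ∃ χ : U → k3 × k3, ∀ y ∈ P, ∀ y' ∈ P, χ y = χ y' → y⁻¹ * y' ∈ sJ := by
    by_cases ha : ∃ z ∈ P, z.a ≠ 0
    · obtain ⟨z, hz, ha⟩ := ha
      refine ⟨fun y => (y.a, y.c), fun y hy y' hy' e => ?_⟩
      obtain ⟨e1, e2⟩ := Prod.ext_iff.1 e
      have k : ∀ y ∈ P, z.a * y.b = y.a * z.b := fun y hy => by
        have := congrArg U.c (h z hz y hy)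
        usimp at this
        linear_combination this
      have e3 : y.b = y'.b := mul_left_cancel₀ ha (by rw [k y hy, k y' hy']; exact congrArg (· * z.b) e1)
      simp only at e1 e2
      msimp; usimp; rw [e1, e2, e3]; and_intros <;> ring
    · push Not at ha
      refine ⟨fun y => (y.b, y.c), fun y hy y' hy' e => ?_⟩
      obtain ⟨e1, e2⟩ := Prod.ext_iff.1 e
      simp only at e1 e2
      msimp; usimp; rw [e1, e2, ha y hy, ha y' hy']; and_intros <;> ring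
  obtain ⟨ψ, h2⟩ : ∃ ψ : U → k3 × k3 × k3, ∀ y ∈ P, ∀ y' ∈ P, y ∈ sJ → y' ∈ sJ → ψ y = ψ y' → y = y' := by
    have k : ∀ y ∈ P, ∀ y' ∈ P, y ∈ sJ → y' ∈ sJ → tt x.a x.b x.c * (y⁻¹ * y') = y⁻¹ * y' * tt x.a x.b x.c :=
      fun y hy y' hy' m m' => tt_comm (mul_mem (inv_mem m) m') (h x hx _ (mul_mem (inv_mem hy) hy'))
    by_cases hb : x.b ≠ 0 ∨ (x.a = 0 ∧ x.c ≠ 0)
    · refine ⟨fun y => (y.p, y.q, y.u), fun y hy y' hy' m m' e => ?_⟩
      simp only [Prod.mk.injEq] at e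
      have := k y hy y' hy' m m'
      rw [div_jj m m', e.1, e.2.1, e.2.2, sub_self, sub_self, sub_self] at this
      obtain ⟨e1, e2, e3⟩ := c1 _ _ _ _ _ _ hb this
      rw [eq_jj m, eq_jj m', e.1, e.2.1, e.2.2, sub_eq_zero.1 e1, sub_eq_zero.1 e2, sub_eq_zero.1 e3]
    · push Not at hb
      have ha : x.a ≠ 0 := fun ha => hn ⟨ha, hb.1, hb.2 ha⟩
      refine ⟨fun y => (y.p, y.r, y.w), fun y hy y' hy' m m' e => ?_⟩
      simp only [Prod.mk.injEq] at e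
      have := k y hy y' hy' m m'
      rw [div_jj m m', e.1, e.2.1, e.2.2, sub_self, sub_self, sub_self, hb.1] at this
      obtain ⟨e1, e2, e3⟩ := c2 _ _ _ _ _ ha this
      rw [eq_jj m, eq_jj m', e.1, e.2.1, e.2.2, sub_eq_zero.1 e1, sub_eq_zero.1 e2, sub_eq_zero.1 e3]
  have := hc.trans (card_le χ ψ h1 h2)
  simp only [Nat.card_prod, Nat.card_zmod] at this
  omega

theorem card_J : Nat.card sJ = 3 ^ 6 := by
  exact card_J'

theorem Jchx.img_J (hf : IsHomOn sJ f) (hi : Set.InjOn f sJ) : img f sJ = sJ :=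
  eq_J_of_ab (fun x hx y hy => by
    obtain ⟨a, ha, rfl⟩ := hf.mem_img.1 hx
    obtain ⟨b, hb, rfl⟩ := hf.mem_img.1 hy
    rw [← hf ha hb, ← hf hb ha, comm_J ha hb]) (by rw [hf.card_img hi, card_J])

theorem mor_J (hf : Mor F P f) (h : sJ ≤ P) : ∀ y ∈ sJ, f y ∈ sJ := by
  exact img_le_iff.1 (img_J (hf.mono h).isHomOn (hf.mono h).injOn).le

theorem iv_J (hA : Au E A) (h : sJ ≤ E) : Ivs E A sJ := by
  intro α hα y _ hy
  obtain ⟨β, -, e⟩ := hA.inv α hα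
  exact img_le_iff.1 (img_J ((hA.hom α hα).mono h) fun a ha b hb e' => by
    rw [← (e a (h ha)).1, e', (e b (h hb)).1]).le y hy

theorem centric_of_J (h : sJ ≤ P) : F.IsCentric P := by
  refine isCentric_of_le (isCentric_iff.2 ⟨le_top, fun f hf => ?_⟩) h le_top
  rw [img_J hf.isHomOn hf.injOn]
  intro x hx
  have := mem_centralizer_iff.1 (mem_centralizerIn.1 hx).2
  exact mem_J_of_comm (this xw ⟨rfl, rfl, rfl⟩).symm (this xv ⟨rfl, rfl, rfl⟩).symm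

/-- `Aut_U(J) ≅ T` is a Sylow 3-subgroup of `Aut_F(J)` (`sylIn_of_fullyNormalized`, `fullyNormalized_of_normal`) of exponent three (`s ^ 3 ∈ J`). -/
theorem no9 (hF : F.IsSaturated 3) (hf : Mor F sJ f) (h : ∀ y ∈ sJ, f^[9] y = y) : ∀ y ∈ sJ, f^[3] y = y := by
  obtain ⟨α, hα, e⟩ := hf.exists_aut (img_J hf.isHomOn hf.injOn)
  have it : ∀ n : ℕ, ∀ y ∈ sJ, autFun (α ^ n) y = f^[n] y := fun n => by
    induction n with
    | zero => exact fun y hy => autFun_one hy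
    | succ n ih =>
      intro y hy
      rw [pow_succ', autFun_mul _ _ hy, e (autFun_mem _ hy), ih y hy, Function.iterate_succ_apply']
  have h9 : α ^ 3 ^ 2 = 1 := mulAut_ext_autFun fun y hy => by rw [it _ y hy, autFun_one hy]; exact h y hy
  have hS := sylIn_of_fullyNormalized pgT hF (fullyNormalized_of_normal F (P := sJ) le_top le_normalizer_of_normal)
  obtain ⟨γ, -, hγ⟩ := hS.exists_conj_le (zpowers_le.2 hα) (CL.MSS.isPGroup_zpowers h9)
  obtain ⟨s, -, es⟩ := mem_autInducedBy_iff.1 (hγ α (mem_zpowers α))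
  have h3 : (γ * α * γ⁻¹) ^ 3 = 1 := mulAut_ext_autFun fun y hy => by
    rw [autFun_one hy, pow_succ, pow_two, autFun_mul _ _ hy, autFun_mul _ _ (autFun_mem _ hy),
      es (autFun_mem _ (autFun_mem _ hy)), es (autFun_mem _ hy), es hy, ← cj_mul, ← cj_mul]
    exact cj_eq_self_iff.2 (comm_J (cube_J s) hy)
  rw [conj_pow, mul_inv_eq_one, mul_eq_left] at h3
  intro y hy
  rw [← it 3 y hy, h3, autFun_one hy]

/-- `exists_extend_of_isCentric`, `P ≤ Nphi` -/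
theorem ext_J (hF : F.IsSaturated 3) (hf : Mor F sJ f) (hP : sJ ≤ P) (h : ∀ s ∈ P, ∃ s', ∀ y ∈ sJ, f (cj s y) = cj s' (f y)) :
    ∃ g, Mor F P g ∧ Set.EqOn g f sJ := by
  obtain ⟨g, hg, e⟩ := exists_extend_of_isCentric pgT hF hf (centric_of_J le_rfl)
  refine ⟨g, hg.mono fun s hs => ?_, e⟩
  obtain ⟨s', e'⟩ := h s hs
  exact mem_Nphi.2 ⟨mem_top _, le_normalizer_of_normal (K := ⊤) (mem_top s), s', mem_top _, e'⟩

theorem mor_ev {G : List (U → U)} (h : ∀ g ∈ G, Mor F sJ g) (l : List ℕ) : Mor F sJ (ev G l) := by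
  induction l with
  | nil => exact mor_id F le_top
  | cons n l ih =>
    have : Mor F sJ (G.getD n id) := by
      by_cases hn : n < G.length
      · rw [List.getD_eq_getElem _ _ hn]; exact h _ (List.getElem_mem hn)
      · rw [List.getD_eq_default _ _ (not_lt.1 hn)]; exact mor_id F le_top
    exact this.comp ih (mor_J ih le_rfl)

theorem eq_on_J (hf : IsHomOn sJ f) (hg : IsHomOn sJ g) (h : ∀ y ∈ [xp, xq, xr, xu, xv, xw], f y = g y) : ∀ y ∈ sJ, f y = g y := by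
  have k : ∀ y ∈ [xp, xq, xr, xu, xv, xw], ∀ n : ℕ, y ^ n ∈ hf.eqSub hg := fun y hy n =>
    pow_mem ((hf.mem_eqSub hg).2 ⟨(by decide : ∀ y ∈ [xp, xq, xr, xu, xv, xw], y ∈ sJ) y hy, h y hy⟩) n
  intro y hy
  refine ((hf.mem_eqSub hg).1 ?_).2
  rw [eq_jj hy, jdec]
  refine mul_mem (mul_mem (mul_mem (mul_mem (mul_mem (k _ ?_ _) (k _ ?_ _)) (k _ ?_ _)) (k _ ?_ _)) (k _ ?_ _))
    (k _ ?_ _) <;> simp

/-- an endomorphism of `K = J ⟨xk⟩` fixing `J` pointwise and `K / J` is inner: `f xk = j xk`, `(j xk) ^ 3 = 1` says that the norm of `j` vanishes, and then `j = ⁅j', xk⁆` (`decide` over `J`) -/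
theorem inner_K (hf : IsHomOn (sK 1 0) f) (m : ∀ y ∈ sK 1 0, f y ∈ sK 1 0) (h1 : ∀ y ∈ sJ, f y = y) :
    ∃ u ∈ sJ, ∀ y ∈ sK 1 0, f y = cj u y := by
  have JK : sJ ≤ sK 1 0 := fun y hy => by msimp at *; simp [hy]
  have kK : xk ∈ sK 1 0 := by decide
  have k : ∀ y ∈ sJ, f xk * xk⁻¹ * y = y * (f xk * xk⁻¹) := fun y hy => by
    have m : cj xk⁻¹ y ∈ sJ := Subgroup.Normal.conj_mem inferInstance y hy _
    have e := hf.map_cj kK (JK m)
    rw [cj_cj_inv, h1 y hy, h1 _ m, ← cj_mul] at e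
    exact cj_eq_self_iff.1 e.symm
  have j := mem_J_of_comm (k xw (by decide)) (k xv (by decide))
  have e : f xk = jj _ _ _ _ _ _ * xk := eq_mul_of_mul_inv_eq (eq_jj j)
  have e3 : f xk * f xk * f xk = 1 := by
    rw [← hf kK kK, ← hf (mul_mem kK kK) kK, show xk * xk * xk = 1 by decide, hf.map_one]
  rw [e] at e3
  have e4 := e.trans (kdec _ _ _ _ _ _ e3)
  obtain ⟨u, hu, e5⟩ : ∃ u ∈ sJ, f xk = cj u xk := ⟨jj _ _ _ _ _ _, ⟨rfl, rfl, rfl⟩, e4⟩
  refine ⟨u, hu, fun y hy => ((hf.mem_eqSub (isHomOn_cj _ u)).1 ?_).2⟩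
  have m1 : xk ∈ hf.eqSub (isHomOn_cj _ u) := ⟨kK, e5⟩
  have m2 : ∀ y ∈ sJ, y ∈ hf.eqSub (isHomOn_cj _ u) := fun y hy =>
    ⟨JK hy, (h1 y hy).trans (cj_eq_self_iff.2 (comm_J hu hy)).symm⟩
  obtain ⟨e1, e2⟩ := hy
  rcases k3_cases y.a with ha | ha | ha
  · exact m2 y ⟨ha, by rw [e1, ha]; rfl, by rw [e2, ha]; rfl⟩
  · have := mul_mem (m2 (y * xk⁻¹) (by unfold xk; msimp; usimp; rw [e1, e2, ha]; decide)) m1
    rwa [inv_mul_cancel_right] at this
  · have := mul_mem (m2 (y * xk) (by unfold xk; msimp; usimp; rw [e1, e2, ha]; decide)) (inv_mem m1)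
    rwa [mul_inv_cancel_right] at this

end CL.C1F
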