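/-
S5227: the pair lemma for all maximal elements; chains.
-/
import Cfsg.Agent.FUS.C1.Defs

set_option autoImplicit false
set_option linter.unusedSimpArgs false
set_option linter.unusedVariables false
set_option linter.unusedSectionVars false

namespace CL.C1F

open CL.Fus CL.RF4 CL.U5 Subgroup Cfsg Cfsg.FusionSystem
open scoped commutatorElement

variable {F F' : FusionSystem (⊤ : Subgroup U)} {E P : Subgroup U} {A : Set (U → U)} {f g : U → U} {e : k3}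

/-- Copy the second half of `CL.U5.cp_of_essential` (FUS/U5/Pair) with `X` for `F.autGroup E` in the choice of `ψ`; in the first part the chain is `1 ≤ N ≤ Z ≤ M ≤ E`
(group `X ⊓ stabAut E Z`; the 3-group found there lies in `F.autGroup E`). -/
theorem pr_of_max {Ω : Type*} [Group Ω] [Finite Ω] {S E B M Z N : Subgroup Ω} {F : FusionSystem S} {p : ℕ} [Fact p.Prime]
    (hS : IsPGroup p S) (hF : F.IsSaturated p) (hE : F.IsEssential p E) {H X : Subgroup (MulAut E)}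
    (hH : RelSPE (Inn E) (autInducedBy S E) (F.autGroup E) H) (hX : X ≤ F.autGroup E) (hT : autInducedBy S E ≤ X)
    (q : Qm S E {f | ∃ α ∈ X, f = autFun α} B M Z N) {ψ : MulAut E} (hψ : ψ ∈ X) (hψ' : ψ ∉ H)
    (mx : ∀ γ ∈ X, γ ∉ H → {y | y ∈ Z ∧ autFun γ y ∈ Z}.ncard ≤ {y | y ∈ Z ∧ autFun ψ y ∈ Z}.ncard) :
    Pr E B Z (autFun ψ) := by
  have hES : E ≤ S := hE.1.1
  have hc := centralizerIn_le_of_isCentric hE.1
  have hT' := sylIn_of_fullyNormalized hS hF hE.2.1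
  have hI := autGroup_le_normalizer_inn F E
  have ZE : Z ≤ E := q.ZM.trans q.ME
  have hn : ∀ {b}, b ∈ B → b ∈ normalizer (E : Set Ω) := fun hb => mem_normalizer_of_comm fun y hy => q.ME (q.bE _ hb y hy)
  have cT : ∀ {b} (hb : b ∈ B), cjAut E b (hn hb) ∈ autInducedBy S E := fun hb => cjAut_mem_autInducedBy (q.le hb) _
  have cI : ∀ {b} (hb : b ∈ B), b ∉ E → cjAut E b (hn hb) ∉ Inn E := fun hb k => mt (cjAut_mem_inn_iff hES hc (q.le hb) _).1 k
  have bZ : ∀ {b}, b ∈ B → ∀ z ∈ Z, cj b z ∈ Z := fun hb z hz => by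
    simpa [cj, commutatorElement_def] using mul_mem (q.NZ (q.bZ _ hb z hz)) hz
  refine ⟨?_, fun z hz hw b hb z' hz' e => ?_⟩
  · by_contra! k
    obtain ⟨b, hb, hb'⟩ := SetLike.not_le_iff_exists.1 q.nle
    set X' := X ⊓ stabAut E Z
    have st : ∀ {α}, α ∈ X → (∀ z ∈ Z, autFun α z ∈ Z) → α ∈ X' := fun {α} hα k => ⟨hα, fun y hy => ⟨fun k' =>
      autFun_inv_autFun α hy ▸ (au_fa F E).mem_of_inv (X := Z) ⟨α, hX hα, rfl⟩ (fun y hy => autFun_inv_autFun α hy) (fun y _ => k y)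
        (autFun_mem α hy) k', k y⟩⟩
    have iZ : Iv E {f | ∃ α ∈ X', f = autFun α} Z := by rintro _ ⟨γ, hγ, rfl⟩ y hy k; exact (hγ.2 y hy).2 k
    have iN : Iv E {f | ∃ α ∈ X', f = autFun α} N := q.iv.mono fun _ ⟨γ, hγ, e⟩ => ⟨γ, hγ.1, e⟩
    have iM : Iv E {f | ∃ α ∈ X', f = autFun α} M := q.ivM.mono fun _ ⟨γ, hγ, e⟩ => ⟨γ, hγ.1, e⟩
    have h1 := mem_pCore_of_chain (hS.to_le hES) (st (hT (cT hb)) fun z hz => autFun_cjAut (hn hb) (ZE hz) ▸ bZ hb z hz) le_top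
      (stabStep p (hn hb) ((((Ch.base (CxF.au_of X') iN fun y _ => q.bN b hb y).step iN iZ fun y _ => q.bZ b hb y).step iZ iM
        fun y _ => q.bM b hb y).step iM Iv.top fun y hy _ => q.bE b hb y hy))
    refine hψ' (hH.mem_of_isPGroup_pair hT' hI (cT hb) (cI hb hb') (cT hb) (cI hb hb') (hX hψ)
      ((CL.Fus.isPGroup_map_pCore X').to_le ((closure_le _).2 ?_)))
    rintro _ (rfl | rfl)
    exacts [h1, (mem_normalizer_iff.1 (le_normalizer_map_pCore X' (st hψ k)) _).1 h1]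
  by_contra hb'
  have ev : ∀ y ∈ E, autFun (ψ⁻¹ * cjAut E b⁻¹ (hn (inv_mem hb)) * ψ⁻¹⁻¹) y = autFun ψ⁻¹ (cj b⁻¹ (autFun ψ y)) := fun y hy => by
    rw [inv_inv, autFun_mul _ _ hy, autFun_mul _ _ (autFun_mem ψ hy), autFun_cjAut _ (autFun_mem ψ hy)]
  have e1 : autFun ψ (z' * z) = cj b (autFun ψ z) := by
    rw [isHomOn_autFun ψ (ZE hz') (ZE hz), ← e]; simp [cj, commutatorElement_def]
  refine (mx _ (mul_mem (mul_mem (inv_mem hψ) (hT (cT (inv_mem hb)))) (inv_mem (inv_mem hψ))) fun k => hψ' (inv_mem_iff.1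
    (hH.mem_of_conj_mem' hT' hI (cT (inv_mem hb)) (cI (inv_mem hb) (mt inv_mem_iff.1 hb')) (inv_mem (hX hψ)) k))).not_gt
    (Set.ncard_lt_ncard ⟨fun y ⟨hy, hy'⟩ => ⟨hy, ?_⟩, fun k => hw ?_⟩)
  · have k := q.bZ _ (inv_mem hb) _ hy'
    rw [ev y (ZE hy), show cj b⁻¹ (autFun ψ y) = ⁅b⁻¹, autFun ψ y⁆ * autFun ψ y by simp [cj, commutatorElement_def],
      isHomOn_autFun _ (ZE (q.NZ k)) (ZE hy'), autFun_inv_autFun ψ (ZE hy)]
    exact mul_mem (q.NZ (q.iv _ ⟨_, inv_mem hψ, rfl⟩ _ (ZE (q.NZ k)) k)) hy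
  · have := (k (show z' * z ∈ {y | y ∈ Z ∧ _} from ⟨mul_mem hz' hz, by
      rwa [ev _ (ZE (mul_mem hz' hz)), e1, cj_inv_cj, autFun_inv_autFun ψ (ZE hz)]⟩)).2
    simpa only [e1, cj_inv_cj] using bZ (inv_mem hb) _ this

/-- `Mor.exists_aut`, `mem_pCore_of_chain` (first alternative of `StabStep`), `isRadical_of_essential` -/
theorem inner_of_chain (hF : F.IsSaturated 3) (hE : F.IsEssential 3 E) (hf : Aut F E f) (L : List (Subgroup U))
    (hL : ∀ B ∈ L, Ivs E (fa F E) B) (h : List.IsChain (fun B C : Subgroup U => ∀ y ∈ E, y ∈ C → y⁻¹ * f y ∈ B) (⊥ :: (L ++ [⊤]))) :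
    ∃ u ∈ E, ∀ y ∈ E, f y = cj u y := by
  obtain ⟨α, hα, e⟩ := hf.1.exists_aut (hf.1.img_eq_self hf.2)
  have key : ∀ (L : List (Subgroup U)) (B : Subgroup U), Ivs E (fa F E) B → (∀ B ∈ L, Ivs E (fa F E) B) →
      List.IsChain (fun B C : Subgroup U => ∀ y ∈ E, y ∈ C → y⁻¹ * f y ∈ B) (B :: (L ++ [⊤])) →
      Relation.ReflTransGen (StabStep 3 (F.autGroup E) α) B ⊤ := by
    intro L
    have st : ∀ B C : Subgroup U, Ivs E (fa F E) B → Ivs E (fa F E) C → (∀ y ∈ E, y ∈ C → y⁻¹ * f y ∈ B) →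
        StabStep 3 (F.autGroup E) α B C := fun B C hB hC k =>
      .inl ⟨fun β hβ => hB _ ⟨β, hβ, rfl⟩, fun β hβ => hC _ ⟨β, hβ, rfl⟩, fun y hy hy' => e hy ▸ k y hy hy'⟩
    induction L with
    | nil => exact fun B hB _ k => .single (st _ _ hB Iv.top (List.isChain_pair.1 k))
    | cons C L ih =>
      intro B hB hL k
      rw [List.cons_append, List.isChain_cons_cons] at k
      exact .head (st _ _ hB (hL C (by simp)) k.1) (ih C (hL C (by simp)) (fun D hD => hL D (by simp [hD])) k.2)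
  have h1 := mem_pCore_of_chain (pgU.to_subgroup E) hα le_top (key L ⊥ (au_fa F E).iv_bot hL h)
  rw [(isRadical_of_essential pgT hF hE).2] at h1
  obtain ⟨u, hu, e'⟩ := mem_inn_iff.1 h1
  exact ⟨u, hu, fun y hy => (e hy).symm.trans (e' hy)⟩

theorem aut_of_fa (hE : f ∈ fa F E) : Aut F E f := by
  obtain ⟨α, hα, rfl⟩ := hE
  exact ⟨mor_autFun le_top hα, fun y hy => autFun_mem α hy⟩

theorem iv_of_fa {X : Set U} (h : Iv E (fa F E) X) (hf : Aut F E f) : ∀ y ∈ E, y ∈ X → f y ∈ X := by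
  obtain ⟨α, hα, e⟩ := hf.1.exists_aut (hf.1.img_eq_self hf.2)
  exact fun y hy k => e hy ▸ h _ ⟨α, hα, rfl⟩ y hy k

end CL.C1F
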