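/-
S5227: the stabiliser of the centre in `Aut_F(J)`.
-/
import Cfsg.Agent.FUS.C1.PrAll
import Cfsg.Agent.FUS.C1.Jch

set_option autoImplicit false
set_option linter.unusedSimpArgs false
set_option linter.unusedVariables false
set_option linter.unusedSectionVars false

namespace CL.C1F

open CL.Fus CL.RF4 CL.U5 Subgroup Cfsg Cfsg.FusionSystem
open scoped commutatorElement

variable {F F' : FusionSystem (⊤ : Subgroup U)} {E P : Subgroup U} {A : Set (U → U)} {f g : U → U} {e : k3}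

variable {H : Subgroup (MulAut sJ)} {θ : MulAut sJ}

namespace J1

theorem Z_Y : sZ ≤ sY1 := fun y h => by msimp at *; simp [h]
theorem Y_J : sY1 ≤ sJ := fun y h => by msimp at *; simp [h]
theorem nJ (s : U) : s ∈ normalizer (sJ : Set U) := by rw [normalizer_eq_top]; trivial

/-- the conjugation action on `J` -/
def cJ (s : U) : MulAut sJ := cjAut sJ s (nJ s)

theorem cJ_ap (s : U) {y : U} (hy : y ∈ sJ) : autFun (cJ s) y = cj s y := autFun_cjAut _ hy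
theorem cJ_T (s : U) : cJ s ∈ autInducedBy ⊤ sJ := cjAut_mem_autInducedBy (mem_top s) _
theorem cJ_I (hE : F.IsEssential 3 sJ) {s : U} (h : s ∉ sJ) : cJ s ∉ Inn sJ :=
  mt (cjAut_mem_inn_iff le_top (centralizerIn_le_of_isCentric hE.1) trivial _).1 h

theorem br {y d : U} (hy : y ∈ sJ) (hd : d ∈ sY1) {a c : k3} (e1 : a * y.u + c * y.v = d.q) (e2 : a * y.v + c * y.w = d.r) :
    d⁻¹ * ⁅tt a 0 c, y⁆ ∈ sZ := by
  msimp at *; usimp; simp only [hy, hd, ← e1, ← e2]; and_intros <;> ring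

theorem key {ψ : U → U} (hψ : IsHomOn sJ ψ) (m : ∀ y ∈ sJ, ψ y ∈ sJ) (o : ∀ z ∈ sZ, ∃ z' ∈ sZ, ψ z' = z) (pr : Pr sJ E2 sY1 ψ) :
    (∀ z ∈ sY1, ψ z ∉ sY1 → (ψ z).u * (ψ z).w - (ψ z).v * (ψ z).v ≠ 0) ∧ ∀ z ∈ sY1, ψ z ∈ sY1 → ψ z ∈ sZ := by
  have A : ∀ z ∈ sY1, ψ z ∉ sY1 → ∀ z' ∈ sY1, ψ z' ∈ sY1 → ∀ a c : k3, a * (ψ z).u + c * (ψ z).v = (ψ z').q →
      a * (ψ z).v + c * (ψ z).w = (ψ z').r → a = 0 ∧ c = 0 := fun z hz n z' hz' n' a c e1 e2 => by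
    obtain ⟨ζ, hζ, e⟩ := o _ (br (m z (Y_J hz)) n' e1 e2)
    have := pr.2 z hz n (tt a 0 c) rfl (z' * ζ) (mul_mem hz' (Z_Y hζ)) (by
      rw [hψ (Y_J hz') (Y_J (Z_Y hζ)), e, mul_inv_cancel_left])
    exact ⟨this.1, this.2.2⟩
  have K : ∀ z ∈ sY1, ψ z ∉ sY1 → (ψ z).u * (ψ z).w - (ψ z).v * (ψ z).v ≠ 0 := fun z hz n e => by
    obtain ⟨a, c, h0, e1, e2⟩ := (by decide : ∀ u v w : k3, u * w - v * v = 0 → ∃ a c : k3, ¬ (a = 0 ∧ c = 0) ∧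
      a * u + c * v = 0 ∧ a * v + c * w = 0) _ _ _ e
    exact h0 (A z hz n 1 (one_mem _) (by rw [hψ.map_one]; exact one_mem _) a c (by rw [hψ.map_one]; exact e1)
      (by rw [hψ.map_one]; exact e2))
  refine ⟨K, fun z' hz' n' => ?_⟩
  obtain ⟨z, hz, n⟩ := pr.1
  obtain ⟨a, c, e1, e2⟩ := (by decide : ∀ u v w q r : k3, u * w - v * v ≠ 0 → ∃ a c : k3, a * u + c * v = q ∧ a * v + c * w = r)
    _ _ _ (ψ z').q (ψ z').r (K z hz n)
  obtain ⟨rfl, rfl⟩ := A z hz n z' hz' n' a c e1 e2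
  msimp at *
  simp only [n', ← e1, ← e2]; simp

theorem qm (X : Subgroup (MulAut sJ)) (hX : X ≤ stabAut sJ sZ) : Qm ⊤ sJ {f | ∃ α ∈ X, f = autFun α} E2 sJ sY1 sZ where
  le := le_top
  nle := fun h => absurd (h (show xa ∈ E2 by decide)) (by decide)
  ME := le_rfl
  ZM := Y_J
  NZ := Z_Y
  ivM := by rintro _ ⟨α, -, rfl⟩ y hy -; exact autFun_mem α hy
  iv := by rintro _ ⟨α, hα, rfl⟩ y hy k; exact (hX hα y hy).2 k
  bE := fun b hb y hy => by msimp at *; usimp; simp only [hb, hy]; and_intros <;> ring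
  bM := fun b hb y hy => by msimp at *; usimp; simp only [hb, hy]; and_intros <;> ring
  bZ := fun b hb y hy => by msimp at *; usimp; simp only [hb, hy]; and_intros <;> ring
  bN := fun b hb y hy => by msimp at *; usimp; simp only [hb, hy]; and_intros <;> first | trivial | ring

end J1

open J1

/-- Suppose `X = Aut_F(J) ⊓ stabAut J Z ≰ H`. `pr_of_max` with `B = E2`, `M = sJ`, `Z = sY1`, `N = sZ`. For a maximal `ψ` and `y ∈ ψ Y₁ ∖ Y₁`, `(a, c) ↦ ⁅tt a 0 c, y⁆ = (q : a u + c v, r : a v + c w)`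
is injective modulo `D = Y₁ ⊓ ψ Y₁ ≥ Z`, so `D = Z` (`|Y₁| = 27`) and `u w - v² ≠ 0`. All `θ ∈ X ∖ H` have `Y₁ ⊓ θ⁻¹ Y₁ ≥ Z`, hence are maximal. The 27 sets `c_t ψ (Y₁ ∖ Z)`, `t = tt a b c`, are disjoint
(`ψ⁻¹ c_{t⁻¹ t'} ψ ∈ X ∖ H` by `RelSPE.mem_of_conj_mem'`) and lie in `{y ∈ J | u w - v² ≠ 0}`: `27 * 24 ≤ 27 * 18`, false. -/
theorem j1 (hF : F.IsSaturated 3) (hE : F.IsEssential 3 sJ) (hH : Hs F sJ H) (hθ : θ ∈ F.autGroup sJ) (h : ∀ z ∈ sZ, autFun θ z ∈ sZ) :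
    θ ∈ H := by
  by_contra hθ'
  have hT := sylIn_of_fullyNormalized pgT hF hE.2.1
  have hI := autGroup_le_normalizer_inn F sJ
  set X := F.autGroup sJ ⊓ stabAut sJ sZ
  have st : ∀ {α}, α ∈ F.autGroup sJ → (∀ z ∈ sZ, autFun α z ∈ sZ) → α ∈ X := fun {α} hα k => ⟨hα, fun y hy => ⟨fun k' =>
    autFun_inv_autFun α hy ▸ (au_fa F sJ).mem_of_inv (X := sZ) ⟨α, hα, rfl⟩ (fun y hy => autFun_inv_autFun α hy) (fun y _ => k y)
      (autFun_mem α hy) k', k y⟩⟩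
  have TX : autInducedBy ⊤ sJ ≤ X := fun α hα => st (hT.le hα) fun z hz => by
    obtain ⟨g, -, e⟩ := mem_autInducedBy_iff.1 hα
    rw [e (Y_J (Z_Y hz))]; exact Normal.conj_mem inferInstance z hz g
  have on : ∀ {γ}, γ ∈ X → ∀ z ∈ sZ, ∃ z' ∈ sZ, autFun γ z' = z := fun {γ} hγ z hz =>
    ⟨autFun γ⁻¹ z, ((inv_mem hγ).2 z (Y_J (Z_Y hz))).2 hz, autFun_autFun_inv γ (Y_J (Z_Y hz))⟩
  have kk : ∀ {ψ}, ψ ∈ X → ψ ∉ H → (∀ γ ∈ X, γ ∉ H → {y | y ∈ sY1 ∧ autFun γ y ∈ sY1}.ncard ≤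
      {y | y ∈ sY1 ∧ autFun ψ y ∈ sY1}.ncard) → _ := fun {ψ} h1 h2 mx =>
    key (isHomOn_autFun ψ) (fun y hy => autFun_mem ψ hy) (on h1)
      (pr_of_max pgT hF hE hH inf_le_left TX (qm X inf_le_right) h1 h2 mx)
  obtain ⟨ψ, ⟨hψ, hψ'⟩, mx⟩ := Set.exists_max_image {γ | γ ∈ X ∧ γ ∉ H}
    (fun γ => {y | y ∈ sY1 ∧ autFun γ y ∈ sY1}.ncard) (Set.toFinite _) ⟨θ, st hθ h, hθ'⟩
  have all : ∀ {γ}, γ ∈ X → γ ∉ H → ∀ z ∈ sY1, z ∉ sZ → autFun γ z ∉ sY1 ∧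
      (autFun γ z).u * (autFun γ z).w - (autFun γ z).v * (autFun γ z).v ≠ 0 := fun {γ} h1 h2 z hz n => by
    have := kk h1 h2 fun δ a b => (mx δ ⟨a, b⟩).trans (Set.ncard_le_ncard (fun y hy => by
      have yz := (hψ.2 y (Y_J hy.1)).1 ((kk hψ hψ' fun δ a b => mx δ ⟨a, b⟩).2 y hy.1 hy.2)
      exact ⟨hy.1, Z_Y ((h1.2 y (Y_J hy.1)).2 yz)⟩) (Set.toFinite _))
    have n' : autFun γ z ∉ sY1 := fun k => n ((h1.2 z (Y_J hz)).1 (this.2 z hz k))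
    exact ⟨n', this.1 z hz n'⟩
  have cH : ∀ s, cJ s ∈ H := fun s => hH.le hT.le (cJ_T s)
  have mY : ∀ p q r, jj p q r 0 0 0 ∈ sY1 := fun p q r => by msimp; simp
  have nZ : ∀ p q r, ¬ (q = 0 ∧ r = 0) → jj p q r 0 0 0 ∉ sZ := fun p q r n k => n ⟨k.2.2.2.1, k.2.2.2.2.1⟩
  let φ : (k3 × k3 × k3) × {x : k3 × k3 × k3 // ¬ (x.2.1 = 0 ∧ x.2.2 = 0)} → U := fun x =>
    autFun (cJ (tt x.1.1 x.1.2.1 x.1.2.2) * ψ) (jj x.2.1.1 x.2.1.2.1 x.2.1.2.2 0 0 0)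
  have φJ : ∀ x, φ x ∈ sJ := fun x => autFun_mem _ (Y_J (mY _ _ _))
  have inj : Function.Injective φ := by
    rintro ⟨⟨a, b, c⟩, ⟨p, q, r⟩, n⟩ ⟨⟨a', b', c'⟩, ⟨p', q', r'⟩, n'⟩ e
    simp only [φ] at e
    by_cases k : (tt a' b' c')⁻¹ * tt a b c ∈ sJ
    · obtain ⟨rfl, rfl, rfl⟩ : a = a' ∧ b = b' ∧ c = c' := by
        revert k; generalize a = a, b = b, c = c, a' = a', b' = b', c' = c'; revert a b c a' b' c'; decide +kernel
      have := autFun_injOn _ (Y_J (mY _ _ _)) (Y_J (mY _ _ _)) e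
      simp only [jj, U.mk.injEq] at this
      obtain ⟨-, -, -, rfl, rfl, rfl, -⟩ := this
      rfl
    · refine absurd ?_ (all (γ := ψ⁻¹ * cJ ((tt a' b' c')⁻¹ * tt a b c) * ψ⁻¹⁻¹)
        (mul_mem (mul_mem (inv_mem hψ) (TX (cJ_T _))) (inv_mem (inv_mem hψ))) (fun m => hψ' (inv_mem_iff.1
          (hH.mem_of_conj_mem' hT hI (cJ_T _) (cJ_I hE k) (inv_mem hψ.1) m))) _ (mY p q r) (nZ _ _ _ n)).1
      have y1 := Y_J (mY p q r)
      have y2 := Y_J (mY p' q' r')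
      rw [autFun_mul _ _ y1, autFun_mul _ _ y2, cJ_ap _ (autFun_mem _ y1), cJ_ap _ (autFun_mem _ y2)] at e
      rw [inv_inv, autFun_mul _ _ y1, autFun_mul _ _ (autFun_mem _ y1), cJ_ap _ (autFun_mem _ y1),
        show ∀ y, cj ((tt a' b' c')⁻¹ * tt a b c) y = cj (tt a' b' c')⁻¹ (cj (tt a b c) y) from fun y => by simp [cj, mul_assoc],
        e, cj_inv_cj, autFun_inv_autFun ψ y2]
      exact mY _ _ _
  have := Fintype.card_le_of_injective (β := (k3 × k3 × k3) × {x : k3 × k3 × k3 // x.1 * x.2.2 - x.2.1 * x.2.1 ≠ 0})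
    (fun x => (((φ x).p, (φ x).q, (φ x).r), ⟨((φ x).u, (φ x).v, (φ x).w), (all (mul_mem (TX (cJ_T _)) hψ)
      (fun m => hψ' ((mul_mem_cancel_left (cH _)).1 m)) _ (mY _ _ _) (nZ _ _ _ x.2.2)).2⟩)) fun x y e => inj (by
        have h1 := φJ x
        have h2 := φJ y
        simp only [Prod.mk.injEq, Subtype.mk.injEq] at e
        msimp at h1 h2
        ext <;> simp only [h1, h2, e])
  rw [Fintype.card_prod, Fintype.card_prod (k3 × k3 × k3) {x : k3 × k3 × k3 // _}] at this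
  revert this; decide +kernel

/-- `θ⁻¹ c_t θ` fixes `xp`, so it is in `H` by `j1`; `RelSPE.mem_of_conj_mem'` gives `θ⁻¹ ∈ H` unless `c_t ∈ Inn J`. -/
theorem j2 (hF : F.IsSaturated 3) (hE : F.IsEssential 3 sJ) (hH : Hs F sJ H) (hθ : θ ∈ F.autGroup sJ) (h : θ ∉ H) {t : U}
    (ht : cj t (autFun θ xp) = autFun θ xp) : t ∈ sJ := by
  by_contra k
  have hT := sylIn_of_fullyNormalized pgT hF hE.2.1
  have hp : xp ∈ sJ := by decide
  refine h (inv_mem_iff.1 (hH.mem_of_conj_mem' hT (autGroup_le_normalizer_inn F sJ) (cJ_T t) (cJ_I hE k) (inv_mem hθ)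
    (j1 hF hE hH (mul_mem (mul_mem (inv_mem hθ) (hT.le (cJ_T t))) (inv_mem (inv_mem hθ))) fun z hz => ?_)))
  have e : autFun (θ⁻¹ * cJ t * θ⁻¹⁻¹) xp = xp := by
    rw [inv_inv, autFun_mul _ _ hp, autFun_mul _ _ (autFun_mem _ hp), cJ_ap _ (autFun_mem _ hp), ht, autFun_inv_autFun θ hp]
  generalize θ⁻¹ * cJ t * θ⁻¹⁻¹ = γ at e
  have : z = 1 ∨ z = xp ∨ z = xp * xp := by
    msimp at hz
    rcases k3_cases z.p with k | k | k
    · left; usimp; simp [hz, k]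
    · right; left; msimp; usimp; simp [hz, k]
    · right; right; msimp; usimp; simp [hz, k]; rfl
  rcases this with rfl | rfl | rfl
  · rw [(isHomOn_autFun γ).map_one]; exact hz
  · rwa [e]
  · rwa [isHomOn_autFun γ hp hp, e]

/-- an automorphism conjugating some `c_s`, `s ∉ J`, into `Aut_U(J)` lies in `H` -/
theorem mem_H (hF : F.IsSaturated 3) (hE : F.IsEssential 3 sJ) (hH : Hs F sJ H) (hθ : θ ∈ F.autGroup sJ) {s s' : U} (hs : s ∉ sJ)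
    (h : ∀ y ∈ sJ, autFun θ (cj s y) = cj s' (autFun θ y)) : θ ∈ H := by
  have hT := sylIn_of_fullyNormalized pgT hF hE.2.1
  refine hH.mem_of_conj_mem' hT (autGroup_le_normalizer_inn F sJ) (cJ_T s) (cJ_I hE hs) hθ ?_
  rw [show θ * cJ s * θ⁻¹ = cJ s' from mulAut_ext_autFun fun y hy => by
    rw [autFun_mul _ _ hy, autFun_mul _ _ (autFun_mem _ hy), cJ_ap _ (autFun_mem _ hy), h _ (autFun_mem _ hy),
      autFun_autFun_inv θ hy, cJ_ap _ hy]]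
  exact hH.le hT.le (cJ_T s')

theorem not_norm_Z (hF : F.IsSaturated 3) (hE : F.IsEssential 3 sJ) : ¬ ∀ f, Mor F sJ f → ∀ y ∈ sZ, f y ∈ sZ := fun k => by
  obtain ⟨H, hH⟩ := exists_relSPE_of_essential pgT hF hE
  exact hH.2.1.not_ge fun θ hθ => j1 hF hE hH hθ (k _ (mor_autFun le_top hθ))

end CL.C1F
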