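/-
S5227: two counting arguments with `W`.
-/
import Cfsg.Agent.FUS.C1.PrAll
import Cfsg.Agent.FUS.C1.Jch

set_option autoImplicit false
set_option linter.unusedSimpArgs false
set_option linter.unusedVariables false
set_option linter.unusedSectionVars false

namespace CL.C1F

open CL.Fus CL.RF4 CL.U5 Subgroup Cfsg Cfsg.FusionSystem
open scoped commutatorElement

variable {F F' : FusionSystem (⊤ : Subgroup U)} {E P : Subgroup U} {A : Set (U → U)} {f g : U → U} {e : k3}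

namespace KYx

theorem card_W : Nat.card sW = 27 := by
  have k : sW ≃ k3 × k3 × k3 :=
    { toFun := fun x => (x.1.p, x.1.q, x.1.u)
      invFun := fun t => ⟨jj t.1 t.2.1 0 t.2.2 0 0, ⟨rfl, rfl, rfl, rfl, rfl, rfl⟩⟩
      left_inv := fun x => Subtype.ext (by
        obtain ⟨h1, h2, h3, h4, h5, h6⟩ := x.2
        exact U.ext h1.symm h2.symm h3.symm rfl rfl h4.symm rfl h5.symm h6.symm)
      right_inv := fun t => rfl }
  rw [Nat.card_congr k]; simp only [Nat.card_prod, Nat.card_zmod]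

/-- the counting lemma -/
theorem count {B V : Subgroup U} (hF : F.IsSaturated 3) (hE : F.IsEssential 3 E) (q : Qm ⊤ E (fa F E) B V sW ⊥)
    (χ : U → k3 × k3) (hχ : ∀ x ∈ V, ∀ y ∈ V, χ (x * y) = χ x + χ y) (hk : ∀ x ∈ V, χ x = 0 ↔ x ∈ sW)
    (hV : ∀ x ∈ V, ∀ y ∈ V, χ x = χ y → x.p = y.p → x.q = y.q → x.u = y.u → x = y)
    (φ : k3 × k3 → U) (φB : ∀ i, φ i ∈ B) (φi : ∀ i j, (φ i)⁻¹ * φ j ∈ E → i = j)
    (τ : k3 × k3 × k3 → U) (τn : ∀ t, ∀ y ∈ E, cj (τ t) y ∈ E) (τi : ∀ i j, (τ i)⁻¹ * τ j ∈ E → i = j)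
    (β η : Fin 10 → U) (βB : ∀ i, β i ∈ B) (βE : ∀ i, β i ∉ E) (ηV : ∀ i, η i ∈ V) (ηW : ∀ i, η i ∉ sW)
    (inj : ∀ i j, ⁅β i, η i⁆ = ⁅β j, η j⁆ → i = j) : False := by
  have hES : E ≤ ⊤ := le_top
  have hc := centralizerIn_le_of_isCentric hE.1
  obtain ⟨H, hH⟩ := exists_relSPE_of_essential pgT hF hE
  have hT := sylIn_of_fullyNormalized pgT hF hE.2.1
  have hI := autGroup_le_normalizer_inn F E
  have WE : sW ≤ E := q.ZM.trans q.ME
  have mV : ∀ γ ∈ F.autGroup E, ∀ y ∈ V, autFun γ y ∈ V := fun γ hγ y hy => q.ivM _ ⟨γ, hγ, rfl⟩ y (q.ME hy) hy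
  have cW : ∀ b ∈ B, ∀ z ∈ sW, b * z = z * b := fun b hb z hz =>
    commutatorElement_eq_one_iff_mul_comm.1 (mem_bot.1 (q.bZ b hb z hz))
  have cWW : ∀ x ∈ sW, ∀ y ∈ sW, x * y = y * x := fun x hx y hy =>
    comm_J ⟨hx.1, hx.2.1, hx.2.2.1⟩ ⟨hy.1, hy.2.1, hy.2.2.1⟩
  -- the lower bound
  have low : ∀ γ ∈ F.autGroup E, 3 ≤ {y | y ∈ sW ∧ autFun γ y ∈ sW}.ncard ∧
      ({y | y ∈ sW ∧ autFun γ y ∈ sW}.ncard ≤ 3 → ∀ y ∈ V, ∃ z ∈ sW, ∃ w ∈ sW, y = w * autFun γ z) := fun γ hγ => by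
    let ρ : sW →* Multiplicative (k3 × k3) := MonoidHom.mk' (fun x => .ofAdd (χ (autFun γ x))) fun x y => by
      change Multiplicative.ofAdd (χ (autFun γ (x * y))) = _
      rw [isHomOn_autFun γ (WE x.2) (WE y.2), hχ _ (mV γ hγ _ (q.ZM x.2)) _ (mV γ hγ _ (q.ZM y.2)), ofAdd_add]
    have c1 : Nat.card ρ.ker = {y | y ∈ sW ∧ autFun γ y ∈ sW}.ncard := by
      rw [← Nat.card_coe_set_eq]
      exact Nat.card_congr
        { toFun := fun x => ⟨x.1.1, x.1.2, (hk _ (mV γ hγ _ (q.ZM x.1.2))).1 x.2⟩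
          invFun := fun x => ⟨⟨x.1, x.2.1⟩, (hk _ (mV γ hγ _ (q.ZM x.2.1))).2 x.2.2⟩
          left_inv := fun _ => rfl
          right_inv := fun _ => rfl }
    have c2 : Nat.card ρ.ker * Nat.card ρ.range = 27 := by rw [← card_W, ← ρ.ker.card_mul_index, index_ker]
    have c3 : Nat.card (Multiplicative (k3 × k3)) = 9 := by
      rw [Nat.card_congr Multiplicative.toAdd]; simp only [Nat.card_prod, Nat.card_zmod]
    have c4 : Nat.card ρ.range ≤ 9 := c3 ▸ card_le_card_group _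
    rw [← c1]
    refine ⟨by nlinarith, fun k y hy => ?_⟩
    have c5 : ρ.range = ⊤ := eq_top_of_le_card _ (by rw [c3]; nlinarith)
    obtain ⟨z, hz⟩ : Multiplicative.ofAdd (χ y) ∈ ρ.range := c5 ▸ mem_top _
    have hz' : χ (autFun γ z) = χ y := hz
    have zV := mV γ hγ _ (q.ZM z.2)
    have k1 := hχ _ (mul_mem hy (inv_mem zV)) _ zV
    rw [inv_mul_cancel_right, hz', right_eq_add] at k1
    exact ⟨z, z.2, _, (hk _ (mul_mem hy (inv_mem zV))).1 k1, (inv_mul_cancel_right _ _).symm⟩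
  -- the upper bound
  have up : ∀ γ ∈ F.autGroup E, Pr E B sW (autFun γ) → {y | y ∈ sW ∧ autFun γ y ∈ sW}.ncard ≤ 3 := fun γ hγ ⟨⟨z, hz, hw⟩, pr⟩ => by
    have zV := mV γ hγ _ (q.ZM hz)
    have c := Nat.card_le_card_of_injective (fun x : (k3 × k3) × {y | y ∈ sW ∧ autFun γ y ∈ sW} =>
      (⟨⁅φ x.1, autFun γ z⁆ * autFun γ x.2, mul_mem (q.bM _ (φB _) _ zV) x.2.2.2⟩ : sW)) fun ⟨i, k, hk1, hk2⟩ ⟨j, k', hk1', hk2'⟩ e => by
        have e1 : ⁅φ i, autFun γ z⁆ * autFun γ k = ⁅φ j, autFun γ z⁆ * autFun γ k' := congrArg Subtype.val e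
        have hb := mul_mem (inv_mem (φB i)) (φB j)
        have e2 : ⁅φ j, autFun γ z⁆ = ⁅(φ i)⁻¹ * φ j, autFun γ z⁆ * ⁅φ i, autFun γ z⁆ := by
          calc ⁅φ j, autFun γ z⁆ = φ i * ⁅(φ i)⁻¹ * φ j, autFun γ z⁆ * (φ i)⁻¹ * ⁅φ i, autFun γ z⁆ := by
                simp only [commutatorElement_def]; group
            _ = _ := by rw [cW _ (φB i) _ (q.bM _ hb _ zV), mul_inv_cancel_right]
        rw [e2, cWW _ (q.bM _ hb _ zV) _ (q.bM _ (φB i) _ zV), mul_assoc, mul_right_inj] at e1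
        obtain rfl := φi i j (pr z hz hw _ hb (k * k'⁻¹) (mul_mem hk1 (inv_mem hk1')) (by
          rw [isHomOn_autFun γ (WE hk1) (WE (inv_mem hk1')), (isHomOn_autFun γ).map_inv (WE hk1'), e1, mul_inv_cancel_right]))
        rw [inv_mul_cancel, commutatorElement_one_left, one_mul] at e1
        obtain rfl := autFun_injOn γ (WE hk1) (WE hk1') e1
        rfl
    rw [card_W, Nat.card_prod, Nat.card_prod, Nat.card_zmod, Nat.card_coe_set_eq] at c
    omega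
  obtain ⟨ψ, ⟨hψ, hψ'⟩, mx⟩ := Set.exists_max_image {γ | γ ∈ F.autGroup E ∧ γ ∉ H}
    (fun γ => {y | y ∈ sW ∧ autFun γ y ∈ sW}.ncard) (Set.toFinite _) (SetLike.exists_of_lt hH.2.1)
  have hψ3 := up ψ hψ (pr_of_max pgT hF hE hH le_rfl hT.le q hψ hψ' fun γ h1 h2 => mx γ ⟨h1, h2⟩)
  -- no split element lies in `θ W`
  have spl : ∀ θ ∈ F.autGroup E, θ ∉ H → ∀ i, ∀ z' ∈ sW, ⁅β i, η i⁆ ≠ autFun θ z' := fun θ hθ hθ' i z' hz' k => by
    have pr := pr_of_max pgT hF hE hH le_rfl hT.le q hθ hθ' fun γ h1 h2 => (mx γ ⟨h1, h2⟩).trans (hψ3.trans (low θ hθ).1)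
    obtain ⟨z, hz, w, hw, e1⟩ := (low θ hθ).2 (up θ hθ pr) _ (ηV i)
    have zV := mV θ hθ _ (q.ZM hz)
    refine βE i (pr.2 z hz (fun k' => ηW i (e1 ▸ mul_mem hw k')) _ (βB i) z' hz' ?_)
    rw [← k, e1]
    calc ⁅β i, autFun θ z⁆ = w * ⁅β i, autFun θ z⁆ * w⁻¹ := by rw [cWW _ hw _ (q.bM _ (βB i) _ zV), mul_inv_cancel_right]
      _ = _ := by
        simp only [commutatorElement_def, ← mul_assoc, mul_inv_rev]
        rw [← cW _ (βB i) _ hw]
  have hn : ∀ t, τ t ∈ normalizer (E : Set U) := fun t => mem_normalizer_of_cj_mem (τn t)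
  have dW : ∀ i, ⁅β i, η i⁆ ∈ sW := fun i => q.bM _ (βB i) _ (ηV i)
  have gV : ∀ t i, cj (τ t) (autFun ψ ⁅β i, η i⁆) ∈ V := fun t i => by
    have k := mV ψ hψ _ (q.ZM (dW i))
    rw [← autFun_cjAut (hn t) (q.ME k)]
    exact mV _ (hT.le (cjAut_mem_autInducedBy (mem_top _) _)) _ k
  have c := Nat.card_le_card_of_injective (fun x : (k3 × k3 × k3) × Fin 10 =>
    let y := cj (τ x.1) (autFun ψ ⁅β x.2, η x.2⁆); (χ y, y.p, y.q, y.u)) fun ⟨s, i⟩ ⟨t, j⟩ e => by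
      simp only [Prod.mk.injEq] at e
      have e1 := hV _ (gV s i) _ (gV t j) e.1 e.2.1 e.2.2.1 e.2.2.2
      have hb := mul_mem (inv_mem (hn s)) (hn t)
      have e2 : autFun ψ ⁅β i, η i⁆ = cj ((τ s)⁻¹ * τ t) (autFun ψ ⁅β j, η j⁆) := by rw [cj_mul, ← e1, cj_inv_cj]
      obtain rfl : s = t := τi s t (by
        by_contra k
        have cT : cjAut E _ hb ∈ autInducedBy ⊤ E := cjAut_mem_autInducedBy (mem_top _) _
        refine spl (ψ⁻¹ * cjAut E _ hb * ψ⁻¹⁻¹) (mul_mem (mul_mem (inv_mem hψ) (hT.le cT)) (inv_mem (inv_mem hψ)))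
          (fun k' => hψ' (inv_mem_iff.1 (hH.mem_of_conj_mem' hT hI cT (mt (cjAut_mem_inn_iff hES hc (mem_top _) _).1 k) (inv_mem hψ) k')))
          i _ (dW j) ?_
        have hy := WE (dW j)
        rw [inv_inv, autFun_mul _ _ hy, autFun_mul _ _ (autFun_mem ψ hy), autFun_cjAut _ (autFun_mem ψ hy), ← e2,
          autFun_inv_autFun ψ (WE (dW i))])
      rw [inv_mul_cancel, cj_one] at e2
      rw [inj i j (autFun_injOn ψ (WE (dW i)) (WE (dW j)) e2)]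
  simp only [Nat.card_prod, Nat.card_zmod, Nat.card_fin] at c
  omega

/-- ten pairs of nonzero vectors with different symmetric products -/
def vs : Fin 10 → (k3 × k3) × (k3 × k3) :=
  ![((1, 0), (1, 0)), ((1, 0), (2, 0)), ((0, 1), (0, 1)), ((0, 1), (0, 2)), ((1, 0), (0, 1)), ((1, 0), (0, 2)),
    ((1, 1), (1, 1)), ((1, 1), (2, 2)), ((1, 2), (1, 2)), ((1, 2), (2, 1))]

end KYx

/-- Reduce to `e = 0` (`cj (xw ^ k)` permutes the `Y5 e`; `essential_img_aut`) or keep `e`. `E = Y5 0` is elementary abelian of order `3 ^ 5`, `N(E) = E3`, `|E3 : E| = 27`.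
`pr_of_max` with `X = Aut_F(E)`, `B = sR`, `M = E`, `Z = sW`, `N = ⊥`. For `θ ∉ H`, `|W ⊓ θ⁻¹ W| ≥ 3` (two subgroups of order 27 in `3 ^ 5`). For a maximal `ψ` and `y ∈ ψ W ∖ W` the map
`b ↦ ⁅b, y⁆`, `b ∈ ⟨xr, xv⟩`, is injective modulo `D = W ⊓ ψ W`, so `|D| ≤ 3`: every `θ ∉ H` is maximal, `Pr` holds for all of them, and `E = W θW`. Call `d ∈ W` split if `d = ⁅b, y⁆`, `b ∈ R ∖ E`,
`y ∈ E ∖ W` (20 elements; at least 10 are needed, e.g. `Z₂# ∪ {xu, xu²}`). By `Pr` no split element is in `θ W`. So the sets `c_t ψ (Split)`, `t = xa^i xr^j xv^k`, are disjoint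
(`ψ⁻¹ c_{t⁻¹ t'} ψ ∉ H` by `RelSPE.mem_of_conj_mem'`), `27 * 10 > 243`. -/
theorem not_ess_Y5 (hF : F.IsSaturated 3) (e : k3) : ¬ F.IsEssential 3 (Y5 e) := fun hE => by
  refine KYx.count (B := sR) (V := Y5 e) hF hE ⟨le_top, fun k => ?_, le_rfl, fun x hx => ?_, bot_le,
    fun α hα y hy _ => (au_fa F _).maps α hα y hy, (au_fa F _).iv_bot, fun b hb y hy => ?_, fun b hb y hy => ?_, fun b hb y hy => ?_,
    fun b _ n hn => by rw [mem_bot.1 hn, mul_one, one_mul]⟩ (fun x => (x.b, x.c)) (fun x hx y hy => ?_) (fun x hx => ?_)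
    (fun x hx y hy h1 h2 h3 h4 => ?_) (fun i => jj 0 0 i.1 0 i.2 0) (fun i => ⟨rfl, rfl⟩) (fun i j k => ?_)
    (fun t => ⟨t.1, 0, 0, 0, 0, t.2.1, 0, t.2.2, 0⟩) (fun t y hy => ?_) (fun i j k => ?_)
    (fun i => jj 0 0 (KYx.vs i).1.1 0 (KYx.vs i).1.2 0)
    (fun i => ⟨0, (KYx.vs i).2.2, (KYx.vs i).2.1, 0, 0, e * (KYx.vs i).2.1, 0, e * (KYx.vs i).2.2, 0⟩)
    (fun i => ⟨rfl, rfl⟩) ?_ (fun i => ⟨rfl, rfl, rfl, rfl⟩) ?_ ?_
  · have := k (show xr ∈ sR by decide)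
    clear k hE; revert e; decide
  · msimp at *; simp [hx]
  · msimp at *; usimp; simp only [hb, hy]; and_intros <;> first | trivial | ring
  · msimp at *; usimp; simp only [hb, hy]; and_intros <;> first | trivial | ring
  · rw [mem_bot]; msimp at *; usimp; simp only [hb, hy]; and_intros <;> first | trivial | ring
  · msimp at *; usimp; simp [hx]
  · msimp at *; simp only [Prod.mk_eq_zero]
    exact ⟨fun k => by simp [hx, k], fun k => ⟨k.2.1, k.2.2.1⟩⟩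
  · msimp at *; simp only [Prod.mk.injEq] at h1
    ext <;> simp [hx, hy, h1, h2, h3, h4]
  · msimp at *; usimp at k
    exact Prod.ext (by linear_combination -k.2.2.1) (by linear_combination -k.2.2.2)
  · msimp at *; usimp; simp only [hy]; and_intros <;> first | trivial | ring
  · msimp at *; usimp at k
    exact Prod.ext (by linear_combination -k.1) (Prod.ext (by linear_combination -k.2.2.1 - i.1 * k.2.2.2) (by linear_combination -k.2.2.2))
  · clear hE; revert e; decide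
  · clear hE; revert e; decide
  · clear hE; revert e; decide

/-- The same count inside `Y`: `E = J`, `B = E1`, `M = sY`, `Z = sW`, `N = ⊥`, `t ∈ T = {tt a b c}`, split `= ⁅b, y⁆` with `b ∈ E1 ∖ J`, `y ∈ Y ∖ W`.
(One abstract lemma for both is possible: `V = M` abelian of order 243 and invariant, `W ≤ V`.) -/
theorem not_norm_Y (hF : F.IsSaturated 3) (hE : F.IsEssential 3 sJ) : ¬ ∀ f, Mor F sJ f → ∀ y ∈ sY, f y ∈ sY := fun h => by
  refine KYx.count (B := E1) (V := sY) hF hE ⟨le_top, fun k => absurd (k (show xb ∈ E1 by decide)) (by decide),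
    fun x hx => ⟨hx.1, hx.2.1, hx.2.2.1⟩, fun x hx => ⟨hx.1, hx.2.1, hx.2.2.1, hx.2.2.2.2.2⟩, bot_le,
    fun _ ⟨α, hα, e⟩ y _ hy => e ▸ h _ (mor_autFun le_top hα) y hy, (au_fa F _).iv_bot, fun b hb y hy => ?_, fun b hb y hy => ?_,
    fun b hb y hy => ?_, fun b _ n hn => by rw [mem_bot.1 hn, mul_one, one_mul]⟩ (fun x => (x.r, x.v)) (fun x hx y hy => ?_)
    (fun x hx => ?_) (fun x hx y hy h1 h2 h3 h4 => ?_) (fun i => tt 0 i.1 i.2) (fun i => rfl) (fun i j k => ?_)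
    (fun t => tt t.1 t.2.1 t.2.2) (fun t y hy => (inferInstance : sJ.Normal).conj_mem y hy _) (fun i j k => ?_)
    (fun i => tt 0 (KYx.vs i).1.2 (KYx.vs i).1.1) (fun i => jj 0 0 (KYx.vs i).2.1 0 (KYx.vs i).2.2 0)
    (fun i => rfl) (by decide) (fun i => ⟨rfl, rfl, rfl, rfl⟩) (by decide) (by decide)
  · msimp at *; usimp; simp only [hb, hy]; and_intros <;> first | trivial | ring
  · msimp at *; usimp; simp only [hb, hy]; and_intros <;> first | trivial | ring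
  · rw [mem_bot]; msimp at *; usimp; simp only [hb, hy]; and_intros <;> first | trivial | ring
  · msimp at *; usimp; simp [hx, hy]
  · msimp at *; simp only [Prod.mk_eq_zero]
    exact ⟨fun k => by simp [hx, k], fun k => ⟨k.2.2.2.1, k.2.2.2.2.1⟩⟩
  · msimp at *; simp only [Prod.mk.injEq] at h1
    ext <;> simp [hx, hy, h1, h2, h3, h4]
  · msimp at *; usimp at k
    exact Prod.ext (by linear_combination -k.2.1) (by linear_combination -k.2.2)
  · msimp at *; usimp at k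
    exact Prod.ext (by linear_combination -k.1) (Prod.ext (by linear_combination -k.2.1) (by linear_combination -k.2.2 - i.1 * k.2.1))

end CL.C1F
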