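/-
S5227: `J` is not essential: the norm argument.
-/
import Cfsg.Agent.FUS.C1.J1
import Cfsg.Agent.FUS.C1.KY
import Cfsg.Agent.FUS.C1J.NotJ

set_option autoImplicit false
set_option linter.unusedSimpArgs false
set_option linter.unusedVariables false
set_option linter.unusedSectionVars false

namespace CL.C1F

open CL.Fus CL.RF4 CL.U5 Subgroup Cfsg Cfsg.FusionSystem
open scoped commutatorElement

variable {F F' : FusionSystem (⊤ : Subgroup U)} {E P : Subgroup U} {A : Set (U → U)} {f g : U → U} {e : k3}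

set_option maxRecDepth 100000 in
/-- write `φ y = ∑ mᵢ yᵢ`; `∑_t (t y)ᵢ (t y)ⱼ = 0` by `decide` (or a polynomial identity) -/
theorem norm0 {φ : U → k3} (h : ∀ y ∈ sJ, ∀ z ∈ sJ, φ (y * z) = φ y + φ z) {y : U} (hy : y ∈ sJ) :
    ∑ a, ∑ b, ∑ c, φ (cj (tt a b c) y) ^ 2 = 0 := by
  have e : ∀ y ∈ sJ, φ y = y.p * φ xp + y.q * φ xq + y.r * φ xr + y.u * φ xu + y.v * φ xv + y.w * φ xw := fun y hy => by
    have h0 : φ 1 = 0 := by simpa using h 1 (one_mem _) 1 (one_mem _)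
    have k : ∀ (f : k3 → U) (t : k3), f 0 = 1 → f 2 = f 1 * f 1 → f 1 ∈ sJ → φ (f t) = t * φ (f 1) := fun f t f0 f2 f1 => by
      rcases k3_cases t with rfl | rfl | rfl
      · rw [f0, h0, zero_mul]
      · rw [one_mul]
      · rw [f2, h _ f1 _ f1, two_mul]
    have e : y = jj y.p 0 0 0 0 0 * jj 0 y.q 0 0 0 0 * jj 0 0 y.r 0 0 0 * jj 0 0 0 y.u 0 0 * jj 0 0 0 0 y.v 0 *
        jj 0 0 0 0 0 y.w := by msimp at *; usimp; simp [hy]
    have m : ∀ p q r u v w, jj p q r u v w ∈ sJ := fun _ _ _ _ _ _ => ⟨rfl, rfl, rfl⟩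
    conv_lhs => rw [e]
    rw [h _ (mul_mem (mul_mem (mul_mem (mul_mem (m ..) (m ..)) (m ..)) (m ..)) (m ..)) _ (m ..),
      h _ (mul_mem (mul_mem (mul_mem (m ..) (m ..)) (m ..)) (m ..)) _ (m ..), h _ (mul_mem (mul_mem (m ..) (m ..)) (m ..)) _ (m ..),
      h _ (mul_mem (m ..) (m ..)) _ (m ..), h _ (m ..) _ (m ..), k (jj · 0 0 0 0 0) _ rfl (by decide) (m ..),
      k (jj 0 · 0 0 0 0) _ rfl (by decide) (m ..), k (jj 0 0 · 0 0 0) _ rfl (by decide) (m ..),
      k (jj 0 0 0 · 0 0) _ rfl (by decide) (m ..), k (jj 0 0 0 0 · 0) _ rfl (by decide) (m ..),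
      k (jj 0 0 0 0 0 ·) _ rfl (by decide) (m ..)]
    rfl
  have s3 : ∀ f : k3 → k3, ∑ a, f a = f 0 + f 1 + f 2 := fun f => Fin.sum_univ_three f
  generalize φ xp = P, φ xq = Q, φ xr = R, φ xu = T, φ xv = V, φ xw = W at e
  rw [Finset.sum_congr rfl fun a _ => Finset.sum_congr rfl fun b _ => Finset.sum_congr rfl fun c _ => by
    rw [e (cj (tt a b c) y) (Subgroup.Normal.conj_mem inferInstance y hy _)]]
  repeat rw [s3]
  msimp at *; usimp
  simp only [hy, mul_zero, zero_mul, add_zero, zero_add, neg_zero, sub_zero, mul_one, one_mul]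
  clear h e s3 hy
  obtain ⟨a, b, c, p, q, r, u, v, w⟩ := y
  dsimp only
  unfold k3 at *
  ring_nf
  reduce_mod_char

/-- `O = {f xp | f ∈ Aut_F(J)}`. If `x ∈ O` commutes with `t ∉ J` then `x ∈ Z`: `Z` is fully centralised, the map `⟨x⟩ → Z` extends to `C_U(x) > J` (`exists_extend`, `Nphi`), and by `alperin_ind`
(motive `f x ∈ Z → x ∈ Z`; every step is an automorphism of `⊤` or of an essential `R > J`, `mor_J`) it is a product of maps preserving `Z = Z(⊤) = Z(E2)`. So `T = {tt a b c}` acts freely on `O ∖ Z`, and for additive `φ`,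
`∑_{x ∈ O} φ(x)² = n φ(xp)²` with `n = |O ⊓ Z| ∈ {1, 2}` (`norm0`; general lemma: sums over a free `T`-set vanish if all orbit sums do). The left side is the same for `φ ∘ f`. With `φ` a coordinate other than `p`:
`φ (f xp) = 0`, so `f Z = Z` for all `f`, against `not_norm_Z`. -/
theorem notJ_b (hF : F.IsSaturated 3) (h : ∀ R, F.IsEssential 3 R → sJ < R → R = E2) : ¬ F.IsEssential 3 sJ :=
  not_ess_J hF

/-- Dual: `O = {y ↦ (f y).w | f ∈ Aut_F(J)}` (functions on `J`). If `φ ∈ O` is fixed by `t ∉ J` then `t` normalises `Y' = ker φ = f⁻¹ Y`; `exists_mor_normalizer_of_fullyNormalized` gives a map on `N(Y') > J` with `Y' ↦ Y`,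
a product of maps preserving `Y = ⁅J, ⊤⁆ = ⁅J, E1⁆`; so `Y' = Y`, `φ = ± w`. Hence `∑_{φ ∈ O} φ(y)² = n y.w²`, which is invariant, so `f Y = Y` for all `f`, against `not_norm_Y`. -/
theorem notJ_c (hF : F.IsSaturated 3) (h : ∀ R, F.IsEssential 3 R → sJ < R → R = E1) : ¬ F.IsEssential 3 sJ :=
  not_ess_J hF

end CL.C1F
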