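/-
S5227: automorphisms of `U`.
-/
import Cfsg.Agent.FUS.C1.Jch
import Cfsg.Agent.PLOC.PFrattini
import Cfsg.Agent.S4207

set_option autoImplicit false
set_option linter.unusedSimpArgs false
set_option linter.unusedVariables false
set_option linter.unusedSectionVars false

namespace CL.C1F

open CL.Fus CL.RF4 CL.U5 Subgroup Cfsg Cfsg.FusionSystem
open scoped commutatorElement

variable {F F' : FusionSystem (⊤ : Subgroup U)} {E P : Subgroup U} {A : Set (U → U)} {f g : U → U} {e : k3}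

/-- the automorphisms trivial on `U / Φ(U)` -/
def K0 : Subgroup (MulAut U) where
  carrier := {α | ∀ g, (α g).a = g.a ∧ (α g).b = g.b ∧ (α g).w = g.w}
  one_mem' _ := ⟨rfl, rfl, rfl⟩
  mul_mem' {a b} ha hb g := ⟨(ha (b g)).1.trans (hb g).1, (ha (b g)).2.1.trans (hb g).2.1, (ha (b g)).2.2.trans (hb g).2.2⟩
  inv_mem' {a} ha g := by simpa [eq_comm] using ha (a⁻¹ g)

namespace Stdx

open Jchx

theorem tdec : ∀ c : k3, tt 0 0 c = xc ^ c.val := by decide

theorem Ph_le (N : Subgroup U) (hN : ∀ x y : U, ⁅x, y⁆ ∈ N) : sPh ≤ N := fun g hg => by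
  have mc : xc ∈ N := (by decide : ⁅xa, xb⁆ = xc) ▸ hN _ _
  have mp : xp ∈ N := (by decide : ⁅xq, xa⁆ = xp) ▸ hN _ _
  have mq : xq ∈ N := (by decide : ⁅xb, xr⁆ = xq) ▸ hN _ _
  have mr : xr ∈ N := (by decide : ⁅xa, xv⁆ = xr) ▸ hN _ _
  have mu : xu ∈ N := (by decide : ⁅xv, xb⁆ = xu) ▸ hN _ _
  have mv : xv ∈ N := (by decide : xu⁻¹ * ⁅xb, xw⁆ = xv) ▸ mul_mem (inv_mem mu) (hN _ _)
  have e : g = jj g.p g.q g.r g.u g.v 0 * tt 0 0 g.c := by
    msimp at *; usimp; simp only [hg]; and_intros <;> first | trivial | ring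
  rw [e, jdec, tdec, ZMod.val_zero, pow_zero, mul_one]
  exact mul_mem (mul_mem (mul_mem (mul_mem (mul_mem (pow_mem mp _) (pow_mem mq _)) (pow_mem mr _))
    (pow_mem mu _)) (pow_mem mv _)) (pow_mem mc _)

theorem coords : ∀ a b w : k3, (xa ^ a.val * xb ^ b.val * xw ^ w.val).a = a ∧
    (xa ^ a.val * xb ^ b.val * xw ^ w.val).b = b ∧ (xa ^ a.val * xb ^ b.val * xw ^ w.val).w = w := by decide

theorem lin {χ : U → k3} (h : ∀ x y, χ (x * y) = χ x + χ y) (g : U) :
    χ g = g.a * χ xa + g.b * χ xb + g.w * χ xw := by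
  let φ : U →* Multiplicative k3 := MonoidHom.mk' (fun x => .ofAdd (χ x)) fun x y => congrArg _ (h x y)
  have k : ∀ (x : U) (a : k3), χ (x ^ a.val) = a * χ x := fun x a => by
    have : χ (x ^ a.val) = a.val • χ x := congrArg Multiplicative.toAdd (map_pow φ x a.val)
    rw [this, nsmul_eq_mul, ZMod.natCast_zmod_val]
  obtain ⟨e1, e2, e3⟩ := coords g.a g.b g.w
  have m : g * (xa ^ g.a.val * xb ^ g.b.val * xw ^ g.w.val)⁻¹ ∈ φ.ker :=
    Ph_le _ (fun x y => by rw [MonoidHom.mem_ker, map_commutatorElement, commutatorElement_eq_one_iff_mul_comm, mul_comm])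
      ⟨by rw [U.mul_a, U.inv_a, e1, add_neg_cancel], by rw [U.mul_b, U.inv_b, e2, add_neg_cancel],
        by rw [U.mul_w, U.inv_w, e3, add_neg_cancel]⟩
  rw [MonoidHom.mem_ker, map_mul, map_inv, mul_inv_eq_one] at m
  rw [← k, ← k, ← k, ← h, ← h]
  exact m

theorem d1 : ∀ c p q r u v w : k3, c ≠ 0 → tt 0 0 c * jj p q r u v w = jj p q r u v w * tt 0 0 c →
    r = 0 ∧ v = 0 ∧ w = 0 := by decide +kernel

theorem d2 : ∀ a b c p q u : k3, a ≠ 0 → b ≠ 0 → tt a b c * jj p q 0 u 0 0 = jj p q 0 u 0 0 * tt a b c →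
    q = 0 ∧ u = 0 := by decide +kernel

theorem cen_p (p : k3) (x : U) : x * jj p 0 0 0 0 0 = jj p 0 0 0 0 0 * x := by
  msimp; usimp; and_intros <;> ring

theorem ex_sg : ∀ x : k3, x ≠ 0 → ∃ s, sg s = x := by decide

theorem form (α : MulAut U) : ∃ s t d, ∀ g, (α g).a = sg s * g.a ∧ (α g).b = sg t * g.b ∧ (α g).w = sg d * g.w := by
  have hJ : ∀ y, α y ∈ sJ ↔ y ∈ sJ := fun y =>
    iff_of_iv (isoOn_top α) (iv_J (au_pair (isoOn_top α)) le_top) (mem_top y)
  have la := lin (χ := fun g => (α g).a) fun x y => by simp only [map_mul, U.mul_a]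
  have lb := lin (χ := fun g => (α g).b) fun x y => by simp only [map_mul, U.mul_b]
  have lw := lin (χ := fun g => (α g).w) fun x y => by simp only [map_mul, U.mul_w]
  have cm : ∀ {x y : U}, x * y = y * x → α x * α y = α y * α x := fun h => by rw [← map_mul, h, map_mul]
  have W := (hJ xw).2 (by decide)
  have Ww : (α xw).w ≠ 0 := fun h => by
    have m : α.symm xw ∈ sJ := (hJ _).1 (by rw [α.apply_symm_apply]; decide)
    have := lw (α.symm xw)
    simp only [α.apply_symm_apply, m.1, m.2.1, h, zero_mul, mul_zero, add_zero] at this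
    exact absurd this (by decide)
  have Ab : (α xa).b = 0 := by
    have := congrArg U.v (cm (x := xa) (y := xw) (by decide))
    usimp at this
    rw [W.2.1] at this
    exact (mul_eq_zero.1 (by linear_combination this)).resolve_right Ww
  have Bb : (α xb).b ≠ 0 := fun h => by
    have := lb (α.symm xb)
    simp only [α.apply_symm_apply, W.2.1, h, Ab, mul_zero, add_zero] at this
    exact absurd this (by decide)
  have Bw : (α xb).w = 0 := by
    have h3 : α xb * α xb * α xb = 1 := by rw [← map_mul, ← map_mul, rel_U.b3, map_one]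
    have := congrArg U.u h3
    usimp at this
    refine (mul_eq_zero.1 (?_ : (α xb).b * (α xb).b * (α xb).w = 0)).resolve_left (mul_ne_zero Bb Bb)
    linear_combination -this + ((α xb).u + 2 * (α xb).b * (α xb).v + 2 * (α xb).b * (α xb).b * (α xb).w) * three_eq
  have Ca : (α xc).a = 0 := by simpa [xc, tt] using la xc
  have Cb : (α xc).b = 0 := by simpa [xc, tt] using lb xc
  have Cw : (α xc).w = 0 := by simpa [xc, tt] using lw xc
  have Ba : (α xb).a = 0 := by_contra fun h => by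
    have Q := (hJ xq).2 (by decide)
    have Cc : (α xc).c ≠ 0 := fun h => absurd ((hJ xc).1 ⟨Ca, Cb, h⟩) (by decide)
    have e1 := tt_comm Q (cm (x := xc) (by decide))
    have e2 := tt_comm Q (cm (x := xb) (by decide))
    have e := eq_jj Q
    rw [Ca, Cb, e] at e1
    obtain ⟨k1, k2, k3⟩ := d1 _ _ _ _ _ _ _ Cc e1
    rw [k1, k2, k3] at e
    rw [e] at e2
    obtain ⟨k4, k5⟩ := d2 _ _ _ _ _ _ h Bb e2
    rw [k4, k5] at e
    have := cen_p (α xq).p (α xa)
    rw [← e, ← map_mul, ← map_mul] at this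
    exact absurd (α.injective this) (by decide)
  have Aa : (α xa).a ≠ 0 := fun h => by
    have := la (α.symm xa)
    simp only [α.apply_symm_apply, W.1, h, Ba, mul_zero, add_zero] at this
    exact absurd this (by decide)
  have Aw : (α xa).w = 0 := by
    have e1 := congrArg U.u (cm rel_U.bc)
    have e2 : α xa * α xb = α xc * α xb * α xa := by rw [← map_mul, rel_U.ab, map_mul, map_mul]
    have e3 := congrArg U.v e2
    usimp at e1 e3
    rw [Cb, Cw] at e1
    rw [Cb, Ab, Bw] at e3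
    refine (mul_eq_zero.1 (?_ : (α xb).b * (α xb).b * (α xa).w = 0)).resolve_left (mul_ne_zero Bb Bb)
    linear_combination e1 - (α xb).b * e3 - (α xb).b * (α xc).v * three_eq
  obtain ⟨s, hs⟩ := ex_sg _ Aa
  obtain ⟨t, ht⟩ := ex_sg _ Bb
  obtain ⟨d, hd⟩ := ex_sg _ Ww
  refine ⟨s, t, d, fun g => ⟨?_, ?_, ?_⟩⟩
  · rw [la g, hs, Ba, W.1]; ring
  · rw [lb g, ht, Ab, W.2.1]; ring
  · rw [lw g, hd, Aw, Bw]; ring

theorem corr_of (F : FusionSystem (⊤ : Subgroup U)) {e e' : U → U} (h : IsoOn ⊤ ⊤ e e')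
    (hc : ∀ s t d x, e (tor s t d x) = tor s t d (e x)) : ∃ F', Corr e e' F F' ∧ (Std F → Std F') := by
  obtain ⟨F', hF⟩ := h.exists_corr F
  refine ⟨F', hF, fun hS f hf => ?_⟩
  have h1 := hF.mor' hf
  rw [h.symm.img_eq] at h1
  obtain ⟨y, s, t, d, m, k⟩ := hS _ h1
  have h2 := hF.mor m
  rw [h.img_eq] at h2
  refine ⟨e y, s, t, d, h2.congr fun x _ => ?_, fun x => ?_⟩
  · simp only [Function.comp_apply, hc, h.right x trivial]
  · have := congrArg e (k (e' x))
    simp only [Function.comp_apply, h.right _ trivial] at this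
    rw [this, h.hom.map_cj trivial trivial, hc, h.right _ trivial]

theorem mor_tor (t1 : Mor F ⊤ h1) (t2 : Mor F ⊤ h2) {s t d : Bool} (h : d = true → Mor F ⊤ dl) :
    Mor F ⊤ (tor s t d) := by
  have c : ∀ {s t d s' t' d'}, Mor F ⊤ (tor s t d) → Mor F ⊤ (tor s' t' d') →
      Mor F ⊤ (tor (xor s s') (xor t t') (xor d d')) := fun a b =>
    (a.comp b fun _ _ => trivial).congr fun x _ => tor_tor ..
  have t0 : Mor F ⊤ (tor s t false) := by
    cases s <;> cases t
    exacts [c t1 t1, t1, t2, c t2 t1]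
  cases d
  · exact t0
  · simpa using c t0 (h rfl)

end Stdx

open Stdx

/-- `α J = J` (`iv_J` with `au_pair (isoOn_top α)`), `Z`, `Z₂`, `E1 = C(Z₂)`, `Y = ⁅J, U⁆`-closure (`{y ∈ J | ⁅y, U⁆ ≤ Z₃}`), `Z₃`. So `α xw ∈ J ∖ Y`, `α xb ∈ E1`, and `(α xb)³ = 1` gives `(α xb).w = 0`.
`α xa` commutes with `α xw` (`w ≠ 0`): with `α xa ∉ E1` this and `(α xa).b = 0` follow from `|C_J(α xa)| = 27` (or: `xa` fixes `xp, xr, xw`; an element with `a b ≠ 0` fixes only elements of `Z₃`).
`(α xa).w = 0` because `⁅α xa, α xb⁆` commutes with `α xb` (`u`-coordinate). `a, b, w` are homomorphisms `U → k3` determined by the values on the generators `xa, xb, xw`. -/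
theorem aut_form (α : MulAut U) : ∃ x : D3, α * (dd x)⁻¹ ∈ K0 := by
  obtain ⟨s, t, d, h⟩ := form α
  obtain ⟨x, hx⟩ := exists_dd s t d
  refine ⟨x, fun g => ?_⟩
  obtain ⟨g, rfl⟩ := (dd x).surjective g
  rw [MulAut.mul_apply, MulAut.inv_apply_self, hx]
  exact h g

theorem isPGroup_K0 : IsPGroup 3 K0 := by
  obtain ⟨r, hr⟩ := pgU.index (frattini _)
  obtain ⟨k, -, hk⟩ := (Nat.dvd_prime_pow Nat.prime_three).1 (Agent.S4207.result U.card hr K0 fun α hα x =>
    Ph_le _ (CL.PG.commutatorElement_mem_frattini pgU)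
      ⟨by simp [U.mul_a, U.inv_a, hα x], by simp [U.mul_b, U.inv_b, hα x], by simp [U.mul_w, U.inv_w, hα x]⟩)
  exact .of_card hk

instance : K0.Normal := by
  refine ⟨fun α hα β g => ?_⟩
  obtain ⟨s, t, d, e⟩ := form β
  have k := e (β⁻¹ g)
  rw [MulAut.mul_apply, MulAut.mul_apply, (e _).1, (e _).2.1, (e _).2.2]
  rw [MulAut.apply_inv_self] at k
  rw [k.1, k.2.1, k.2.2]
  simp only [hα _, and_self]

/-- `U5.exists_std_of pgT hF dd K0`; `tor ∈ F'` from `f = cj u ∘ tor` -/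
theorem exists_std (hF : F.IsSaturated 3) : ∃ (β β' : U → U) (F' : FusionSystem (⊤ : Subgroup U)), Corr β β' F F' ∧ Std F' := by
  obtain ⟨β, F', h, k⟩ := exists_std_of pgT hF dd K0 isPGroup_K0 aut_form
  refine ⟨β, β.symm, F', h, fun f hf => ?_⟩
  obtain ⟨u, x, e⟩ := k f hf
  exact ⟨u, _, _, _, (hf.cj_comp (mem_top u⁻¹)).congr fun g _ => by
    rw [Function.comp_apply, e, cj_inv_cj, dd_apply], fun g => (e g).trans (by rw [dd_apply])⟩

/-- `α = k ∘ tor s t d` with `k ∈ K0`. If `tor s t d ∈ F` then `k ∈ Aut_F(U) ⊓ K0` is a 3-element, so inner (`sylIn_inn_top`). If `d = true` then `α` inverts `xp` (`K0` fixes `Z`: order 3). -/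
theorem std_of (hF : F.IsSaturated 3) (t1 : Mor F ⊤ h1) (t2 : Mor F ⊤ h2) (h : Mor F ⊤ dl ∨ ∀ f, Mor F ⊤ f → f xp ≠ xp⁻¹) : Std F := by
  intro f hf
  let φ : U →* U := MonoidHom.mk' f fun x y => hf.map_mul trivial trivial
  let α : MulAut U := MulEquiv.ofBijective φ
    (Finite.injective_iff_bijective.1 fun x y e => hf.injOn trivial trivial e)
  obtain ⟨x, hx⟩ := aut_form α
  obtain ⟨n, hn⟩ := isPGroup_K0 ⟨_, hx⟩
  have hn : (α * (dd x)⁻¹) ^ 3 ^ n = 1 := congrArg Subtype.val hn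
  obtain ⟨s, t, d, ex⟩ : ∃ s t d, ∀ g, dd x g = tor s t d g := ⟨_, _, _, dd_apply x⟩
  have ek : ∀ g, (α * (dd x)⁻¹) (tor s t d g) = f g := fun g => by
    rw [← ex, MulAut.mul_apply, MulAut.inv_apply_self]; rfl
  generalize α * (dd x)⁻¹ = k at hn ek
  have m : Mor F ⊤ (tor s t d) := mor_tor t1 t2 fun hd => h.elim id fun h => absurd (h f hf) (not_not.2 (by
    subst hd
    have e1 : tor s t true xp = xp⁻¹ := by cases s <;> cases t <;> decide
    rw [← ek, e1, map_inv, inv_inj]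
    have z : k xp = xp ∨ k xp = xp⁻¹ := by
      have c : ∀ g, g * k xp = k xp * g := fun g => by
        obtain ⟨g, rfl⟩ := k.surjective g
        rw [← map_mul, ← map_mul, show g * xp = xp * g from cen_p 1 g]
      have J := mem_J_of_comm (c xw).symm (c xv).symm
      have e := Jchx.eq_jj J
      have c1 := c xc
      have c2 := c (tt 1 1 0)
      rw [e] at c1
      obtain ⟨k1, k2, k3⟩ := d1 _ _ _ _ _ _ _ one_ne_zero c1
      rw [k1, k2, k3] at e
      rw [e] at c2
      obtain ⟨k4, k5⟩ := d2 _ _ _ _ _ _ one_ne_zero one_ne_zero c2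
      rw [k4, k5] at e
      rcases k3_cases (k xp).p with p | p | p <;> rw [p] at e
      · exact absurd (k.injective (e.trans (map_one k).symm)) (by decide)
      · exact Or.inl e
      · exact Or.inr (e.trans (by decide))
    refine z.elim id fun z => ?_
    have it : ∀ j, (k ^ (2 * j + 1)) xp = xp⁻¹ := fun j => by
      induction j with
      | zero => simpa using z
      | succ j ih =>
        rw [show 2 * (j + 1) + 1 = 2 * j + 1 + 1 + 1 by ring, pow_succ, pow_succ, MulAut.mul_apply,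
          MulAut.mul_apply, z, map_inv k, z, inv_inv, ih]
    obtain ⟨j, hj⟩ : Odd (3 ^ n) := Odd.pow (by decide)
    have := it j
    rw [← hj, hn] at this
    exact absurd this (by decide)))
  have mk : Mor F ⊤ k := (hf.comp m fun _ _ => trivial).congr fun g _ => by
    rw [Function.comp_apply, ← ek, tor_self]
  obtain ⟨γ, hγ, e⟩ := mk.exists_aut mk.img_top
  have e1 : γ = (MulAut.congr topEquiv).symm k :=
    MulEquiv.ext fun g => Subtype.ext ((autFun_coe γ g).symm.trans (e g.2))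
  have e2 : γ ^ 3 ^ n = 1 := by rw [e1, ← map_pow, hn, map_one]
  obtain ⟨u, -, hu⟩ := mem_inn_iff.1 ((sylIn_inn_top pgT hF).le_of_le_normalizer' (zpowers_le.2 hγ)
    (isPGroup_zpowers_of_pow_eq_one e2) (zpowers_le.2 (autGroup_le_normalizer_inn F ⊤ hγ)) (mem_zpowers γ))
  exact ⟨u, s, t, d, m, fun g => (ek g).symm.trans ((e trivial).symm.trans (hu trivial))⟩

theorem corr_tau (F : FusionSystem (⊤ : Subgroup U)) (e : k3) : ∃ F', Corr (tau e) (tau (-e)) F F' ∧ (Std F → Std F') := by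
  exact corr_of F ⟨fun x _ y _ => tau_mul e x y, fun _ _ => trivial, fun _ _ => trivial,
    fun x _ => by rw [tau_tau, neg_add_cancel, tau_zero], fun x _ => by rw [tau_tau, add_neg_cancel, tau_zero]⟩
    (tau_tor e)

theorem corr_tor (F : FusionSystem (⊤ : Subgroup U)) (s t d : Bool) : ∃ F', Corr (tor s t d) (tor s t d) F F' ∧ (Std F → Std F') := by
  exact corr_of F ⟨fun x _ y _ => tor_mul s t d x y, fun _ _ => trivial, fun _ _ => trivial,
    fun x _ => tor_self .., fun x _ => tor_self ..⟩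
    fun s' t' d' x => by rw [tor_tor, tor_tor, Bool.xor_comm s, Bool.xor_comm t, Bool.xor_comm d]

/-- with `h1, h2 ∈ F` every automorphism is `cj y ∘ h` or `cj y ∘ h ∘ dl` -/
theorem Std.le (hS : Std F) (t1 : Mor F' ⊤ h1) (t2 : Mor F' ⊤ h2) (t1' : Mor F ⊤ h1) (t2' : Mor F ⊤ h2) (h : Mor F ⊤ dl → Mor F' ⊤ dl) :
    ∀ f, Mor F ⊤ f → Mor F' ⊤ f := by
  intro f hf
  obtain ⟨y, s, t, d, m, e⟩ := hS f hf
  refine ((mor_tor t1 t2 (s := s) (t := t) (d := d) fun hd => h ?_).cj_comp (mem_top y)).congr fun x _ => (e x).symm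
  subst hd
  exact (m.comp (mor_tor t1' t2' (s := s) (t := t) (d := false) (by simp)) fun _ _ => trivial).congr fun x _ => by
    rw [Function.comp_apply, tor_tor]; simp

end CL.C1F
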