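/-
S5227: essential subgroups not containing `J`, context.
-/
import Cfsg.Agent.FUS.C1.Defs

set_option autoImplicit false
set_option linter.unusedSimpArgs false
set_option linter.unusedVariables false
set_option linter.unusedSectionVars false

namespace CL.C1F

open CL.Fus CL.RF4 CL.U5 Subgroup Cfsg Cfsg.FusionSystem
open scoped commutatorElement

variable {F F' : FusionSystem (⊤ : Subgroup U)} {E P : Subgroup U} {A : Set (U → U)} {f g : U → U} {e : k3}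

variable {J₁ : Subgroup U}

/-- `h.pair` with `B = {b ∈ J | ∀ y ∈ E, ⁅b, y⁆ ∈ E}`, `Z = E ⊓ J`, `N = ⊥` (`B ≰ E`: `N_{J E}(E) > E`, e.g. `exists_mem_normalizer_not_mem_of_not_le`, or take `b` in the first term of the flag
`Z < Z₂ < W < Z₃ < Y < J` not inside `E`); `J₁ = img ψ (E ⊓ J)`; `cen` is `h.mem1`. -/
theorem ca_of_cp (h : Cp ⊤ E A) (hJ : ¬ sJ ≤ E) : ∃ J₁, Ca E J₁ := by
  have cE : ∀ {b y : U}, b ∈ normalizer (E : Set U) → y ∈ E → ⁅b, y⁆ ∈ E := fun hb hy =>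
    E.mul_mem ((mem_normalizer_iff.1 hb _).1 hy) (E.inv_mem hy)
  have cJ : ∀ {b : U} (y : U), b ∈ sJ → ⁅b, y⁆ ∈ sJ := fun {b} y hb => by
    rw [show ⁅b, y⁆ = b * (y * b⁻¹ * y⁻¹) by simp only [commutatorElement_def, mul_assoc]]
    exact mul_mem hb (Normal.conj_mem inferInstance _ (inv_mem hb) y)
  have nZ : ∀ y ∈ E, ∀ z ∈ E ⊓ sJ, cj y z ∈ E ⊓ sJ := fun y hy z hz =>
    ⟨E.mul_mem (E.mul_mem hy hz.1) (E.inv_mem hy), Normal.conj_mem inferInstance _ hz.2 y⟩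
  obtain ⟨ψ, hψ, ⟨z, hz, hw⟩, pr⟩ := h.pair (sJ ⊓ normalizer (E : Set U)) (E ⊓ sJ) ⊥ ⟨le_top, fun k => by
      obtain ⟨x, h1, h2, h3⟩ := exists_mem_normalizer_not_mem_of_not_le pgT le_top le_top le_normalizer_of_normal hJ
      exact h3 (k ⟨h1, h2⟩), inf_le_left, nZ, bot_le, h.iv_bot, fun b hb y hy => ⟨cE hb.2 hy, cJ y hb.1⟩,
    fun b hb z hz => mem_bot.2 (commutatorElement_eq_one_iff_mul_comm.2 (comm_J hb.1 hz.2)),
    fun b _ n hn => by rw [mem_bot.1 hn, mul_one, one_mul]⟩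
  obtain ⟨β, -, e⟩ := h.inv ψ hψ
  have i : IsoOn E E ψ β := ⟨h.hom ψ hψ, h.maps ψ hψ, fun y hy => by
    obtain ⟨x, hx, rfl⟩ := h.surj hψ hy
    rwa [(e x hx).1], fun y hy => (e y hy).1, fun y hy => (e y hy).2⟩
  have m : ∀ {y}, y ∈ img ψ (E ⊓ sJ) → ∃ x ∈ E ⊓ sJ, ψ x = y := (i.mem_img inf_le_left).1
  refine ⟨img ψ (E ⊓ sJ), hJ, fun g => h.mem1 trivial, fun y hy => ?_, fun x hx y hy => ?_, fun x hx => ?_,
    fun s hs x hx => ?_, i.card_img inf_le_left, ⟨ψ z, mem_img_of_mem ψ hz, fun k => hw ⟨i.maps z hz.1, k⟩⟩,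
    fun b hb hn x hx hx' k => ?_⟩
  · obtain ⟨x, hx, rfl⟩ := m hy
    exact i.maps x hx.1
  · obtain ⟨x, h1, rfl⟩ := m hx
    obtain ⟨y, h2, rfl⟩ := m hy
    rw [← i.map_mul h1.1 h2.1, ← i.map_mul h2.1 h1.1, comm_J h1.2 h2.2]
  · obtain ⟨x, h1, rfl⟩ := m hx
    rw [← i.map_mul h1.1 h1.1, ← i.map_mul (mul_mem h1.1 h1.1) h1.1, pow3_J h1.2, i.map_one]
  · obtain ⟨x, h1, rfl⟩ := m hx
    rw [← i.right s hs, ← i.map_cj (i.maps' s hs) h1.1]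
    exact mem_img_of_mem ψ (nZ _ (i.maps' s hs) x h1)
  · obtain ⟨x, h1, rfl⟩ := m hx
    obtain ⟨y, hy, k'⟩ := m k
    exact pr x h1 (fun k => hx' k.2) b ⟨hb, mem_normalizer_of_comm hn⟩ y hy k'.symm

theorem Ca.rel (h : Ca E J₁) : (J₁ ⊓ sJ).relIndex (E ⊓ sJ) = (J₁ ⊓ sJ).relIndex J₁ := by
  have c1 := CxF.card_rel (inf_le_left : J₁ ⊓ sJ ≤ J₁)
  have c2 := CxF.card_rel (inf_le_inf_right sJ h.le)
  rwa [← h.card, ← c1, mul_right_inj' Nat.card_pos.ne'] at c2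

theorem EsA1.le_rel {D Z : Subgroup U} {ι : Type} (φ : ι → U) (h1 : ∀ i, φ i ∈ Z) (h2 : ∀ i j, (φ i)⁻¹ * φ j ∈ D → i = j) :
    Nat.card ι ≤ D.relIndex Z := Nat.card_le_card_of_injective
  (fun j => (QuotientGroup.mk ⟨φ j, h1 j⟩ : Z ⧸ D.subgroupOf Z)) fun j k e =>
    h2 j k ((QuotientGroup.eq (s := D.subgroupOf Z)).1 e)

theorem EsA1.rel_le {D Z : Subgroup U} {κ : Type} [Finite κ] (χ : U → κ)
    (h3 : ∀ x ∈ Z, ∀ y ∈ Z, χ x = χ y → x⁻¹ * y ∈ D) : D.relIndex Z ≤ Nat.card κ := Nat.card_le_card_of_injective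
  (fun x : Z ⧸ D.subgroupOf Z => χ x.out) fun x y e => by
    rw [← x.out_eq, ← y.out_eq]
    exact QuotientGroup.eq.2 (h3 _ x.out.2 _ y.out.2 e)

/-- `|E ⊓ J : J₁ ⊓ J| = |J₁ : J₁ ⊓ J|` -/
theorem Ca.cnt (h : Ca E J₁) {ι κ : Type} [Finite κ] (φ : ι → U) (h1 : ∀ i, φ i ∈ E ∧ φ i ∈ sJ) (h2 : ∀ i j, (φ i)⁻¹ * φ j ∈ J₁ → i = j)
    (χ : U → κ) (h3 : ∀ x ∈ J₁, ∀ y ∈ J₁, χ x = χ y → x⁻¹ * y ∈ sJ) : Nat.card ι ≤ Nat.card κ := (EsA1.le_rel (Z := E ⊓ sJ) (D := J₁ ⊓ sJ) φ h1 fun i j k => h2 i j k.1).trans (h.rel.le.trans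
    (EsA1.rel_le χ fun x hx y hy k => ⟨J₁.mul_mem (J₁.inv_mem hx) hy, h3 x hx y hy k⟩))

theorem Ca.cnt' (h : Ca E J₁) {ι κ : Type} [Finite κ] (φ : ι → U) (h1 : ∀ i, φ i ∈ J₁) (h2 : ∀ i j, (φ i)⁻¹ * φ j ∈ sJ → i = j)
    (χ : U → κ) (h3 : ∀ x ∈ E ⊓ sJ, ∀ y ∈ E ⊓ sJ, χ x = χ y → x⁻¹ * y ∈ J₁) : Nat.card ι ≤ Nat.card κ := (EsA1.le_rel (Z := J₁) (D := J₁ ⊓ sJ) φ h1 fun i j k => h2 i j k.2).trans (h.rel.ge.trans
    (EsA1.rel_le χ fun x hx y hy k => ⟨h3 x hx y hy k, sJ.mul_mem (sJ.inv_mem hx.2) hy.2⟩))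

/-- `⁅E ⊓ J, J₁⁆ ≤ J₁ ⊓ J`, which is centralised by `J₁` -/
theorem Ca.brk (h : Ca E J₁) {y x : U} (hy : y ∈ E) (hy' : y ∈ sJ) (hx : x ∈ J₁) : ⁅y, x⁆ ∈ J₁ ∧ ⁅y, x⁆ ∈ sJ := by
  refine ⟨mul_mem (h.nrm y hy x hx) (inv_mem hx), ?_⟩
  rw [show ⁅y, x⁆ = y * (x * y⁻¹ * x⁻¹) by simp only [commutatorElement_def, mul_assoc]]
  exact mul_mem hy' (Normal.conj_mem inferInstance _ (inv_mem hy') x)

/-- If `e ≠ 0`: `Z(E) = sZ`, `Z₂(E) = sZ2`, `Z₃(E) = sZ3` (test with `xa xw^e`, `xb`), `C_E(sZ3) = sY` (`iv_Zn`, `iv_comm`, `iv_cent`, `Iv.congr`); then `xw ∈ E` by `h.mem2` with `B = D = sY`. -/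
theorem lam0 (h : Cp ⊤ E A) (hE : ∀ g, g ∈ E ↔ g.w = e * g.a) : e = 0 := by
  by_contra e0
  have hA := h.toAu
  have m0 : ∀ g : U, g.a = 0 → g.w = 0 → g ∈ E := fun g h1 h2 => (hE g).2 (by rw [h1, h2, mul_zero])
  have m1 : (⟨1, 0, 0, 0, 0, 0, 0, 0, e⟩ : U) ∈ E := (hE _).2 (mul_one e).symm
  have i1 : Iv E A sZ := (hA.iv_cent hA.iv_self).congr (fun y hy => ⟨fun k => by
    have k1 := k xv (m0 _ rfl rfl) (m0 _ rfl rfl)
    have k2 := k xb (m0 _ rfl rfl) (m0 _ rfl rfl)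
    have k3 := k _ m1 m1
    have k4 := (hE y).1 hy
    msimp at *
    usimp at k1 k2 k3
    clear k
    and_intros <;> grind, fun k x _ _ => by
    msimp at *; usimp; simp only [k]; and_intros <;> first | trivial | ring⟩) hA
  have i2 : Iv E A sZ2 := (hA.iv_comm hA.iv_self i1).congr (fun y hy => ⟨fun k => by
    have k1 := k xv (m0 _ rfl rfl) (m0 _ rfl rfl)
    have k2 := k xb (m0 _ rfl rfl) (m0 _ rfl rfl)
    have k3 := k _ m1 m1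
    have k4 := (hE y).1 hy
    msimp at *
    usimp at k1 k2 k3
    clear k
    and_intros <;> grind, fun k x _ _ => by
    msimp at *; usimp; simp only [k]; and_intros <;> first | trivial | ring⟩) hA
  have i3 : Iv E A sZ3 := (hA.iv_comm hA.iv_self i2).congr (fun y hy => ⟨fun k => by
    have k1 := k xv (m0 _ rfl rfl) (m0 _ rfl rfl)
    have k2 := k xb (m0 _ rfl rfl) (m0 _ rfl rfl)
    have k3 := k _ m1 m1
    have k4 := (hE y).1 hy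
    msimp at *
    usimp at k1 k2 k3
    clear k
    and_intros <;> grind, fun k x _ _ => by
    msimp at *; usimp; simp only [k]; and_intros <;> first | trivial | ring⟩) hA
  have i4 : Iv E A sY := (hA.iv_cent i3).congr (fun y hy => ⟨fun k => by
    have k1 := k xq (m0 _ rfl rfl) ⟨rfl, rfl, rfl, rfl, rfl⟩
    have k2 := k xr (m0 _ rfl rfl) ⟨rfl, rfl, rfl, rfl, rfl⟩
    have k4 := (hE y).1 hy
    msimp at *
    usimp at k1 k2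
    clear k
    and_intros <;> grind, fun k x _ hx => comm_J ⟨k.1, k.2.1, k.2.2.1⟩ ⟨hx.1, hx.2.1, hx.2.2.1⟩⟩) hA
  have := (hE xw).1 (h.mem2 trivial i4 (fun y _ hy => comm_J (by decide) ⟨hy.1, hy.2.1, hy.2.2.1⟩) le_rfl
    (fun y hy => m0 y hy.1 hy.2.2.2) fun y _ => by msimp; usimp; and_intros <;> ring)
  revert this
  msimp
  simp

end CL.C1F
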