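/-
S5227: essential subgroups not containing `J`: `J₁ ≤ E₁`.
-/
import Cfsg.Agent.FUS.C1.EsA1

set_option autoImplicit false
set_option linter.unusedSimpArgs false
set_option linter.unusedVariables false
set_option linter.unusedSectionVars false

namespace CL.C1F

open CL.Fus CL.RF4 CL.U5 Subgroup Cfsg Cfsg.FusionSystem
open scoped commutatorElement

variable {F F' : FusionSystem (⊤ : Subgroup U)} {E P : Subgroup U} {A : Set (U → U)} {f g : U → U} {e : k3}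

namespace EsA2

variable {H J₁ : Subgroup U} {p q r u v w p' q' r' u' v' w' : k3}

theorem br (s : U) (p q r u v w : k3) : ⁅jj p q r u v w, s⁆ =
    jj (-(2 * s.a * q + 2 * s.c * r + s.a * s.a * u + 2 * s.a * s.c * v + s.c * s.c * w))
      (-(s.b * r + s.a * u + (s.a * s.b + s.c) * v + s.b * s.c * w)) (-(s.a * v + s.c * w))
      (-(2 * s.b * v + s.b * s.b * w)) (-(s.b * w)) 0 := by
  simp only [jj]; usimp; and_intros <;> ring

theorem jm (p q r u v w p' q' r' u' v' w' : k3) : jj p q r u v w * jj p' q' r' u' v' w' =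
    jj (p + p') (q + q') (r + r') (u + u') (v + v') (w + w') := by
  simp only [jj]; usimp; and_intros <;> first | trivial | ring

theorem ad (h : jj p q r u v w ∈ H) (h' : jj p' q' r' u' v' w' ∈ H) :
    jj (p + p') (q + q') (r + r') (u + u') (v + v') (w + w') ∈ H := jm .. ▸ mul_mem h h'

theorem cg (h : jj p q r u v w ∈ H) (e : p' = p ∧ q' = q ∧ r' = r ∧ u' = u ∧ v' = v ∧ w' = w) :
    jj p' q' r' u' v' w' ∈ H := by
  obtain ⟨rfl, rfl, rfl, rfl, rfl, rfl⟩ := e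
  exact h

theorem sm (i : k3) (h : jj p q r u v w ∈ H) : jj (i * p) (i * q) (i * r) (i * u) (i * v) (i * w) ∈ H := by
  rcases k3_cases i with rfl | rfl | rfl
  · exact cg (show jj 0 0 0 0 0 0 ∈ H from one_mem H) (by simp)
  · exact cg h (by simp)
  · exact cg (ad h h) (by and_intros <;> ring)

theorem jJ : jj p q r u v w ∈ sJ := ⟨rfl, rfl, rfl⟩

theorem fix (h : Ca E J₁) {x : U} (hx : x ∈ J₁) (hy : jj p q r u v w ∈ J₁) :
    2 * x.a * q + 2 * x.c * r + x.a * x.a * u + 2 * x.a * x.c * v + x.c * x.c * w = 0 ∧ x.a * v + x.c * w = 0 := by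
  have := (br x p q r u v w).symm.trans (commutatorElement_eq_one_iff_mul_comm.2 (h.ab _ hy _ hx))
  exact ⟨neg_eq_zero.1 (congrArg U.p this), neg_eq_zero.1 (congrArg U.r this)⟩

theorem two (h : Ca E J₁) (H1 : ∀ y ∈ J₁, y.a = 0 → y ∈ sJ) {y z : U} (hy : y ∈ E) (hy' : y ∈ sJ) (hz : z ∈ E)
    (hz' : z ∈ sJ) (hn : y ∉ J₁) : z ∈ J₁ ∨ z * y ∈ J₁ ∨ z * (y * y) ∈ J₁ := by
  by_contra hc
  simp only [not_or] at hc
  obtain ⟨h1, h2, h3⟩ := hc
  have h4 : y * y ∉ J₁ := fun e => hn (by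
    rw [eq_inv_of_mul_eq_one_right (pow3_J hy')]; exact inv_mem e)
  have n : ∀ i j : Fin 4, i < j → (![z⁻¹, 1, y, y * y] i)⁻¹ * ![z⁻¹, 1, y, y * y] j ∉ J₁ := by
    intro i j
    fin_cases i <;> fin_cases j <;> simp [h1, h2, h3, h4, hn]
  have key := h.cnt (ι := Fin 4) (κ := k3) ![z⁻¹, 1, y, y * y] (by
      intro i
      fin_cases i
      exacts [⟨inv_mem hz, inv_mem hz'⟩, ⟨one_mem _, one_mem _⟩, ⟨hy, hy'⟩, ⟨mul_mem hy hy, mul_mem hy' hy'⟩])
    (fun i j hij => by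
      rcases lt_trichotomy i j with l | l | l
      · exact (n i j l hij).elim
      · exact l
      · exact (n j i l (by simpa using inv_mem hij)).elim) U.a
    fun a ha b hb e => H1 _ (mul_mem (inv_mem ha) hb) (by usimp; rw [e]; ring)
  simp at key

theorem two' (h : Ca E J₁) (H1 : ∀ y ∈ J₁, y.a = 0 → y ∈ sJ) (hy : jj p' q' 0 0 0 0 ∈ E)
    (hz : jj p q r u v w ∈ E) (hn : jj p' q' 0 0 0 0 ∉ J₁) : ∃ i, jj (p + i * p') (q + i * q') r u v w ∈ J₁ := by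
  rcases two h H1 hy jJ hz jJ hn with e | e | e
  · exact ⟨0, cg e (by simp)⟩
  · exact ⟨1, cg (jm .. ▸ e) (by simp)⟩
  · rw [jm, jm] at e
    exact ⟨2, cg e (by and_intros <;> ring)⟩

theorem main (h : Ca E J₁) {x : U} (hx : x ∈ J₁) (ha : x.a = 1) : False := by
  have xJ : x ∉ sJ := fun e => by have := e.1; rw [ha] at this; revert this; decide
  have hp : jj 1 0 0 0 0 0 ∈ E := h.cen _ fun y _ =>
    commutatorElement_eq_one_iff_mul_comm.1 ((br y ..).trans (by simp; rfl))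
  have hq1 : ∀ y ∈ E, ⁅jj 0 1 0 0 0 0, y⁆ ∈ E := fun y _ => br y .. ▸ cg (sm (-(2 * y.a)) hp) (by simp)
  have H1 : ∀ y ∈ J₁, y.a = 0 → y ∈ sJ := fun y hy y0 => by
    by_contra yJ
    have hq := h.pr _ jJ hq1 y hy yJ (br y .. ▸ cg (show jj 0 0 0 0 0 0 ∈ J₁ from one_mem _) (by simp [y0]))
    have hu : jj 0 0 0 1 0 0 ∈ E := h.pr _ jJ (fun s _ => br s .. ▸
      cg (ad (sm (-(s.a * s.a)) hp) (sm (-s.a) hq)) (by simp)) y hy yJ
      (br y .. ▸ cg (show jj 0 0 0 0 0 0 ∈ J₁ from one_mem _) (by simp [y0]))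
    have := (fix h hx (br x .. ▸ (h.brk hu jJ hx).1)).1
    simp only [ha] at this
    simp at this
    revert this; decide
  have H2 : ∀ s ∈ E, s.b = s.a * x.b := fun s hs => by
    have := (H1 _ (mul_mem (h.nrm s hs x hx) (inv_mem hx)) (by usimp; ring)).2.2
    usimp at this
    rw [ha] at this
    linear_combination -this
  have d3 := three_eq
  have hf : jj 0 (-x.b - x.c) 1 (-x.b) 0 0 ∈ E := h.pr _ jJ (fun s hs => br s .. ▸
    cg (sm _ hp) ⟨(mul_one _).symm, by rw [H2 s hs]; ring, by simp⟩) x hx xJ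
    (br x .. ▸ cg (show jj 0 0 0 0 0 0 ∈ J₁ from one_mem _)
      ⟨by rw [ha]; linear_combination x.b * d3, by rw [ha]; ring, by simp⟩)
  by_cases pJ : jj 1 0 0 0 0 0 ∈ J₁
  · have hq := h.pr _ jJ hq1 x hx xJ (br x .. ▸ cg (sm (-(2 * x.a)) pJ) (by simp))
    have qJ : jj 0 1 0 0 0 0 ∉ J₁ := fun e => by
      have := (fix h hx e).1
      simp only [ha] at this
      simp at this
      revert this; decide
    obtain ⟨i, hi⟩ := two' h H1 hq hf qJ
    obtain rfl : i = 0 := by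
      have := (fix h hx hi).1
      rw [ha] at this
      linear_combination 2 * this + (2 * x.b - i) * d3
    have hb : jj 0 0 0 (x.b + x.c) 1 0 ∈ E := h.pr _ jJ (fun s hs => br s .. ▸
      cg (ad (ad (sm (-(s.a * s.a * (x.b + x.c) + 2 * s.a * s.c)) hp)
        (sm (-(2 * s.a * (x.b + x.c) + s.a * s.b + s.c)) hq)) (sm (-s.a) hf)) ⟨by ring, by ring, by ring,
        by rw [H2 s hs]; linear_combination (-s.a * x.b) * d3, by simp⟩) x hx xJ
      (br x .. ▸ cg (ad (sm (-x.b) pJ) (sm (-1) hi)) ⟨by rw [ha]; linear_combination (-x.c) * d3,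
        by rw [ha]; linear_combination (-x.b - x.c) * d3, by rw [ha]; ring, by linear_combination (-x.b) * d3, by simp⟩)
    obtain ⟨j, hj⟩ := two' h H1 hq hb qJ
    simpa [ha] using (fix h hx hj).2
  · obtain ⟨i, hi⟩ := two' h H1 hp hf pJ
    have H3 : ∀ s ∈ E, s.c = s.a * (x.b + x.c) - s.a * s.a * x.b := fun s hs => by
      have e := mul_mem hi (h.nrm s hs _ (inv_mem hi))
      rw [show ∀ a b : U, a * cj b a⁻¹ = ⁅a, b⁆ from fun a b => by simp [cj, commutatorElement_def, mul_assoc], br] at e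
      by_contra hn
      refine pJ (cg (sm (s.c - (s.a * (x.b + x.c) - s.a * s.a * x.b)) e) ⟨?_, by rw [H2 s hs]; ring, by simp⟩)
      revert hn
      generalize s.a = α, s.c = γ, x.b = b, x.c = c, i = j
      revert α γ b c j; decide
    have hb : jj 0 (x.b - i) 0 (x.b + x.c) 1 0 ∈ E := h.pr _ jJ (fun s hs => br s .. ▸
      cg (sm (-s.a) (h.le hi)) (by
        rw [H2 s hs, H3 s hs]
        generalize s.a = α, x.b = b, x.c = c, i = j
        revert α b c j; decide)) x hx xJ (br x .. ▸ cg (sm (-1) hi) (by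
        rw [ha]
        generalize x.b = b, x.c = c, i = j
        revert b c j; decide))
    obtain ⟨j, hj⟩ := two' h H1 hp hb pJ
    simpa [ha] using (fix h hx hj).2

end EsA2


/-- Let `x ∈ J₁`, `x.a ≠ 0`, `N y = ⁅y, x⁆` on `J`, `J₀ = E ⊓ J`, `D = J₁ ⊓ J ≤ C(J₁)`, `N J₀ ≤ D`, `xp ∈ E`. `P(b)`: `h.pr`. `f = f_x ∈ sZ3` is the vector fixed by `x` with `(r, u) = (a, -b)`.
(1) no `x' ∈ J₁ ∖ J` has `a = 0`: [if `xp ∉ J₁`: `xq ∉ E` (else `N xq ∈ D`), but `xq` commutes with `x'`, `P(xq)`. If `xp ∈ J₁`: `P(xq)` gives `xq ∈ E`, so `⁅sZ3, U⁆ ≤ sZ2 ≤ E`; `xu` commutes with `x'`, so `xu ∈ E`,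
but `N (N xu) ≠ 1`.] So `x' ↦ x'.a` is injective on `J₁ / D`: `|J₀ : D| ≤ 3` (`cnt`), and every `s ∈ E` commutes with `x` modulo `J` (`⁅s, x⁆ ∈ J₁` has `a = 0`), i.e. `s ∈ J ⟨x, xc⟩`.
(2) `f ∈ E` by `P(f)` (`⁅f, xc⁆ ∈ Z`).
(3) `xp ∉ J₁`: `J₀ = D Z`, so `d = f xp^i ∈ D`; no `s ∈ E` lies over `xc^±` times a power of `x` (`⁅d, s⁆ ∈ Z# ⊓ J₁`), so `E ≤ J ⟨x⟩`; take `b = xv xu^j xq^k` with `N b = d^±`; `P(b)` gives `b ∈ J₀ = D Z ≤ C(x)`, false.
(4) `xp ∈ J₁`: `xq ∈ J₀ ∖ C(x)`, so `J₀ = D ⟨xq⟩` and `D = C_{J₀}(x) ∋ f`; `b = xv xu^j` with `N b ∈ ⟨f, xp⟩`; `⁅b, xc⁆ ∈ sZ2`; `P(b)` gives `b ∈ J₀`, but `xq`, `b` are independent modulo `C(x)`. -/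
theorem Ca.a_zero {J₁ : Subgroup U} (h : Ca E J₁) : ∀ x ∈ J₁, x.a = 0 := by
  intro x hx
  rcases k3_cases x.a with e | e | e
  · exact e
  · exact (EsA2.main h hx e).elim
  · exact (EsA2.main h (inv_mem hx) (by rw [U.inv_a, e]; decide)).elim

end CL.C1F
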