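/-
S5227: essential subgroups not containing `J`: the list.
-/
import Cfsg.Agent.FUS.C1.EsA1

set_option autoImplicit false
set_option linter.unusedSimpArgs false
set_option linter.unusedVariables false
set_option linter.unusedSectionVars false

namespace CL.C1F

open CL.Fus CL.RF4 CL.U5 Subgroup Cfsg Cfsg.FusionSystem
open scoped commutatorElement

variable {F F' : FusionSystem (⊤ : Subgroup U)} {E P : Subgroup U} {A : Set (U → U)} {f g : U → U} {e : k3}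

namespace Ea3

variable {J₁ H : Subgroup U}

theorem brJ (p q r u v w : k3) (x : U) : ⁅jj p q r u v w, x⁆ =
    jj (-(2 * x.a * q + 2 * x.c * r + x.a * x.a * u + 2 * x.a * x.c * v + x.c * x.c * w))
      (-(x.b * r + x.a * u + (x.a * x.b + x.c) * v + x.b * x.c * w)) (-(x.a * v + x.c * w))
      (-(2 * x.b * v + x.b * x.b * w)) (-(x.b * w)) 0 := by
  msimp; usimp; and_intros <;> ring

theorem jj_mul (p q r u v w p' q' r' u' v' w' : k3) :
    jj p q r u v w * jj p' q' r' u' v' w' = jj (p + p') (q + q') (r + r') (u + u') (v + v') (w + w') := by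
  msimp; usimp; and_intros <;> first | trivial | ring

theorem jj_inv (p q r u v w : k3) : (jj p q r u v w)⁻¹ = jj (-p) (-q) (-r) (-u) (-v) (-w) := by
  msimp; usimp; and_intros <;> first | trivial | ring

theorem jj_J (p q r u v w : k3) : jj p q r u v w ∈ sJ := ⟨rfl, rfl, rfl⟩

theorem eq_jj {y : U} (hy : y ∈ sJ) : y = jj y.p y.q y.r y.u y.v y.w := by
  msimp at *; usimp; simp [hy]

theorem sm {p q r u v w : k3} (h : jj p q r u v w ∈ H) (i : k3) : jj (i * p) (i * q) (i * r) (i * u) (i * v) (i * w) ∈ H := by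
  rcases k3_cases i with rfl | rfl | rfl
  · simp only [zero_mul]; exact H.one_mem
  · simpa only [one_mul] using h
  · have := H.mul_mem h h
    rw [jj_mul] at this
    simpa only [two_mul] using this

theorem sm' {p q r u v w i : k3} (hi : i ≠ 0) (h : jj (i * p) (i * q) (i * r) (i * u) (i * v) (i * w) ∈ H) : jj p q r u v w ∈ H := by
  have := sm h i
  simpa only [← mul_assoc, k3_sq hi, one_mul] using this

theorem of_eq {p q r u v w p' q' r' u' v' w' : k3} (h : jj p q r u v w ∈ H) (h1 : p' = p) (h2 : q' = q) (h3 : r' = r) (h4 : u' = u)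
    (h5 : v' = v) (h6 : w' = w) : jj p' q' r' u' v' w' ∈ H := by subst h1 h2 h3 h4 h5 h6; exact h

theorem add {p q r u v w p' q' r' u' v' w' : k3} (h : jj p q r u v w ∈ H) (h' : jj p' q' r' u' v' w' ∈ H) :
    jj (p + p') (q + q') (r + r') (u + u') (v + v') (w + w') ∈ H := jj_mul .. ▸ H.mul_mem h h'

theorem bc_ne {x : U} (ha : x.a = 0) (hx : x ∉ sJ) : x.b ≠ 0 ∨ x.c ≠ 0 := by
  by_contra hn
  push Not at hn
  exact hx ⟨ha, hn.1, hn.2⟩

theorem mem_W (h : Ca E J₁) (ha : ∀ x ∈ J₁, x.a = 0) (p q u : k3) : jj p q 0 u 0 0 ∈ E := by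
  obtain ⟨x, hx, hxJ⟩ := h.mv
  have hp : ∀ p, jj p 0 0 0 0 0 ∈ E := fun p => h.cen _ fun y _ => by msimp; usimp; and_intros <;> ring
  have hq : ∀ p q, jj p q 0 0 0 0 ∈ E := fun p q =>
    h.pr _ (jj_J ..) (fun y _ => by rw [brJ]; exact of_eq (hp _) rfl (by ring) (by ring) (by ring) (by ring) rfl) x hx hxJ
      (by rw [brJ, ha x hx]; exact of_eq J₁.one_mem (by ring) (by ring) (by ring) (by ring) (by ring) rfl)
  exact h.pr _ (jj_J ..) (fun y _ => by rw [brJ]; exact of_eq (hq _ _) rfl rfl (by ring) (by ring) (by ring) rfl) x hx hxJ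
      (by rw [brJ, ha x hx]; exact of_eq J₁.one_mem (by ring) (by ring) (by ring) (by ring) (by ring) rfl)

theorem k1 : ∀ b c r v w : k3, b ≠ 0 ∨ c ≠ 0 → c * w = 0 → b * w = 0 → 2 * c * r + c * c * w = 0 → b * r + c * v + b * c * w = 0 →
    2 * b * v + b * b * w = 0 → r = 0 ∧ v = 0 ∧ w = 0 := by decide

/-- `J₁ ⊓ J ≤ W` -/
theorem D_le (h : Ca E J₁) (ha : ∀ x ∈ J₁, x.a = 0) {y : U} (hy : y ∈ J₁) (hJ : y ∈ sJ) : y.r = 0 ∧ y.v = 0 ∧ y.w = 0 := by
  obtain ⟨x, hx, hxJ⟩ := h.mv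
  have e := h.ab x hx y hy
  have h0 := ha x hx
  msimp at hJ
  usimp at e
  simp only [h0, hJ] at e
  obtain ⟨-, -, -, e1, e2, e3, e4, e5, -⟩ := e
  exact k1 x.b x.c _ _ _ (bc_ne h0 hxJ) (by linear_combination e3) (by linear_combination e5) (by linear_combination e1)
    (by linear_combination e2) (by linear_combination e4)

theorem k2 : ∀ b c w : k3, b ≠ 0 ∨ c ≠ 0 → c * c * w = 0 → b * b * w = 0 → w = 0 := by decide
theorem k2' : ∀ b c w : k3, b ≠ 0 ∨ c ≠ 0 → c * w = 0 → b * w = 0 → w = 0 := by decide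

theorem w_zero (h : Ca E J₁) (ha : ∀ x ∈ J₁, x.a = 0) {x : U} (hx : x ∈ J₁) : x.w = 0 := by
  by_cases hJ : x ∈ sJ
  · exact (D_le h ha hx hJ).2.2
  have e := h.ex x hx
  have h0 := ha x hx
  usimp at e
  simp only [h0] at e
  obtain ⟨-, -, -, e1, -, -, e4, -, -⟩ := e
  exact k2 x.b x.c _ (bc_ne h0 hJ)
    (by linear_combination (-1) * e1 + (x.p + 2 * x.c * x.r + 2 * x.c * x.c * x.w) * three_eq)
    (by linear_combination (-1) * e4 + (x.u + 2 * x.b * x.v + 2 * x.b * x.b * x.w) * three_eq)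

theorem br_mem (h : Ca E J₁) {s x : U} (hs : s ∈ E) (hx : x ∈ J₁) : ⁅s, x⁆ ∈ J₁ :=
  J₁.mul_mem (h.nrm s hs x hx) (J₁.inv_mem hx)

theorem br_mem' (h : Ca E J₁) {s x : U} (hs : s ∈ E) (hx : x ∈ J₁) : ⁅x, s⁆ ∈ J₁ := by
  rw [← commutatorElement_inv]; exact J₁.inv_mem (br_mem h hs hx)

/-- `E ⊓ E₁ ≤ R` -/
theorem E_w (h : Ca E J₁) (ha : ∀ x ∈ J₁, x.a = 0) {s : U} (hs : s ∈ E) (h0 : s.a = 0) : s.w = 0 := by
  obtain ⟨x, hx, hxJ⟩ := h.mv
  have h1 := ha x hx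
  have h2 := w_zero h ha hx
  have e := D_le h ha (br_mem h hs hx) (by msimp; usimp; simp only [h0, h1]; and_intros <;> ring)
  usimp at e
  simp only [h0, h1, h2] at e
  exact k2' x.b x.c _ (bc_ne h1 hxJ) (by linear_combination (-1) * e.1) (by linear_combination (-1) * e.2.1)

theorem two (h : Ca E J₁) (χ : U → k3) (h3 : ∀ x ∈ J₁, ∀ y ∈ J₁, χ x = χ y → x⁻¹ * y ∈ sJ) {p q r u v w p' q' r' u' v' w' : k3}
    (h1 : jj p q r u v w ∈ E) (h2 : jj p' q' r' u' v' w' ∈ E) : ∃ i j : k3, (i ≠ 0 ∨ j ≠ 0) ∧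
      jj (i * p + j * p') (i * q + j * q') (i * r + j * r') (i * u + j * u') (i * v + j * v') (i * w + j * w') ∈ J₁ := by
  by_contra hn
  push Not at hn
  have := h.cnt (ι := k3 × k3) (fun t => jj (t.1 * p + t.2 * p') (t.1 * q + t.2 * q') (t.1 * r + t.2 * r') (t.1 * u + t.2 * u')
    (t.1 * v + t.2 * v') (t.1 * w + t.2 * w')) (fun t => ⟨add (sm h1 _) (sm h2 _), jj_J ..⟩) (fun s t hst => by
      rw [jj_inv, jj_mul] at hst
      by_contra hne
      refine hn (t.1 - s.1) (t.2 - s.2) ?_ (of_eq hst (by ring) (by ring) (by ring) (by ring) (by ring) (by ring))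
      by_contra h0
      push Not at h0
      exact hne (Prod.ext (sub_eq_zero.1 h0.1).symm (sub_eq_zero.1 h0.2).symm)) χ h3
  simp only [Nat.card_prod, Nat.card_zmod] at this
  omega

theorem three (h : Ca E J₁) (ha : ∀ x ∈ J₁, x.a = 0) : ∃ i j k : k3, (i ≠ 0 ∨ j ≠ 0 ∨ k ≠ 0) ∧ jj i j 0 k 0 0 ∈ J₁ := by
  by_contra hn
  push Not at hn
  have := h.cnt (ι := k3 × k3 × k3) (fun t => jj t.1 t.2.1 0 t.2.2 0 0) (fun t => ⟨mem_W h ha _ _ _, jj_J ..⟩) (fun s t hst => by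
      rw [jj_inv, jj_mul] at hst
      by_contra hne
      refine hn (t.1 - s.1) (t.2.1 - s.2.1) (t.2.2 - s.2.2) ?_
        (of_eq hst (by ring) (by ring) (by ring) (by ring) (by ring) (by ring))
      by_contra h0
      push Not at h0
      exact hne (Prod.ext (sub_eq_zero.1 h0.1).symm (Prod.ext (sub_eq_zero.1 h0.2.1).symm (sub_eq_zero.1 h0.2.2).symm)))
    (fun x => (x.b, x.c)) (fun x hx y hy e => by
      obtain ⟨e1, e2⟩ := Prod.ext_iff.1 e
      dsimp only at e1 e2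
      msimp; usimp; simp only [ha x hx, ha y hy, e1, e2]; and_intros <;> ring)
  simp only [Nat.card_prod, Nat.card_zmod] at this
  omega

theorem pw (ha : ∀ x ∈ J₁, x.a = 0) {x : U} (hx : x ∈ J₁) (i : k3) : ∃ y ∈ J₁, y.b = i * x.b ∧ y.c = i * x.c := by
  rcases k3_cases i with rfl | rfl | rfl
  · exact ⟨1, J₁.one_mem, by usimp; simp⟩
  · exact ⟨x, hx, by simp⟩
  · exact ⟨x * x, J₁.mul_mem hx hx, by usimp; simp only [ha x hx]; and_intros <;> ring⟩

theorem k4 : ∀ b c b' c' : k3, b * c' - c * b' ≠ 0 → ∀ m n : k3, ∃ i j : k3, i * b + j * b' = m ∧ i * c + j * c' = n := by decide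

theorem onto (ha : ∀ x ∈ J₁, x.a = 0) {x x' : U} (hx : x ∈ J₁) (hx' : x' ∈ J₁) (hd : x.b * x'.c - x.c * x'.b ≠ 0) (m n : k3) :
    ∃ y ∈ J₁, y.b = m ∧ y.c = n := by
  obtain ⟨i, j, e1, e2⟩ := k4 _ _ _ _ hd m n
  obtain ⟨y, hy, f1, f2⟩ := pw ha hx i
  obtain ⟨y', hy', f1', f2'⟩ := pw ha hx' j
  exact ⟨y * y', J₁.mul_mem hy hy', by usimp; rw [f1, f1', e1], by usimp; rw [f2, f2', ha y hy, ← e2]; ring⟩

/-- `R ≤ E` -/
theorem R_le (h : Ca E J₁) (ha : ∀ x ∈ J₁, x.a = 0) (hK : ∀ m n, ∃ y ∈ J₁, y.b = m ∧ y.c = n) (hY : ∀ r v, jj 0 0 r 0 v 0 ∈ E)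
    {g : U} (h1 : g.a = 0) (h2 : g.w = 0) : g ∈ E := by
  obtain ⟨x, hx, e1, e2⟩ := hK g.b g.c
  have h3 := ha x hx
  have h4 := w_zero h ha hx
  have hJ : g * x⁻¹ ∈ sJ := by msimp; usimp; simp only [h1, h3, e1, e2]; and_intros <;> ring
  have : g * x⁻¹ ∈ E := by
    rw [eq_jj hJ]
    exact of_eq (add (mem_W h ha (g * x⁻¹).p (g * x⁻¹).q (g * x⁻¹).u) (hY (g * x⁻¹).r (g * x⁻¹).v)) (by ring) (by ring) (by ring)
      (by ring) (by ring) (by usimp; rw [h2, h4]; ring)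
  simpa using E.mul_mem this (h.le hx)

theorem k5 : ∀ i j : k3, i ≠ 0 ∨ j ≠ 0 → ∀ m n : k3, m * i = 0 → m * j = 0 → m = 0 := by decide
theorem k6 : ∀ b c b' c' b'' c'' : k3, b ≠ 0 ∨ c ≠ 0 → b * c' - c * b' = 0 → b * c'' - c * b'' = 0 →
    (if b = 0 then c' else b') = (if b = 0 then c'' else b'') → b' = b'' ∧ c' = c'' := by
  intro b c b' c' b'' c'' h1 h2 h3 h4
  split_ifs at h4 with hb
  · subst hb h4; revert c b' c' b''; decide
  · subst h4; revert b c b' c' c''; decide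

theorem caseA (h : Ca E J₁) (ha : ∀ x ∈ J₁, x.a = 0) (hE : ∀ s ∈ E, s.a = 0) : (∃ e, E = Y5 e) ∨ E = sR := by
  have P : ∀ r v, ∀ x ∈ J₁, x.b ≠ 0 ∨ x.c ≠ 0 → jj (-(2 * x.c * r)) (-(x.b * r + x.c * v)) 0 (-(2 * x.b * v)) 0 0 ∈ J₁ →
      jj 0 0 r 0 v 0 ∈ E := fun r v x hx hxJ hm =>
    h.pr _ (jj_J ..) (fun y hy => by rw [brJ, hE y hy]; exact of_eq (mem_W h ha _ _ _) rfl rfl (by ring) rfl (by ring) rfl) x hx
      (fun hJ => hxJ.elim (fun h => h hJ.2.1) fun h => h hJ.2.2)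
      (by rw [brJ, ha x hx]; exact of_eq hm (by ring) (by ring) (by ring) (by ring) (by ring) rfl)
  obtain ⟨x, hx, hxJ⟩ := h.mv
  have hbc := bc_ne (ha x hx) hxJ
  have hK : ∀ m n, ∃ y ∈ J₁, y.b = m ∧ y.c = n := by
    by_cases hd : ∃ x' ∈ J₁, x.b * x'.c - x.c * x'.b ≠ 0
    · obtain ⟨x', hx', hd⟩ := hd
      exact onto ha hx hx' hd
    exfalso
    push Not at hd
    have h3 : ∀ y ∈ J₁, ∀ z ∈ J₁, (if x.b = 0 then y.c else y.b) = (if x.b = 0 then z.c else z.b) → y⁻¹ * z ∈ sJ := fun y hy z hz e => by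
      obtain ⟨e1, e2⟩ := k6 _ _ _ _ _ _ hbc (hd y hy) (hd z hz) e
      msimp; usimp; simp only [ha y hy, ha z hz, e1, e2]; and_intros <;> ring
    obtain ⟨i, j, hij, hm⟩ := two h _ h3 (mem_W h ha (-(2 * x.c)) (-x.b) 0) (mem_W h ha 0 (-x.c) (-(2 * x.b)))
    have hy := P i j x hx hbc (of_eq hm (by ring) (by ring) (by ring) (by ring) (by ring) (by ring))
    have hW : ∀ p q u, jj p q 0 u 0 0 ∈ J₁ := fun p q u => by
      obtain ⟨m, n, hmn, hm⟩ := two h _ h3 hy (mem_W h ha p q u)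
      have e := D_le h ha hm (jj_J ..)
      msimp at e
      have m0 : m = 0 := k5 i j hij m n (by linear_combination e.1) (by linear_combination e.2.1)
      subst m0
      exact sm' (i := n) (by simpa using hmn) (of_eq hm (by ring) (by ring) (by ring) (by ring) (by ring) (by ring))
    obtain ⟨m, n, hmn, hm⟩ := two h _ h3 (P 1 0 x hx hbc (hW ..)) (P 0 1 x hx hbc (hW ..))
    have e := D_le h ha hm (jj_J ..)
    msimp at e
    exact hmn.elim (fun h => h (by linear_combination e.1)) fun h => h (by linear_combination e.2.1)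
  by_cases hJ : ∃ y ∈ E, y ∈ sJ ∧ (y.v ≠ 0 ∨ y.r ≠ 0)
  · obtain ⟨y, hy, hyJ, hrv⟩ := hJ
    obtain ⟨t, ht, e1, e2⟩ := hK y.v y.r
    have hw := E_w h ha hy hyJ.1
    refine Or.inr (le_antisymm (fun s hs => ⟨hE s hs, E_w h ha hs (hE s hs)⟩) fun g hg => R_le h ha hK (fun r v => ?_) hg.1 hg.2)
    obtain ⟨t', ht', e1', e2'⟩ := hK v r
    have := br_mem h hy ht'
    rw [eq_jj hyJ, brJ, ha t' ht', e1', e2', hw] at this
    exact P r v t ht (by rw [e1, e2]; exact hrv)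
      (by rw [e1, e2]; exact of_eq this (by ring) (by ring) (by ring) (by ring) (by ring) rfl)
  push Not at hJ
  obtain ⟨x₁, hx₁, b1, c1⟩ := hK 1 0
  obtain ⟨x₂, hx₂, b2, c2⟩ := hK 0 1
  have r1 : x₁.r = 0 := by
    have e := h.ab x₁ hx₁ x₂ hx₂
    usimp at e
    simp only [ha x₁ hx₁, ha x₂ hx₂, b1, c1, b2, c2, w_zero h ha hx₁, w_zero h ha hx₂] at e
    linear_combination e.2.2.2.1 + x₁.r * three_eq
  have hY : ∀ y ∈ J₁, y ∈ Y5 x₁.v := fun y hy => by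
    have e := h.ab x₁ hx₁ y hy
    usimp at e
    simp only [ha x₁ hx₁, ha y hy, b1, c1, r1, w_zero h ha hx₁, w_zero h ha hy] at e
    exact ⟨ha y hy, w_zero h ha hy, by linear_combination e.2.2.2.2.1,
      by linear_combination (-1) * e.2.2.2.2.2.2.1 + (y.v - y.b * x₁.v) * three_eq⟩
  refine Or.inl ⟨x₁.v, le_antisymm (fun g hg => ?_) fun g hg => ?_⟩
  · obtain ⟨y, hy, e1, e2⟩ := hK g.b g.c
    have hJ' : g * y⁻¹ ∈ sJ := by msimp; usimp; simp only [hE g hg, ha y hy, e1, e2]; and_intros <;> ring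
    have hE' : g * y⁻¹ ∈ E := E.mul_mem hg (E.inv_mem (h.le hy))
    have h5 := hJ _ hE' hJ'
    have : g * y⁻¹ ∈ Y5 x₁.v := ⟨hJ'.1, E_w h ha hE' hJ'.1, by rw [h5.2, hJ'.2.2, mul_zero], by rw [h5.1, hJ'.2.1, mul_zero]⟩
    simpa using (Y5 _).mul_mem this (hY y hy)
  · obtain ⟨y, hy, e1, e2⟩ := hK g.b g.c
    have hJ' : g * y⁻¹ ∈ sJ := by msimp; usimp; simp only [hg.1, ha y hy, e1, e2]; and_intros <;> ring
    have h5 := (Y5 _).mul_mem hg ((Y5 _).inv_mem (hY y hy))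
    have : g * y⁻¹ ∈ E := by
      rw [eq_jj hJ']
      exact of_eq (mem_W h ha _ _ _) rfl rfl (by rw [h5.2.2.1, hJ'.2.2, mul_zero]) rfl (by rw [h5.2.2.2, hJ'.2.1, mul_zero]) h5.2.1
    simpa using E.mul_mem this (h.le hy)

theorem k7 : ∀ a g : k3, a ≠ 0 → g = 0 ∨ g = a ∨ g = -a := by decide

theorem caseB (h : Ca E J₁) (ha : ∀ x ∈ J₁, x.a = 0) {s : U} (hs : s ∈ E) (h0 : s.a ≠ 0) : ∃ e : k3, ∀ g, g ∈ E ↔ g.w = e * g.a := by
  have haa := k3_sq h0
  obtain ⟨t, ht, tb, tc⟩ : ∃ t ∈ J₁, t.b = 0 ∧ t.c = 1 := by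
    obtain ⟨t, ht, tb, tc⟩ : ∃ t ∈ J₁, t.b = 0 ∧ t.c ≠ 0 := by
      obtain ⟨x, hx, hxJ⟩ := h.mv
      by_cases hb : x.b = 0
      · exact ⟨x, hx, hb, (bc_ne (ha x hx) hxJ).resolve_left (not_not.2 hb)⟩
      · refine ⟨_, br_mem h hs hx, by usimp; ring, ?_⟩
        have : ⁅s, x⁆.c = s.a * x.b := by usimp; rw [ha x hx]; ring
        rw [this]; exact mul_ne_zero h0 hb
    obtain ⟨y, hy, e1, e2⟩ := pw ha ht t.c
    exact ⟨y, hy, by rw [e1, tb, mul_zero], by rw [e2, k3_sq tc]⟩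
  have tJ : t ∉ sJ := fun hJ => one_ne_zero (tc.symm.trans hJ.2.2)
  have ta := ha t ht
  have hp : jj 1 0 0 0 0 0 ∈ J₁ := by
    obtain ⟨i, j, k, hijk, hm⟩ := three h ha
    have h1 := br_mem' h hs hm
    rw [brJ] at h1
    have h2 := br_mem' h hs h1
    rw [brJ] at h2
    by_cases hk : k = 0
    · subst hk
      by_cases hj : j = 0
      · subst hj
        exact sm' (i := i) (by simpa using hijk) (of_eq hm (by ring) (by ring) (by ring) (by ring) (by ring) (by ring))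
      · exact sm' (i := s.a * j) (mul_ne_zero h0 hj) (of_eq h1 (by linear_combination (s.a * j) * three_eq) (by ring) (by ring)
          (by ring) (by ring) (by ring))
    · exact sm' (i := -k) (neg_ne_zero.2 hk) (of_eq h2 (by linear_combination (-2 * k) * haa - k * three_eq) (by ring) (by ring)
          (by ring) (by ring) (by ring))
  have hr : jj 0 0 1 0 0 0 ∈ E :=
    h.pr _ (jj_J ..) (fun y hy => by rw [brJ]; exact of_eq (mem_W h ha _ _ _) rfl rfl (by ring) rfl (by ring) rfl) t ht tJ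
      (by rw [brJ, ta, tb, tc]; exact of_eq hp (by decide) (by decide) (by decide) (by decide) (by decide) rfl)
  have hv : jj 0 1 0 0 0 0 ∈ J₁ → jj 0 0 0 0 1 0 ∈ E := fun hq =>
    h.pr _ (jj_J ..) (fun y hy => by
        rw [brJ]
        exact of_eq (add (mem_W h ha (-(2 * y.a * y.c)) (-(y.a * y.b + y.c)) (-(2 * y.b))) (sm hr (-y.a))) (by ring) (by ring)
          (by ring) (by ring) (by ring) (by ring)) t ht tJ
      (by rw [brJ, ta, tb, tc]; exact of_eq (sm hq (-1)) (by decide) (by decide) (by decide) (by decide) (by decide) (by decide))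
  have hK : ∀ m n, ∃ y ∈ J₁, y.b = m ∧ y.c = n := by
    by_cases hd : ∃ x' ∈ J₁, x'.b ≠ 0
    · obtain ⟨x', hx', hd⟩ := hd
      exact onto ha ht hx' (by rw [tb, tc]; simpa using hd)
    exfalso
    push Not at hd
    have h3 : ∀ y ∈ J₁, ∀ z ∈ J₁, y.c = z.c → y⁻¹ * z ∈ sJ := fun y hy z hz e => by
      msimp; usimp; simp only [ha y hy, ha z hz, hd y hy, hd z hz, e]; and_intros <;> ring
    have hq : jj 0 1 0 0 0 0 ∈ J₁ := by
      obtain ⟨m, n, hmn, hm⟩ := two h _ h3 hr (mem_W h ha 0 1 0)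
      have e := D_le h ha hm (jj_J ..)
      msimp at e
      have m0 : m = 0 := by linear_combination e.1
      subst m0
      exact sm' (i := n) (by simpa using hmn) (of_eq hm (by ring) (by ring) (by ring) (by ring) (by ring) (by ring))
    obtain ⟨m, n, hmn, hm⟩ := two h _ h3 hr (hv hq)
    have e := D_le h ha hm (jj_J ..)
    msimp at e
    exact hmn.elim (fun h => h (by linear_combination e.1)) fun h => h (by linear_combination e.2.1)
  have hq : jj 0 1 0 0 0 0 ∈ J₁ := by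
    obtain ⟨x, hx, e1, e2⟩ := hK (-1) 0
    have := br_mem h hr hx
    rw [brJ, ha x hx, e1, e2] at this
    exact of_eq this (by decide) (by decide) (by decide) (by decide) (by decide) rfl
  have key : ∀ g : U, g.a = 0 → (g ∈ E ↔ g.w = 0) := fun g hg => ⟨fun hE => E_w h ha hE hg, R_le h ha hK (fun r v =>
    of_eq (add (sm hr r) (sm (hv hq) v)) (by ring) (by ring) (by ring) (by ring) (by ring) (by ring)) hg⟩
  refine ⟨s.w * s.a, fun g => ?_⟩
  rcases k7 s.a g.a h0 with e | e | e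
  · rw [key g e, e, mul_zero]
  · rw [← E.mul_mem_cancel_right (E.inv_mem hs), key _ (by usimp; rw [e]; ring), e, mul_assoc, haa, mul_one]
    usimp
    exact ⟨fun h => by linear_combination h, fun h => by linear_combination h⟩
  · rw [← E.mul_mem_cancel_right hs, key _ (by usimp; rw [e]; ring), e, mul_neg, mul_assoc, haa, mul_one]
    usimp
    exact ⟨fun h => by linear_combination h, fun h => by linear_combination h⟩

end Ea3

/-- `J₀ = E ⊓ J`, `D = J₁ ⊓ J`, `K` the image of `J₁` in `ℬ = E1 / J`; every `t ∈ ℬ#` has `C_J(t) = W`, `⁅y, t⁆ = (p : 2 c r, q : b r + c v, u : 2 b v)^∓` for `y ∈ Y`. `P(b)`: `h.pr`.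
`xp ∈ E`; `P(xq)`, then `P(xu)`: `W ≤ J₀`. `⁅J₀, t, t⁆ = 1` gives `J₀ ≤ Y`; `D ≤ W`; `x³ = 1` gives `x.w = 0` on `J₁`.
(A) `E ≤ E1`: `P(y)` applies to all `y ∈ Y`. `|K| = 3`: `|J₀ : D| = 3`; `J₀ = W` gives a kernel of `Y / W → W / D`; otherwise `D = W`, so `Y ≤ E`, index 9. So `K = ℬ`. If `y ∈ J₀ ∖ W` then `D ≥ ⁅y, ℬ⁆ ∋ ⁅y', t⁆` for `t` parallel to `y`,
so `Y ≤ E` and `E = R`. If `J₀ = W`: `E = W ⟨x₁, x₂⟩` with commuting `x₁` over `xb`, `x₂` over `xc`: `x₁.r = 0`, `x₂.v = 0`, `x₁.v = x₂.r = e` (up to sign conventions), `E = Y5 e`.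
(B) `s ∈ E`, `s.a ≠ 0`: `xc ∈ K` (`⁅s, x⁆`). `D` is normalised by `s`; if `xp ∉ D` then `D = 1` (one Jordan block on `W`), `|J₀| ≤ 9`, false. `P(xr)` with `t = xc`: `sZ3 ≤ E`. `K = ⟨xc⟩`: index 3 forces `D = W`, `J₀ = sZ3`,
but `P(xv)`. So `K = ℬ`, `xq ∈ D`, `P(xv)`: `J₀ = Y`, `R ≤ E`, `xw ∉ E`, and `E = R ⟨s⟩ = {w = e a}`. -/
theorem Ca.cases {J₁ : Subgroup U} (h : Ca E J₁) (ha : ∀ x ∈ J₁, x.a = 0) :
    (∃ e, E = Y5 e) ∨ E = sR ∨ ∃ e : k3, ∀ g, g ∈ E ↔ g.w = e * g.a := by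
  by_cases hE : ∀ s ∈ E, s.a = 0
  · exact (Ea3.caseA h ha hE).imp_right Or.inl
  · push Not at hE
    obtain ⟨s, hs, h0⟩ := hE
    exact Or.inr (Or.inr (Ea3.caseB h ha hs h0))

end CL.C1F
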