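/-
S5227: essential subgroups containing `J`.
-/
import Cfsg.Agent.FUS.C1.Jch

set_option autoImplicit false
set_option linter.unusedSimpArgs false
set_option linter.unusedVariables false
set_option linter.unusedSectionVars false

namespace CL.C1F

open CL.Fus CL.RF4 CL.U5 Subgroup Cfsg Cfsg.FusionSystem
open scoped commutatorElement

variable {F F' : FusionSystem (⊤ : Subgroup U)} {E P : Subgroup U} {A : Set (U → U)} {f g : U → U} {e : k3}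

namespace EsBx

open Jchx

theorem tt_mem (hJ : sJ ≤ E) {g : U} : tt g.a g.b g.c ∈ E ↔ g ∈ E := by
  have m : g * (tt g.a g.b g.c)⁻¹ ∈ sJ := by msimp; usimp; and_intros <;> ring
  exact ⟨fun h => by simpa using mul_mem (hJ m) h, fun h => by simpa using mul_mem (inv_mem (hJ m)) h⟩

theorem pow_a (x : U) (n : k3) : (x ^ n.val).a = n * x.a ∧ (x ^ n.val).b = n * x.b := by
  have : ∀ m : ℕ, (x ^ m).a = m * x.a ∧ (x ^ m).b = m * x.b := fun m => by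
    induction m with
    | zero => simp [U.one_a, U.one_b]
    | succ m ih => rw [pow_succ, U.mul_a, U.mul_b, ih.1, ih.2]; push_cast; constructor <;> ring
  simpa using this n.val

theorem s1 : ∀ a c p q r : k3, (a ≠ 0 ∨ c ≠ 0) → ∃ y ∈ [jj 0 (-a * (p - a * q - c * r)) 0 (a * q - c * r) (a * r) 0,
    jj 0 0 (-c * (p - c * r)) 0 (c * q) (c * r)], y ∈ sJ ∧ jj p q r 0 0 0 = ⁅tt a 0 c, y⁆ := by decide +kernel

theorem s2 : ∀ a c p : k3, (a ≠ 0 ∨ c ≠ 0) → ∃ q r, jj p 0 0 0 0 0 = ⁅tt a 0 c, jj 0 q r 0 0 0⁆ := by decide +kernel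

theorem s3 : ∀ e a' b' a b : k3, b' ≠ e * a' → ∃ i j : k3, a = i + j * a' ∧ b = i * e + j * b' := by decide +kernel

theorem xc_mem {c : k3} (hc : c ≠ 0) (h : tt 0 0 c ∈ E) : xc ∈ E := by
  rcases k3_cases c with rfl | rfl | rfl
  exacts [absurd rfl hc, h, (by decide : (tt 0 0 2)⁻¹ = xc) ▸ inv_mem h]

theorem Jc_le (hJ : sJ ≤ E) (h : xc ∈ E) : sJc ≤ E := fun g hg => (tt_mem hJ).1 (by
  rw [hg.1, hg.2, (by decide : ∀ c : k3, tt 0 0 c = xc ^ c.val)]; exact pow_mem h _)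

theorem b1 {x y : U} (hx : x ∈ E2) (hy : y ∈ sJ) : ⁅x, y⁆ ∈ sY1 := by
  msimp at *; usimp; simp only [hx, hy]; and_intros <;> first | trivial | ring
theorem b2 {x y : U} (hx : x ∈ E2) (hy : y ∈ sY1) : ⁅x, y⁆ ∈ sZ := by
  msimp at *; usimp; simp only [hx, hy]; and_intros <;> first | trivial | ring
theorem b3 (x : U) {y : U} (hy : y ∈ sZ) : x * y = y * x := by
  msimp at *; usimp; simp only [hy]; and_intros <;> first | trivial | ring
theorem b4 {x y : U} (hx : x ∈ E2) (hy : y ∈ E2) : ⁅x, y⁆ ∈ sJ := by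
  msimp at *; usimp; simp only [hx, hy]; and_intros <;> first | trivial | ring
theorem b5 {x y : U} (hx : x ∈ E1) (hy : y ∈ E1) : ⁅x, y⁆ ∈ sJ := by
  msimp at *; usimp; simp only [hx, hy]; and_intros <;> first | trivial | ring
theorem b6 (x : U) {y : U} (hy : y ∈ sJ) : ⁅x, y⁆ ∈ sY := by
  msimp at *; usimp; simp only [hy]; and_intros <;> first | trivial | ring
theorem b7 {x y : U} (hx : x ∈ E1) (hy : y ∈ sY) : ⁅x, y⁆ ∈ sW := by
  msimp at *; usimp; simp only [hx, hy]; and_intros <;> first | trivial | ring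
theorem b8 {x y : U} (hx : x ∈ E1) (hy : y ∈ sW) : x * y = y * x := by
  msimp at *; usimp; simp only [hx, hy]; and_intros <;> first | trivial | ring
theorem b9 (x y : U) : ⁅x, y⁆ ∈ sJc := by
  msimp; usimp; and_intros <;> ring

theorem ivYZ (hA : Au E A) (hJ : sJ ≤ E) {X : Set U} (hX : Iv E A X) (h2 : ∀ x ∈ E, x ∈ X → x ∈ E2) {a c : k3}
    (hn : a ≠ 0 ∨ c ≠ 0) (m : tt a 0 c ∈ E) (m' : tt a 0 c ∈ X) : Ivs E A sY1 ∧ Ivs E A sZ := by
  have i1 : Ivs E A sY1 := (hA.iv_brk hX (iv_J hA hJ)).congr (fun y _ => ⟨by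
    rintro ⟨x, hx, hx', z, -, hz, rfl⟩; exact b1 (h2 x hx hx') hz, fun hy => by
    obtain ⟨z, -, hz, e⟩ := s1 a c y.p y.q y.r hn
    refine ⟨_, m, m', z, hJ hz, hz, Eq.trans ?_ e⟩
    msimp at *; usimp; simp only [hy, and_self]⟩) hA
  refine ⟨i1, (hA.iv_brk hX i1).congr (fun y _ => ⟨by
    rintro ⟨x, hx, hx', z, -, hz, rfl⟩; exact b2 (h2 x hx hx') hz, fun hy => ?_⟩) hA⟩
  obtain ⟨q, r, e⟩ := s2 a c y.p hn
  refine ⟨_, m, m', _, hJ ⟨rfl, rfl, rfl⟩, ⟨rfl, rfl, rfl, rfl, rfl, rfl⟩, Eq.trans ?_ e⟩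
  msimp at *; usimp; simp only [hy, and_self]

theorem eq_E2 (h : Cp ⊤ E A) (hJ : sJ ≤ E) (h2 : E ≤ E2) (hn : ¬ E ≤ sJ) : E = E2 := by
  obtain ⟨y, hy, hy'⟩ := SetLike.not_le_iff_exists.1 hn
  have m := (tt_mem hJ).2 hy
  rw [show y.b = 0 from h2 hy] at m
  obtain ⟨i1, i2⟩ := ivYZ h.toAu hJ h.toAu.iv_self (fun x hx _ => h2 hx)
    (by by_contra k; push Not at k; exact hy' ⟨k.1, h2 hy, k.2⟩) m m
  exact le_antisymm h2 fun g hg => h.mem4 trivial i2 i1 (iv_J h.toAu hJ) (fun y _ hy => b3 g hy)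
    (fun y _ hy => b2 hg hy) (fun y _ hy => b1 hg hy) hJ fun y hy => b4 hg (h2 hy)

theorem eq_E1 (h : Cp ⊤ E A) (hJ : sJ ≤ E) (h1 : E ≤ E1) {x : U} (hx : x ∈ E) (hb : x.b ≠ 0) : E = E1 := by
  have hA := h.toAu
  have i1 : Ivs E A sW := (hA.iv_cent hA.iv_self).congr (fun y _ => ⟨fun k => by
    have j := mem_J_of_comm (k xw (hJ (by decide)) (hJ (by decide))) (k xv (hJ (by decide)) (hJ (by decide)))
    have k1 := k x hx hx
    have k2 : x.a = 0 := h1 hx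
    msimp at *; usimp at k1
    clear k
    and_intros <;> grind, fun k z hz _ => (b8 (h1 hz) k).symm⟩) hA
  have i2 : Ivs E A sY := ((iv_J hA hJ).inter (hA.iv_comm hA.iv_self i1)).congr (fun y _ => ⟨fun k => by
    have j := k.1
    have k1 := (k.2 x hx hx).2.2.2.2.1
    clear k
    msimp at *; usimp at k1
    and_intros <;> grind, fun k => ⟨⟨k.1, k.2.1, k.2.2.1⟩, fun z hz _ => by
      rw [← commutatorElement_inv]; exact sW.inv_mem (b7 (h1 hz) k)⟩⟩) hA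
  exact le_antisymm h1 fun g hg => h.mem4 trivial i1 i2 (iv_J hA hJ) (fun y _ hy => b8 hg hy)
    (fun y _ hy => b7 hg hy) (fun y _ hy => b6 g hy) hJ fun y hy => b5 hg (h1 hy)

theorem s4 : ∀ a e c : k3, e ≠ 0 → ⁅tt a (e * a) c, ⁅tt a (e * a) c, xw⁆⁆ * xc = xc * ⁅tt a (e * a) c, ⁅tt a (e * a) c, xw⁆⁆ →
    a = 0 := by decide +kernel

theorem brk_tt (x : U) {y : U} (hy : y ∈ sJ) : ⁅x, y⁆ = ⁅tt x.a x.b x.c, y⁆ := by
  msimp at *; usimp; simp only [hy]; and_intros <;> first | trivial | ring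

theorem not_C (h : Cp ⊤ E A) (hJ : sJ ≤ E) (he : e ≠ 0) (hE : E ≤ sC e) (hc : xc ∈ E) : False := by
  have hA := h.toAu
  have iJ := iv_J hA hJ
  have i0 : Iv E A {s | ∀ y ∈ sJ, ∀ x ∈ E, ⁅s, ⁅s, y⁆⁆ * x = x * ⁅s, ⁅s, y⁆⁆} := fun α hα s hs k y hy x hx => by
    obtain ⟨y', m, hy', rfl⟩ := hA.surj' iJ hα (hJ hy) hy
    obtain ⟨x', hx', rfl⟩ := hA.surj hα hx
    have hm := hA.hom α hα
    have m1 := commutator_mem_of hs m
    have m2 := commutator_mem_of hs m1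
    rw [← hm.map_commutator hs m, ← hm.map_commutator hs m1, ← hm m2 hx', ← hm hx' m2, k y' hy' x' hx']
  have i1 : Ivs E A sJc := i0.congr (fun s hs => ⟨fun k => by
    have k1 := k xw (by decide) xc hc
    have k2 : s.b = e * s.a := hE hs
    have m := b6 s (y := xw) (by decide)
    rw [brk_tt s ⟨m.1, m.2.1, m.2.2.1⟩, brk_tt s (y := xw) (by decide), k2] at k1
    have := s4 _ _ _ he k1
    exact ⟨this, by rw [k2, this, mul_zero]⟩, fun k y hy x _ => (b3 x (b2 k.2 (b1 k.2 hy))).symm⟩) hA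
  obtain ⟨i2, i3⟩ := ivYZ hA hJ i1 (fun x _ hx => hx.2) (a := 0) (c := 1) (Or.inr one_ne_zero) hc ⟨rfl, rfl⟩
  have a2 : xa ∈ E2 := by decide
  have := hE (h.mem_of_ch trivial ((((Ch.base hA i3 fun y _ hy => b3 xa hy).step i3 i2 fun y _ hy => b2 a2 hy).step i2 iJ
    fun y _ hy => b1 a2 hy).step iJ i1 fun y _ hy => b4 a2 hy.2) i1 (fun y _ => b9 _ _) fun y _ => Jc_le hJ hc (b9 _ _))
  exact he (by simpa [mem_sC, xa, tt] using this.symm)

end EsBx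

open EsBx

/-- `E / J < T`; `J` is invariant (`iv_J`). Excluded by `h.f1` / `mem2..mem4` (invariance by `iv_brk`, `iv_cent`, `iv_comm`, `Iv.inter`, `Iv.congr`, `Cp.iv_core`):
`E = sJc`: `g = xa`, chain `Z < Z₂ < Z₃ < Y < J` (`W = C_J(E)`, `Y = {y | ⁅y, E⁆ ≤ W}`, `Y₁ = ⁅J, E⁆`, `Z₂ = W ⊓ Y₁`, `Z₃ = {y ∈ J | ⁅y, E⁆ ≤ Z}` with `Z = {⁅⁅y, s⁆, s⁆}`);
`E = J ⟨tt 1 0 c⟩`: `g = xc`, chain `Z < Y₁ < J` (`Y₁ = ⁅J, E⁆`, `Z = ⁅Y₁, E⁆`); `E = J ⟨tt 0 1 c⟩`: `g = xc`, chain `W < Y < J`;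
`E = sC e`, `e ≠ 0`: `g = xa`, upper central series `Z < Z₂ < Z₃ < Y < J`, then `sJc = {s | ⁅J, s, s⁆ ≤ Z}`. -/
theorem ess_ge_J (h : Cp ⊤ E A) (hJ : sJ ≤ E) : E = sJ ∨ E = E1 ∨ E = E2 ∨ ∃ e i, e ≠ 0 ∧ E = sK e i := by
  by_cases h2 : E ≤ E2
  · by_cases hn : E ≤ sJ
    · exact .inl (le_antisymm hn hJ)
    · exact .inr (.inr (.inl (eq_E2 h hJ h2 hn)))
  obtain ⟨y0, hy0, hb⟩ := SetLike.not_le_iff_exists.1 h2
  by_cases h1 : E ≤ E1
  · exact .inr (.inl (eq_E1 h hJ h1 hy0 hb))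
  obtain ⟨x, hx, ha⟩ : ∃ x ∈ E, x.a = 1 := by
    obtain ⟨x, hx, ha⟩ := SetLike.not_le_iff_exists.1 h1
    rcases k3_cases x.a with k | k | k
    exacts [absurd k ha, ⟨x, hx, k⟩, ⟨x⁻¹, inv_mem hx, by rw [U.inv_a, k]; rfl⟩]
  have hC : E ≤ sC x.b := fun y hy => by_contra fun k => h.ne fun g _ => by
    have m := (tt_mem hJ).2 (commutator_mem_of hx hy)
    rw [(b9 x y).1, (b9 x y).2] at m
    have mc := xc_mem (fun e => k (by usimp at e; rw [ha] at e; rw [mem_sC]; linear_combination e)) m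
    obtain ⟨i, j, e1, e2⟩ := s3 x.b y.a y.b g.a g.b k
    have m1 := mul_mem (pow_mem hx i.val) (pow_mem hy j.val)
    have := mul_mem m1 (Jc_le hJ mc (x := (x ^ i.val * y ^ j.val)⁻¹ * g) ⟨by
      rw [U.mul_a, U.inv_a, U.mul_a, (pow_a x i).1, (pow_a y j).1, e1, ha]; ring, by
      rw [U.mul_b, U.inv_b, U.mul_b, (pow_a x i).2, (pow_a y j).2, e2]; ring⟩)
    rwa [mul_inv_cancel_left] at this
  have he : x.b ≠ 0 := fun k => hb (by have := hC hy0; rwa [mem_sC, k, zero_mul] at this)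
  have hc : xc ∉ E := not_C h hJ he hC
  have mx : x ∈ sK x.b (x.c + x.b) := ⟨by rw [ha, mul_one], by rw [ha]; ring⟩
  have JK : sJ ≤ sK x.b (x.c + x.b) := fun y hy => ⟨by rw [hy.1, hy.2.1, mul_zero], by rw [hy.1, hy.2.2]; ring⟩
  have za : ∀ y : U, (y * (x ^ y.a.val)⁻¹).a = 0 := fun y => by rw [U.mul_a, U.inv_a, (pow_a x _).1, ha]; ring
  refine .inr (.inr (.inr ⟨_, x.c + x.b, he, le_antisymm (fun y hy => ?_) fun y hy => ?_⟩))
  · have m := mul_mem hy (inv_mem (pow_mem hx y.a.val))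
    have zb : (y * (x ^ y.a.val)⁻¹).b = 0 := by rw [show _ = _ from hC m, za, mul_zero]
    have m1 := (tt_mem hJ).2 m
    rw [za, zb] at m1
    simpa using mul_mem (JK ⟨za y, zb, by_contra fun k => hc (xc_mem k m1)⟩) (pow_mem mx y.a.val)
  · have m := mul_mem hy (inv_mem (pow_mem mx y.a.val))
    simpa using mul_mem (hJ ⟨za y, by rw [m.1, za, mul_zero], by rw [m.2, za]; ring⟩) (pow_mem hx y.a.val)

end CL.C1F
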