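/-
S5227: `R` is not essential.
-/
import Cfsg.Agent.FUS.C1.Defs

set_option autoImplicit false
set_option linter.unusedSimpArgs false
set_option linter.unusedVariables false
set_option linter.unusedSectionVars false

namespace CL.C1F

open CL.Fus CL.RF4 CL.U5 Subgroup Cfsg Cfsg.FusionSystem
open scoped commutatorElement

variable {F F' : FusionSystem (⊤ : Subgroup U)} {E P : Subgroup U} {A : Set (U → U)} {f g : U → U} {e : k3}

namespace KR

theorem comm_R {x y : U} (hx : x ∈ sR) (hy : y ∈ sR) : x * y = y * x ↔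
    x.c * y.r = y.c * x.r ∧ x.b * y.r + x.c * y.v = y.b * x.r + y.c * x.v ∧ x.b * y.v = y.b * x.v := by
  msimp at *; usimp; simp only [hx, hy]
  constructor
  · rintro ⟨-, -, -, h1, h2, -, h3, -⟩
    exact ⟨by linear_combination -h1 + (x.c * y.r - y.c * x.r) * three_eq, by linear_combination h2,
      by linear_combination -h3 + (x.b * y.v - y.b * x.v) * three_eq⟩
  · rintro ⟨h1, h2, h3⟩
    exact ⟨trivial, by ring, by ring, by linear_combination 2 * h1, by linear_combination h2, by ring, by linear_combination 2 * h3, by ring,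
      trivial⟩

set_option synthInstance.maxSize 2000 in
theorem fA : ∀ b c r v b' c' r' v' : k3, c * r' = c' * r → b * r' + c * v' = b' * r + c' * v → b * v' = b' * v →
    c * v = b * r ∨ ∃ i : k3, b' + i * b = 0 ∧ c' + i * c = 0 ∧ r' + i * r = 0 ∧ v' + i * v = 0 := by decide +kernel

theorem fB : ∀ b c r v b' c' r' v' : k3, c * r' = c' * r → b * r' + c * v' = b' * r + c' * v → b * v' = b' * v → c * v = b * r →
    (b = 0 ∧ c = 0 ∧ r = 0 ∧ v = 0) ∨
      (c * (r' + v') = (c' + b') * r ∧ b * (r' + v') + c * v' = b' * r + (c' + b') * v) := by decide +kernel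

theorem key {x y z : U} (hx : x ∈ sR) (hy : y ∈ sR) (hz : z ∈ sR) (h1 : x * y = y * x) (h2 : x * z = z * x) (n1 : x ∉ sW)
    (n2 : y ∉ sW) (n3 : y * x ∉ sW) (n4 : y * x * x ∉ sW) : x * cj xa z = cj xa z * x := by
  obtain ⟨a1, a2, a3⟩ := (comm_R hx hy).1 h1
  obtain ⟨b1, b2, b3⟩ := (comm_R hx hz).1 h2
  have e : (cj xa z).b = z.b ∧ (cj xa z).c = z.c + z.b ∧ (cj xa z).r = z.r + z.v ∧ (cj xa z).v = z.v := by
    msimp at *; usimp; simp only [hz]; and_intros <;> ring
  rw [comm_R hx (show cj xa z ∈ sR from Normal.conj_mem inferInstance z hz xa), e.1, e.2.1, e.2.2.1, e.2.2.2]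
  rcases fA _ _ _ _ _ _ _ _ a1 a2 a3 with k | ⟨i, k1, k2, k3, k4⟩
  · rcases fB _ _ _ _ _ _ _ _ b1 b2 b3 k with k | k
    · exact (n1 ⟨hx.1, k.1, k.2.1, k.2.2.1, k.2.2.2, hx.2⟩).elim
    · exact ⟨k.1, k.2, b3⟩
  exfalso
  rcases k3_cases i with rfl | rfl | rfl
  · exact n2 ⟨hy.1, by simpa using k1, by simpa using k2, by simpa using k3, by simpa using k4, hy.2⟩
  · refine n3 ?_
    msimp at *; usimp; simp only [hx, hy]
    exact ⟨by ring, by linear_combination k1, by linear_combination k2, by linear_combination k3, by linear_combination k4, by ring⟩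
  · refine n4 ?_
    msimp at *; usimp; simp only [hx, hy]
    exact ⟨by ring, by linear_combination k1, by linear_combination k2, by linear_combination k3, by linear_combination k4, by ring⟩

theorem W_comm {x y : U} (hx : x ∈ sW) (hy : y ∈ sR) : x * y = y * x := by
  rw [comm_R ⟨hx.1, hx.2.2.2.2.2⟩ hy]; msimp at hx; simp [hx]

theorem mem_Y {y : U} (hy : y ∈ sR) (h : xr * y = y * xr) : y ∈ sY := by
  rw [comm_R (by decide) hy] at h; msimp at *; simp at h
  exact ⟨hy.1, h.2.symm, h.1.symm, hy.2⟩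

end KR

open KR in
/-- `H` from `exists_relSPE_of_essential`, `ψ ∈ Aut_F(R) ∖ H`, `Y' = ψ Y`. `Y = C_R(y)` for `y ∈ Y ∖ W` (`W = Z(R)`), so `Y' = C_R(y')` for `y' ∈ Y' ∖ W`. If `y', y'' ∈ R` commute and are independent
modulo `W`, then `y'` commutes with `cj xa y'` (only `b, c, r, v` matter: `⁅y, y'⁆ = (p : 2 (c r' - c' r), q : b r' + c v' - b' r - c' v, u : 2 (b v' - b' v))`; `decide`). So `xa` normalises `Y'`.
`⁅R, xw⁆ ≤ Y`, `⁅Y, xw⁆ = 1`: `s = ψ c_{xw} ψ⁻¹` lies in the 3-group `K` of automorphisms trivial on `Y'` and `R / Y'` (`TV.isPGroup_of_le_trivOn` or `mem_pCore_of_chain` in `stabAut R Y'`),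
which `c_{xa}` normalises; so `⟨c_{xa}, s⟩` is a 3-group, and `RelSPE.mem_of_isPGroup_pair` gives `ψ ∈ H`. (Pattern: first half of `CL.U5.cp_of_essential`.) -/
theorem not_ess_R (hF : F.IsSaturated 3) : ¬ F.IsEssential 3 sR := by
  intro hE
  obtain ⟨H, hH⟩ := exists_relSPE_of_essential pgT hF hE
  have hc := centralizerIn_le_of_isCentric hE.1
  have hT := sylIn_of_fullyNormalized pgT hF hE.2.1
  have hI := autGroup_le_normalizer_inn F sR
  obtain ⟨ψ, hψ, hψ'⟩ := SetLike.exists_of_lt hH.2.1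
  have hn : ∀ b : U, b ∈ normalizer (sR : Set U) := fun b => le_normalizer_of_normal (mem_top b)
  have cT : ∀ b, cjAut sR b (hn b) ∈ autInducedBy ⊤ sR := fun b => cjAut_mem_autInducedBy (mem_top b) _
  have cI : ∀ b, b ∉ sR → cjAut sR b (hn b) ∉ Inn sR := fun b k => mt (cjAut_mem_inn_iff le_top hc (mem_top b) _).1 k
  set X := stabAut sR sY
  have st : ∀ {α : MulAut sR}, (∀ z ∈ sY, autFun α z ∈ sY) → α ∈ X := fun {α} k y hy => ⟨fun k' =>
    autFun_inv_autFun α hy ▸ (CxF.au_of ⊤).mem_of_inv (X := sY) ⟨α, trivial, rfl⟩ (fun y hy => autFun_inv_autFun α hy) (fun y _ => k y)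
      (autFun_mem α hy) k', k y⟩
  have YR : sY ≤ sR := fun y hy => ⟨hy.1, hy.2.2.2⟩
  have iY : Iv sR {f | ∃ α ∈ X, f = autFun α} sY := by rintro _ ⟨γ, hγ, rfl⟩ y hy k; exact (hγ y hy).2 k
  have h1 := mem_pCore_of_chain (pgU.to_subgroup sR) (G := X)
    (st fun z hz => autFun_cjAut (hn xw) (YR hz) ▸ Normal.conj_mem inferInstance z hz xw) le_top
    (stabStep 3 (hn xw) ((Ch.base (CxF.au_of X) iY fun y _ hy => comm_J (by decide) ⟨hy.1, hy.2.1, hy.2.2.1⟩).step iY Iv.top
      fun y hy _ => by msimp at *; usimp; simp only [hy]; and_intros <;> ring))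
  have i := isoOn_autFun ψ
  have nW : ∀ x ∈ sR, (x * xb ≠ xb * x ∨ x * xc ≠ xc * x) → autFun ψ⁻¹ x ∉ sW := fun x hx k k' => by
    have : ∀ y ∈ sR, x * y = y * x := fun y hy => i.symm.injOn (mul_mem hx hy) (mul_mem hy hx) (by
      rw [i.hom' hx hy, i.hom' hy hx]; exact W_comm k' (i.maps' y hy))
    exact k.elim (· (this _ (by decide))) (· (this _ (by decide)))
  have r : xr ∈ sR := by decide
  have v : xv ∈ sR := by decide
  have cm : ∀ y ∈ sY, autFun ψ⁻¹ xr * autFun ψ⁻¹ y = autFun ψ⁻¹ y * autFun ψ⁻¹ xr := fun y hy => by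
    rw [← i.hom' r (YR hy), ← i.hom' (YR hy) r, comm_J (by decide) ⟨hy.1, hy.2.1, hy.2.2.1⟩]
  have h2 : ψ * cjAut sR xa (hn xa) * ψ⁻¹ ∈ X := st fun y hy => by
    have m : cj xa (autFun ψ⁻¹ y) ∈ sR := Normal.conj_mem inferInstance _ (i.maps' y (YR hy)) xa
    rw [autFun_mul _ _ (YR hy), autFun_mul _ _ (i.maps' y (YR hy)), autFun_cjAut _ (i.maps' y (YR hy))]
    refine mem_Y (i.maps _ m) ?_
    have k := key (i.maps' _ r) (i.maps' _ v) (i.maps' y (YR hy)) (cm xv (by decide)) (cm y hy) (nW _ r (by decide)) (nW _ v (by decide))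
      (by rw [← i.hom' v r]; exact nW _ (mul_mem v r) (by decide))
      (by rw [← i.hom' v r, ← i.hom' (mul_mem v r) r]; exact nW _ (mul_mem (mul_mem v r) r) (by decide))
    have k' := congrArg (autFun ψ) k
    rwa [i.hom (i.maps' _ r) m, i.hom m (i.maps' _ r), i.right _ r] at k'
  have h3 : IsPGroup 3 (zpowers (ψ * cjAut sR xa (hn xa) * ψ⁻¹)) := by
    obtain ⟨n, hn'⟩ := hT.isPGroup ⟨_, cT xa⟩
    refine isPGroup_zpowers_of_pow_eq_one (k := n) ?_
    rw [conj_pow, show cjAut sR xa (hn xa) ^ 3 ^ n = 1 from congrArg Subtype.val hn', mul_one, mul_inv_cancel]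
  refine hψ' (hH.mem_of_isPGroup_pair hT hI (cT xw) (cI xw (by decide)) (cT xa) (cI xa (by decide)) hψ
    (((CL.Fus.isPGroup_map_pCore X).to_sup_of_normal_left' h3 (zpowers_le.2 (le_normalizer_map_pCore X h2))).to_le ((closure_le _).2 ?_)))
  rintro _ (rfl | rfl)
  exacts [mem_sup_left h1, mem_sup_right (mem_zpowers _)]

end CL.C1F
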