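/-
S5227: the list of essential subgroups.
-/
import Cfsg.Agent.FUS.C1.EsA2
import Cfsg.Agent.FUS.C1.EsA3
import Cfsg.Agent.FUS.C1.EsB
import Cfsg.Agent.FUS.C1.KR
import Cfsg.Agent.FUS.C1.KY

set_option autoImplicit false
set_option linter.unusedSimpArgs false
set_option linter.unusedVariables false
set_option linter.unusedSectionVars false

namespace CL.C1F

open CL.Fus CL.RF4 CL.U5 Subgroup Cfsg Cfsg.FusionSystem
open scoped commutatorElement

variable {F F' : FusionSystem (⊤ : Subgroup U)} {E P : Subgroup U} {A : Set (U → U)} {f g : U → U} {e : k3}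

theorem ess_list (hF : F.IsSaturated 3) (hE : F.IsEssential 3 E) : Lst E ∨ E = sJ := by
  have h := cp_of_essential pgT hF hE
  by_cases hJ : sJ ≤ E
  · rcases ess_ge_J h hJ with k | k | k | k
    exacts [.inr k, .inl (.inl k), .inl (.inr (.inl k)), .inl (.inr (.inr (.inr k)))]
  obtain ⟨J₁, c⟩ := ca_of_cp h hJ
  rcases c.cases c.a_zero with ⟨e, rfl⟩ | rfl | ⟨e, k⟩
  · exact (not_ess_Y5 hF e hE).elim
  · exact (not_ess_R hF hE).elim
  · obtain rfl := lam0 h k
    exact .inl (.inr (.inr (.inl (Subgroup.ext fun g => by rw [k, zero_mul, mem_E3]))))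

theorem not_mem_K : ∀ e i : k3, xb ∉ sK e i ∧ xb⁻¹ ∉ sK e i ∧ xc ∉ sK e i := by decide

theorem not_E1 (hF : F.IsSaturated 3) (R : Subgroup U) (hR : F.IsEssential 3 R) (h : E1 ≤ R) : xa ∉ R := fun k => by
  have h1 : xb ∈ R := h (by decide)
  have h2 : xw ∈ R := h (by decide)
  rcases ess_list hF hR with (rfl | rfl | rfl | ⟨e, i, -, rfl⟩) | rfl
  exacts [absurd k (by decide), absurd h1 (by decide), absurd h2 (by decide), (not_mem_K e i).1 h1, absurd k (by decide)]

theorem not_E2 (hF : F.IsSaturated 3) (R : Subgroup U) (hR : F.IsEssential 3 R) (h : E2 ≤ R) : xb⁻¹ ∉ R := fun k => by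
  have h1 : xa ∈ R := h (by decide)
  have h2 : xw ∈ R := h (by decide)
  rcases ess_list hF hR with (rfl | rfl | rfl | ⟨e, i, -, rfl⟩) | rfl
  exacts [absurd h1 (by decide), absurd k (by decide), absurd h2 (by decide), (not_mem_K e i).2.1 k, absurd k (by decide)]

theorem not_E3 (hF : F.IsSaturated 3) (R : Subgroup U) (hR : F.IsEssential 3 R) (h : E3 ≤ R) : xw⁻¹ ∉ R := fun k => by
  have h1 : xa ∈ R := h (by decide)
  have h2 : xb ∈ R := h (by decide)
  rcases ess_list hF hR with (rfl | rfl | rfl | ⟨e, i, -, rfl⟩) | rfl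
  exacts [absurd h1 (by decide), absurd h2 (by decide), absurd k (by decide), (not_mem_K e i).1 h2, absurd h1 (by decide)]

theorem not_K (hF : F.IsSaturated 3) (R : Subgroup U) (hR : F.IsEssential 3 R) (h : sK 1 0 ≤ R) : xc ∉ R := fun k => by
  have h1 : xk ∈ R := h (by decide)
  have h2 : xw ∈ R := h (by decide)
  rcases ess_list hF hR with (rfl | rfl | rfl | ⟨e, i, -, rfl⟩) | rfl
  exacts [absurd h1 (by decide), absurd h1 (by decide), absurd h2 (by decide), (not_mem_K e i).2.2 k, absurd k (by decide)]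

end CL.C1F
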