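/-
S5227: automizers inside `GL₂(3) × {±1}`.
-/
import Cfsg.Agent.FUS.C1.Defs

set_option autoImplicit false
set_option linter.unusedSimpArgs false
set_option linter.unusedVariables false
set_option linter.unusedSectionVars false

namespace CL.C1F

open CL.Fus CL.RF4 CL.U5 Subgroup Cfsg Cfsg.FusionSystem
open scoped commutatorElement

variable {F F' : FusionSystem (⊤ : Subgroup U)} {E P : Subgroup U} {A : Set (U → U)} {f g : U → U} {e : k3}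

variable {D C : Subgroup U} {π₁ π₂ χ : U → k3} {x : U} {n : U → U}

/-- `f` acts as `!![0, 1; -1, 0]` and trivially on `C` -/
def IsN (D C : Subgroup U) (π₁ π₂ χ : U → k3) (f : U → U) : Prop :=
  (∀ y ∈ D, π₁ (f y) = π₂ y ∧ π₂ (f y) = -π₁ y) ∧ ∀ y ∈ C, χ (f y) = χ y

namespace GenX

section ad
variable {φ ψ : U → k3}

theorem ad_one (a : ∀ y ∈ D, ∀ z ∈ D, φ (y * z) = φ y + φ z) : φ 1 = 0 := by
  have := a 1 D.one_mem 1 D.one_mem
  rw [mul_one] at this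
  linear_combination -this

theorem ad_pow (a : ∀ y ∈ D, ∀ z ∈ D, φ (y * z) = φ y + φ z) {y : U} (hy : y ∈ D) (k : ℕ) : φ (y ^ k) = k * φ y := by
  induction k with
  | zero => simp [ad_one a]
  | succ k ih => rw [pow_succ, a _ (D.pow_mem hy k) _ hy, ih]; push_cast; ring

theorem ad_div (a : ∀ y ∈ D, ∀ z ∈ D, φ (y * z) = φ y + φ z) {y z : U} (hy : y ∈ D) (hz : z ∈ D) : φ (y * z⁻¹) = φ y - φ z := by
  have := a _ (D.mul_mem hy (D.inv_mem hz)) _ hz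
  rw [inv_mul_cancel_right] at this
  linear_combination -this

theorem lin1 (a : ∀ y ∈ D, ∀ z ∈ D, φ (y * z) = φ y + φ z) (b : ∀ y ∈ D, ∀ z ∈ D, ψ (y * z) = ψ y + ψ z) {d : U} (hd : d ∈ D)
    (e : φ d = 1) (hk : ∀ y ∈ D, φ y = 0 → ψ y = 0) {y : U} (hy : y ∈ D) : ψ y = ψ d * φ y := by
  have hz := D.pow_mem hd (φ y).val
  have := hk _ (D.mul_mem hy (D.inv_mem hz)) (by rw [ad_div a hy hz, ad_pow a hd, ZMod.natCast_zmod_val, e]; ring)
  rw [ad_div b hy hz, ad_pow b hd, ZMod.natCast_zmod_val] at this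
  linear_combination this

theorem lin2 (a₁ : ∀ y ∈ D, ∀ z ∈ D, π₁ (y * z) = π₁ y + π₁ z) (a₂ : ∀ y ∈ D, ∀ z ∈ D, π₂ (y * z) = π₂ y + π₂ z)
    (b : ∀ y ∈ D, ∀ z ∈ D, ψ (y * z) = ψ y + ψ z) {d₁ d₂ : U} (h₁ : d₁ ∈ D) (h₂ : d₂ ∈ D)
    (e₁ : π₁ d₁ = 1 ∧ π₂ d₁ = 0) (e₂ : π₁ d₂ = 0 ∧ π₂ d₂ = 1) (hk : ∀ y ∈ D, π₁ y = 0 → π₂ y = 0 → ψ y = 0) {y : U} (hy : y ∈ D) :
    ψ y = ψ d₁ * π₁ y + ψ d₂ * π₂ y := by
  have z1 := D.pow_mem h₁ (π₁ y).val
  have z2 := D.pow_mem h₂ (π₂ y).val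
  have hz := D.mul_mem z1 z2
  have k : ∀ {φ : U → k3}, (∀ y ∈ D, ∀ z ∈ D, φ (y * z) = φ y + φ z) →
      φ (y * (d₁ ^ (π₁ y).val * d₂ ^ (π₂ y).val)⁻¹) = φ y - (π₁ y * φ d₁ + π₂ y * φ d₂) := fun a => by
    rw [ad_div a hy hz, a _ z1 _ z2, ad_pow a h₁, ad_pow a h₂, ZMod.natCast_zmod_val, ZMod.natCast_zmod_val]
  have := hk _ (D.mul_mem hy (D.inv_mem hz)) (by rw [k a₁, e₁.1, e₂.1]; ring) (by rw [k a₂, e₁.2, e₂.2]; ring)
  rw [k b] at this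
  linear_combination this

end ad

/-- `f` acts by the given matrix and scalar -/
def Ac (D C : Subgroup U) (π₁ π₂ χ : U → k3) (f : U → U) (α β γ δ ε : k3) : Prop :=
  (∀ y ∈ D, π₁ (f y) = α * π₁ y + β * π₂ y ∧ π₂ (f y) = γ * π₁ y + δ * π₂ y) ∧ ∀ y ∈ C, χ (f y) = ε * χ y

theorem au_comp (hf : Aut F E f) (hg : Aut F E g) : Aut F E (f ∘ g) := ⟨hf.1.comp hg.1 hg.2, fun y hy => hf.2 _ (hg.2 y hy)⟩

theorem au_cj {s : U} (hs : ∀ y ∈ E, cj s y ∈ E) : Aut F E (cj s) := ⟨mor_cj' F E s, hs⟩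

theorem au_inv (hf : Aut F E f) : ∃ f', Aut F E f' ∧ IsoOn E E f f' :=
  let ⟨f', h1, h2⟩ := U5.exists_isoOn hf.1 hf.2
  ⟨f', ⟨h1, h2.maps'⟩, h2⟩

theorem Ac.isN (a : Ac D C π₁ π₂ χ f 0 1 (-1) 0 1) : IsN D C π₁ π₂ χ f :=
  ⟨fun y hy => ⟨by rw [(a.1 y hy).1]; ring, by rw [(a.1 y hy).2]; ring⟩, fun y hy => by rw [a.2 y hy]; ring⟩

theorem ac_N (a : IsN D C π₁ π₂ χ f) : Ac D C π₁ π₂ χ f 0 1 (-1) 0 1 :=
  ⟨fun y hy => ⟨by rw [(a.1 y hy).1]; ring, by rw [(a.1 y hy).2]; ring⟩, fun y hy => by rw [a.2 y hy]; ring⟩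

variable {α β γ δ ε α' β' γ' δ' ε' : k3}

theorem Ac.of_eq (a : Ac D C π₁ π₂ χ f α β γ δ ε) (e1 : α = α') (e2 : β = β') (e3 : γ = γ') (e4 : δ = δ') (e5 : ε = ε') :
    Ac D C π₁ π₂ χ f α' β' γ' δ' ε' := by
  subst e1 e2 e3 e4 e5; exact a

variable (h : Rho F E D C π₁ π₂ χ x)
include h

theorem Ac.comp (a : Ac D C π₁ π₂ χ f α β γ δ ε) (hg : Aut F E g) (b : Ac D C π₁ π₂ χ g α' β' γ' δ' ε') :
    Ac D C π₁ π₂ χ (f ∘ g) (α * α' + β * γ') (α * β' + β * δ') (γ * α' + δ * γ') (γ * β' + δ * δ') (ε * ε') := by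
  refine ⟨fun y hy => ?_, fun y hy => ?_⟩
  · have := a.1 _ (h.iD g hg y hy).1
    simp only [Function.comp, this.1, this.2, (b.1 y hy).1, (b.1 y hy).2]
    constructor <;> ring
  · simp only [Function.comp, a.2 _ (h.iC g hg y hy).1, b.2 y hy]
    ring

theorem Ac.id_of (a : Ac D C π₁ π₂ χ f α β γ δ ε) (e : ∀ y ∈ E, f y = y) : α = 1 ∧ β = 0 ∧ γ = 0 ∧ δ = 1 ∧ ε = 1 := by
  obtain ⟨d₁, h₁, e₁, e₁'⟩ := h.s1
  obtain ⟨d₂, h₂, e₂, e₂'⟩ := h.s2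
  obtain ⟨d₃, h₃, e₃⟩ := h.s3
  have k1 := a.1 d₁ h₁
  have k2 := a.1 d₂ h₂
  have k3 := a.2 d₃ h₃
  rw [e _ (h.DE h₁), e₁, e₁'] at k1
  rw [e _ (h.DE h₂), e₂, e₂'] at k2
  rw [e _ (h.CE h₃), e₃] at k3
  exact ⟨by linear_combination -k1.1, by linear_combination -k2.1, by linear_combination -k1.2, by linear_combination -k2.2,
    by linear_combination -k3⟩

theorem Ac.inner (a : Ac D C π₁ π₂ χ f 1 0 0 1 1) (hf : Aut F E f) : ∃ u ∈ E, ∀ y ∈ E, f y = cj u y :=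
  h.ker f hf (fun y hy => ⟨by rw [(a.1 y hy).1]; ring, by rw [(a.1 y hy).2]; ring⟩) fun y hy => by rw [a.2 y hy]; ring

theorem ac_inn {u : U} (hu : u ∈ E) : Ac D C π₁ π₂ χ (cj u) 1 0 0 1 1 :=
  ⟨fun y hy => ⟨by rw [((h.inn u hu).1 y hy).1]; ring, by rw [((h.inn u hu).1 y hy).2]; ring⟩,
    fun y hy => by rw [(h.inn u hu).2 y hy]; ring⟩

theorem xN : x ∈ normalizer (E : Set U) := mem_normalizer_of_cj_mem h.xn

theorem au_x (k : ℕ) : Aut F E (cj (x ^ k)) := au_cj fun y hy => cj_mem_of_mem_normalizer (pow_mem (xN h) k) hy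

theorem ac_x1 : Ac D C π₁ π₂ χ (cj x) 1 1 0 1 1 :=
  ⟨fun y hy => ⟨by rw [(h.x1 y hy).1]; ring, by rw [(h.x1 y hy).2]; ring⟩, fun y hy => by rw [h.x3 y hy]; ring⟩

theorem ac_xn (k : ℕ) : Ac D C π₁ π₂ χ (cj (x ^ k)) 1 k 0 1 1 := by
  induction k with
  | zero => rw [pow_zero, Nat.cast_zero]; exact ac_inn h E.one_mem
  | succ k ih =>
    have e : cj (x ^ (k + 1)) = cj x ∘ cj (x ^ k) := funext fun y => by rw [pow_succ', cj_mul]; rfl
    rw [e]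
    exact ((ac_x1 h).comp h (au_x h k) ih).of_eq (by ring) (by push_cast; ring) (by ring) (by ring) (by ring)

theorem ac_x (k : k3) : Ac D C π₁ π₂ χ (cj (x ^ k.val)) 1 k 0 1 1 :=
  (ac_xn h k.val).of_eq rfl (ZMod.natCast_zmod_val k) rfl rfl rfl

theorem x_not : x ∉ E := fun hx => by
  obtain ⟨d, hd, -, e⟩ := h.s2
  have := (h.x1 d hd).1
  rw [((h.inn x hx).1 d hd).1, e] at this
  exact one_ne_zero (α := k3) (by linear_combination -this)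

theorem mat0 (hf : Aut F E f) : ∃ α β γ δ ε : k3, Ac D C π₁ π₂ χ f α β γ δ ε := by
  obtain ⟨d₁, h₁, e₁⟩ := h.s1
  obtain ⟨d₂, h₂, e₂⟩ := h.s2
  obtain ⟨d₃, h₃, e₃⟩ := h.s3
  have m : ∀ {D : Subgroup U} {φ : U → k3}, D ≤ E → (∀ y ∈ D, f y ∈ D) → (∀ y ∈ D, ∀ z ∈ D, φ (y * z) = φ y + φ z) →
      ∀ y ∈ D, ∀ z ∈ D, φ (f (y * z)) = φ (f y) + φ (f z) := fun l m a y hy z hz => by
    rw [hf.1.map_mul (l hy) (l hz), a _ (m y hy) _ (m z hz)]
  have mD := fun y hy => (h.iD f hf y hy).1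
  exact ⟨_, _, _, _, _, fun y hy =>
    ⟨lin2 (ψ := fun y => π₁ (f y)) h.a1 h.a2 (m h.DE mD h.a1) h₁ h₂ e₁ e₂ (fun y hy a b => ((h.iD f hf y hy).2 a b).1) hy,
      lin2 (ψ := fun y => π₂ (f y)) h.a1 h.a2 (m h.DE mD h.a2) h₁ h₂ e₁ e₂ (fun y hy a b => ((h.iD f hf y hy).2 a b).2) hy⟩,
    fun y hy => lin1 (ψ := fun y => χ (f y)) h.a3 (m h.CE (fun y hy => (h.iC f hf y hy).1) h.a3) h₃ e₃
      (fun y hy => (h.iC f hf y hy).2) hy⟩

theorem mat2 (hf : Aut F E f) : ∃ f' α β γ δ ε α' β' γ' δ' ε', Aut F E f' ∧ IsoOn E E f f' ∧ Ac D C π₁ π₂ χ f α β γ δ ε ∧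
    Ac D C π₁ π₂ χ f' α' β' γ' δ' ε' ∧ α * α' + β * γ' = 1 ∧ α * β' + β * δ' = 0 ∧ γ * α' + δ * γ' = 0 ∧ γ * β' + δ * δ' = 1 ∧
    ε * ε' = 1 := by
  obtain ⟨f', hf', i⟩ := au_inv hf
  obtain ⟨α, β, γ, δ, ε, a⟩ := mat0 h hf
  obtain ⟨α', β', γ', δ', ε', b⟩ := mat0 h hf'
  exact ⟨f', _, _, _, _, _, _, _, _, _, _, hf', i, a, b, (a.comp h hf' b).id_of h i.right⟩

theorem Ac.g0 (a : Ac D C π₁ π₂ χ f α β γ δ ε) : (∀ y ∈ D, π₂ y = 0 → π₂ (f y) = 0) ↔ γ = 0 := by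
  refine ⟨fun h0 => ?_, fun e y hy h0 => by rw [(a.1 y hy).2, e, h0]; ring⟩
  obtain ⟨d, hd, e, e'⟩ := h.s1
  have := (a.1 d hd).2
  rw [h0 d hd e', e, e'] at this
  linear_combination -this

end GenX

open GenX

namespace Rho
variable (h : Rho F E D C π₁ π₂ χ x)
include h

/-- every automorphism acts by a matrix and a scalar (`y (d₁^i d₂^j)⁻¹` is in the kernel; `iD`, `iC`; invertibility from the inverse map, `exists_isoOn`) -/
theorem mat (hf : Aut F E f) : ∃ α β γ δ ε : k3, α * δ - β * γ ≠ 0 ∧ ε ≠ 0 ∧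
    (∀ y ∈ D, π₁ (f y) = α * π₁ y + β * π₂ y ∧ π₂ (f y) = γ * π₁ y + δ * π₂ y) ∧ ∀ y ∈ C, χ (f y) = ε * χ y := by
  obtain ⟨f', α, β, γ, δ, ε, α', β', γ', δ', ε', -, -, a, -, e1, e2, e3, e4, e5⟩ := mat2 h hf
  refine ⟨α, β, γ, δ, ε, fun e => one_ne_zero (α := k3) ?_, fun e => one_ne_zero (α := k3) ?_, a⟩
  · linear_combination (α' * δ' - β' * γ') * e - (γ * β' + δ * δ') * e1 - e4 + (γ * α' + δ * γ') * e2
  · linear_combination ε' * e - e5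

/-- `γ = 0`: `f c_x f⁻¹ c_{x^k}⁻¹` acts trivially for `k = α / δ`, so it is inner (`ker`): `x ∈ Nphi`, and then `N ≤ Nphi` (`nrm`; `exists_extend_of_isCentric`). -/
theorem ext (hf : Aut F E f) (h0 : ∀ y ∈ D, π₂ y = 0 → π₂ (f y) = 0) {N : Subgroup U} (hN : ∀ s ∈ N, ∀ y ∈ E, cj s y ∈ E) (hE : E ≤ N) :
    ∃ g, Mor F N g ∧ Set.EqOn g f E := by
  obtain ⟨f', α, β, γ, δ, ε, α', β', γ', δ', ε', hf', i, a, b, e1, e2, e3, e4, e5⟩ := mat2 h hf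
  obtain rfl := (a.g0 h).1 h0
  have g' : γ' = 0 := by linear_combination δ' * e3 - γ' * e4
  subst g'
  have A := au_comp hf (au_comp (au_cj h.xn) hf')
  obtain ⟨u, hu, k⟩ := (((ac_x h (-(α * δ'))).comp h A (a.comp h (au_comp (au_cj h.xn) hf') ((ac_x1 h).comp h hf' b))).of_eq
    (by linear_combination e1) (by linear_combination e2 - α * δ' * e4) (by ring) (by linear_combination e4)
    (by linear_combination e5)).inner h (au_comp (au_x h _) A)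
  have xm : x ∈ Nphi ⊤ E f := ⟨trivial, xN h, (x ^ (-(α * δ')).val)⁻¹ * u, trivial, fun y hy => by
    have := k _ (hf.2 y hy)
    simp only [Function.comp, i.left y hy] at this
    rw [cj_mul, ← this, cj_inv_cj]⟩
  obtain ⟨g, hg, e⟩ := exists_extend_of_isCentric pgT h.sat hf.1 h.ess.1
  refine ⟨g, hg.mono fun s hs => ?_, e⟩
  obtain ⟨v, hv, m, rfl⟩ := h.nrm s (hN s hs)
  exact mul_mem (hf.1.le_Nphi hv) (pow_mem xm m)

/-- `ext` with `N = normalizer E ∋ x`, `EssSm.exists_extend_top_of_not_le` -/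
theorem ext_top (hx : ∀ R, F.IsEssential 3 R → E ≤ R → x ∉ R) (hf : Aut F E f) (h0 : ∀ y ∈ D, π₂ y = 0 → π₂ (f y) = 0) :
    ∃ g, Mor F ⊤ g ∧ Set.EqOn g f E := by
  obtain ⟨g, hg, e⟩ := h.ext hf h0 (N := normalizer (E : Set U)) (fun s hs y hy => cj_mem_of_mem_normalizer hs hy) le_normalizer
  obtain ⟨g', hg', e'⟩ := EssSm.exists_extend_top_of_not_le pgT h.sat
    (fun R hR l => hx R hR (le_normalizer.trans l) (l (xN h))) hg
  exact ⟨g', hg', fun y hy => (e' (le_normalizer hy)).trans (e hy)⟩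

/-- Some `θ` has `γ ≠ 0` (else all of `Aut_F(E)` is in `extAut`: `extAut_lt_of_essential`, as in `U5.exists_move`; `x ∉ E` by `x1`, `inn`). `t' = θ c_x θ⁻¹` has `ε = 1`, and `c_x^i t'^j c_x^k` is the required matrix for suitable `i, j, k` (`decide`). -/
theorem exists_n : ∃ f, Aut F E f ∧ IsN D C π₁ π₂ χ f := by
  obtain ⟨θ, hθ, hθ'⟩ := SetLike.exists_of_lt (extAut_lt_of_essential pgT h.sat h.ess)
  have hf : Aut F E (autFun θ) := ⟨mor_autFun le_top hθ, fun y hy => autFun_mem θ hy⟩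
  obtain ⟨f', α, β, γ, δ, ε, α', β', γ', δ', ε', hf', i, a, b, e1, e2, e3, e4, e5⟩ := mat2 h hf
  have g0 : γ ≠ 0 := fun e => by
    obtain ⟨g, hg, k⟩ := h.ext hf ((a.g0 h).2 e) (N := normalizer (E : Set U))
      (fun s hs y hy => cj_mem_of_mem_normalizer hs hy) le_normalizer
    exact hθ' (mem_extAut (lt_of_le_not_ge le_normalizer fun l => x_not h (l (xN h))) hg k)
  have g1 : γ' ≠ 0 := fun e => g0 (by linear_combination α * e3 - γ * e1 + (γ * β - α * δ) * e)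
  have s0 := k3_sq g0
  have s1 := k3_sq g1
  have dt : (α * δ - β * γ) * (α' * δ' - β' * γ') = 1 := by
    linear_combination (γ * β' + δ * δ') * e1 + e4 - (γ * α' + δ * γ') * e2
  have A1 := au_comp (au_x h (-(γ * γ')).val) hf'
  have A := au_comp hf A1
  obtain ⟨p, q, r, s, B, hr, hd⟩ : ∃ p q r s, Ac D C π₁ π₂ χ (autFun θ ∘ cj (x ^ (-(γ * γ')).val) ∘ f') p q r s 1 ∧ r = -1 ∧
      p * s - q * r = 1 :=
    ⟨_, _, _, _, (a.comp h A1 ((ac_x h _).comp h hf' b)).of_eq rfl rfl rfl rfl (by linear_combination e5),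
      by linear_combination e3 - γ' * γ' * s0 - s1, by linear_combination dt⟩
  subst hr
  have A2 := au_comp A (au_x h s.val)
  exact ⟨_, au_comp (au_x h p.val) A2, (((ac_x h p).comp h A2 (B.comp h (au_x h _) (ac_x h s))).of_eq (by ring)
    (by linear_combination hd) (by ring) (by ring) (by ring)).isN⟩

theorem bruhat (hn : Aut F E n) (hn' : IsN D C π₁ π₂ χ n) (hf : Aut F E f) : (∀ y ∈ D, π₂ y = 0 → π₂ (f y) = 0) ∨
    ∃ k : ℕ, ∀ y ∈ D, π₂ y = 0 → π₂ (n (cj (x ^ k) (f y))) = 0 := by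
  obtain ⟨α, β, γ, δ, ε, a⟩ := mat0 h hf
  by_cases g0 : γ = 0
  · exact Or.inl ((a.g0 h).2 g0)
  have s0 := k3_sq g0
  exact Or.inr ⟨(-(α * γ)).val, (((ac_N hn').comp h (au_comp (au_x h _) hf) ((ac_x h _).comp h hf a)).g0 h).2
    (by linear_combination α * s0)⟩

/-- as `U5.mor_of_gen`, with the inverse of `n` in `F'` (`exists_isoOn`) -/
theorem mor (hx : ∀ R, F.IsEssential 3 R → E ≤ R → x ∉ R) (ht : ∀ f, Mor F ⊤ f → Mor F' ⊤ f) (hn : Aut F E n) (hn' : IsN D C π₁ π₂ χ n)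
    (hn'' : Mor F' E n) (hf : Aut F E f) : Mor F' E f := by
  rcases h.bruhat hn hn' hf with k | ⟨m, k⟩
  · obtain ⟨g, hg, e⟩ := h.ext_top hx hf k
    exact ((ht g hg).mono le_top).congr e
  have A1 := au_comp (au_x h m) hf
  have A := au_comp hn A1
  obtain ⟨g, hg, e⟩ := h.ext_top hx A k
  obtain ⟨n', hn', i⟩ := U5.exists_isoOn hn'' hn.2
  refine ((hn'.comp (((ht g hg).mono le_top).congr e) A.2).cj_comp (s := (x ^ m)⁻¹) trivial).congr fun y hy => ?_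
  have := i.left _ (A1.2 y hy)
  simp only [Function.comp] at this ⊢
  rw [this, cj_inv_cj]

/-- `f` from `exists_n`; `f ∘ f` extends to `⊤`, `Std`, `uniq`. `f h f⁻¹ h⁻¹` is inner by `ker`; `U5.exists_norm dd (zpowers x₀)` (`exists_dd`, `x₀² = 1`) gives `cj u ∘ f` commuting with `h` (`x' = 1` is impossible as `-1 ≠ 1`).
The last two claims by `ker`. -/
theorem exists_comm (hS : Std F) (hx : ∀ R, F.IsEssential 3 R → E ≤ R → x ∉ R) {s t d : Bool} (hE : ∀ y ∈ E, tor s t d y ∈ E)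
    (uniq : ∀ s' t' d' y, (∀ z ∈ E, cj y (tor s' t' d' z) ∈ E) →
      (∀ z ∈ D, π₁ (cj y (tor s' t' d' z)) = -π₁ z ∧ π₂ (cj y (tor s' t' d' z)) = -π₂ z) →
      (∀ z ∈ C, χ (cj y (tor s' t' d' z)) = χ z) → s' = s ∧ t' = t ∧ d' = d)
    (h1 : ∀ z ∈ D, π₁ (tor s t d z) = -π₁ z ∧ π₂ (tor s t d z) = -π₂ z) (h2 : ∀ z ∈ C, χ (tor s t d z) = χ z) :
    Mor F ⊤ (tor s t d) ∧ ∃ f, Aut F E f ∧ IsN D C π₁ π₂ χ f ∧ (∀ y ∈ E, f (tor s t d y) = tor s t d (f y)) ∧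
      (∃ u ∈ E, ∀ y ∈ E, f (f y) = cj u (tor s t d y)) ∧ ∃ u ∈ E, ∀ y ∈ E, f (cj x (f (cj x (f (cj x y))))) = cj u y := by
  obtain ⟨f, hf, hn⟩ := h.exists_n
  have a := ac_N hn
  have a2 := a.comp h hf a
  obtain ⟨g, hg, e⟩ := h.ext_top hx (au_comp hf hf) ((a2.g0 h).2 (by ring))
  obtain ⟨y, s', t', d', hm, k⟩ := hS g hg
  obtain ⟨rfl, rfl, rfl⟩ := uniq s' t' d' y (fun z hz => by rw [← k, e hz]; exact hf.2 _ (hf.2 z hz))
    (fun z hz => by rw [← k, e (h.DE hz), (a2.1 z hz).1, (a2.1 z hz).2]; constructor <;> ring)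
    (fun z hz => by rw [← k, e (h.CE hz), a2.2 z hz]; ring)
  refine ⟨hm, ?_⟩
  have hτ : Aut F E (tor s' t' d') := ⟨hm.mono le_top, hE⟩
  have aτ : Ac D C π₁ π₂ χ (tor s' t' d') (-1) 0 0 (-1) 1 :=
    ⟨fun y hy => ⟨by rw [(h1 y hy).1]; ring, by rw [(h1 y hy).2]; ring⟩, fun y hy => by rw [h2 y hy]; ring⟩
  obtain ⟨f', hf', i⟩ := au_inv hf
  obtain ⟨α, β, γ, δ, ε, b⟩ := mat0 h hf'
  obtain ⟨e1, e2, e3, e4, e5⟩ := (a.comp h hf' b).id_of h i.right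
  have B1 := au_comp hf' hτ
  have B2 := au_comp hτ B1
  obtain ⟨u, hu, ku⟩ := ((a.comp h B2 (aτ.comp h B1 (b.comp h hτ aτ))).of_eq (by linear_combination e1) (by linear_combination e2)
    (by linear_combination e3) (by linear_combination e4) (by linear_combination e5)).inner h (au_comp hf B2)
  obtain ⟨x₀, hx₀⟩ := exists_dd s' t' d'
  have sq : x₀ ^ 2 = 1 := by clear hx₀; revert x₀; decide
  have cs : ∀ z : zpowers x₀, (∀ g, dd z.1 g = g) ∨ ∀ g, dd z.1 g = tor s' t' d' g := fun ⟨z, hz⟩ => by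
    obtain ⟨m, rfl⟩ := (mem_powers_iff_mem_zpowers.2 hz)
    rcases Nat.even_or_odd' m with ⟨j, rfl | rfl⟩
    · exact Or.inl fun g => by simp [pow_mul, sq]
    · exact Or.inr fun g => by simp [pow_succ, pow_mul, sq, hx₀]
  obtain ⟨v, hv, kv⟩ := U5.exists_norm (p := 3) (dd.comp (zpowers x₀).subtype) ⊤ (by
      rw [card_top]
      intro k
      have := k.trans (card_subgroup_dvd_card (zpowers x₀))
      simp only [Nat.card_eq_fintype_card] at this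
      revert this; decide) (pgU.to_subgroup E)
    (fun z g hg => by
      rcases cs z with k | k
      · exact (k g).symm ▸ hg
      · exact (k g).symm ▸ hE g hg) i (fun z _ => by
      rcases cs z with k | k
      · exact ⟨1, E.one_mem, z, trivial, fun g hg => by
          change f (dd z.1 g) = cj 1 (dd z.1 (f g))
          rw [k, k, cj_one]⟩
      · refine ⟨u, hu, z, trivial, fun g hg => ?_⟩
        change f (dd z.1 g) = cj u (dd z.1 (f g))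
        have := ku _ (hE _ (hf.2 g hg))
        simp only [Function.comp, tor_self, i.left g hg] at this
        rw [k, k, this])
  obtain ⟨z, -, kz⟩ := kv ⟨x₀, mem_zpowers x₀⟩ trivial
  have A : Aut F E (cj v ∘ f) := au_comp (au_cj fun y hy => cj_mem hv hy) hf
  have c := ((ac_inn h hv).comp h hf a).of_eq (α' := 0) (β' := 1) (γ' := -1) (δ' := 0) (ε' := 1) (by ring) (by ring) (by ring)
    (by ring) (by ring)
  refine ⟨cj v ∘ f, A, c.isN, fun y hy => ?_, ?_, ?_⟩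
  · have k1 : ∀ g ∈ E, cj v (f (tor s' t' d' g)) = dd z.1 (cj v (f g)) := fun g hg => by rw [← hx₀]; exact kz g hg
    rcases cs z with k | k
    · have := (aτ.id_of h fun g hg => i.injOn (hE g hg) hg (cj_injective v (by rw [k1 g hg, k]))).1
      exact absurd this (by decide)
    · exact (k1 y hy).trans (k _)
  · obtain ⟨w, hw, kw⟩ := ((c.comp h (au_comp A hτ) (c.comp h hτ aτ)).of_eq (by ring) (by ring) (by ring) (by ring)
      (by ring)).inner h (au_comp A (au_comp A hτ))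
    refine ⟨w, hw, fun y hy => ?_⟩
    have := kw _ (hE y hy)
    simpa only [Function.comp, tor_self] using this
  · have X := au_comp A (au_cj h.xn)
    have cx := c.comp h (au_cj h.xn) (ac_x1 h)
    have := ((cx.comp h (au_comp X X) (cx.comp h X cx)).of_eq (by ring) (by ring) (by ring) (by ring) (by ring)).inner h
      (au_comp X (au_comp X X))
    exact this

end Rho

end CL.C1F
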