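/-
S5227: the automizers of `E₁` and `E₂`.
-/
import Cfsg.Agent.FUS.C1.PrAll
import Cfsg.Agent.FUS.C1.Jch

set_option autoImplicit false
set_option linter.unusedSimpArgs false
set_option linter.unusedVariables false
set_option linter.unusedSectionVars false

namespace CL.C1F

open CL.Fus CL.RF4 CL.U5 Subgroup Cfsg Cfsg.FusionSystem
open scoped commutatorElement

variable {F F' : FusionSystem (⊤ : Subgroup U)} {E P : Subgroup U} {A : Set (U → U)} {f g : U → U} {e : k3}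

namespace RhA

theorem jj_mem (p q r u v w : k3) : jj p q r u v w ∈ sJ := ⟨rfl, rfl, rfl⟩

/-- the commutator of an element with an element of `J` -/
theorem brk (t : U) {y : U} (hy : y ∈ sJ) : ⁅t, y⁆ =
    jj (2 * t.a * y.q + 2 * t.c * y.r + t.a * t.a * y.u + 2 * t.a * t.c * y.v + t.c * t.c * y.w)
      (t.b * y.r + t.a * y.u + (t.a * t.b + t.c) * y.v + t.b * t.c * y.w) (t.a * y.v + t.c * y.w)
      (2 * t.b * y.v + t.b * t.b * y.w) (t.b * y.w) 0 := by
  msimp at *; usimp; simp only [hy]; and_intros <;> ring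

theorem brk_mem (t : U) {y : U} (hy : y ∈ sJ) : ⁅t, y⁆ ∈ sJ := brk t hy ▸ jj_mem ..

theorem brk' {t y : U} {X : Subgroup U} (h : ⁅y, t⁆ ∈ X) : ⁅t, y⁆ ∈ X := by
  rw [← commutatorElement_inv]; exact inv_mem h

theorem J1 : sJ ≤ E1 := fun _ h => h.1
theorem J2 : sJ ≤ E2 := fun _ h => h.2.1
theorem two : (2 : k3) ≠ 0 := by decide

theorem iv_W1 (hA : Au E1 A) : Ivs E1 A sW := (hA.iv_cent Iv.top).congr (fun y hy => ⟨fun h => by
  have j := mem_J_of_comm (h xw rfl trivial) (h xv rfl trivial)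
  have h1 := commutatorElement_eq_one_iff_mul_comm.2 (h xb rfl trivial).symm
  rw [brk _ j] at h1
  msimp at *; usimp at h1
  simp [two] at h1
  obtain ⟨k1, k2, k3⟩ := h1
  simp [k3, two] at k2
  simp [j, k1, k2, k3], fun h x hx _ => by
    msimp at *; usimp; simp only [h, hx]; and_intros <;> first | trivial | ring⟩) hA

theorem iv_Y (hA : Au E1 A) : Ivs E1 A sY := ((iv_J hA J1).inter (hA.iv_comm Iv.top (iv_W1 hA))).congr
  (fun y hy => ⟨fun ⟨j, h⟩ => by
    have h1 := brk' (h xb rfl trivial)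
    rw [brk _ j] at h1
    msimp at *
    simpa [j] using h1.2.2.2.2.1, fun h => ⟨⟨h.1, h.2.1, h.2.2.1⟩, fun x hx _ => brk' (by
      rw [brk _ ⟨h.1, h.2.1, h.2.2.1⟩]; msimp at *; simp [h, hx])⟩⟩) hA

theorem iv_Z2 (hA : Au E2 A) : Ivs E2 A sZ := (hA.iv_cent Iv.top).congr (fun y hy => ⟨fun h => by
  have j := mem_J_of_comm (h xw rfl trivial) (h xv rfl trivial)
  have h1 := commutatorElement_eq_one_iff_mul_comm.2 (h xa rfl trivial).symm
  have h2 := commutatorElement_eq_one_iff_mul_comm.2 (h xc rfl trivial).symm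
  rw [brk _ j] at h1 h2
  msimp at *; usimp at h1 h2
  simp [two] at h1 h2
  obtain ⟨k1, k2, k3⟩ := h1
  obtain ⟨k4, -, k5⟩ := h2
  simp [k2, k5, two] at k1 k4
  simp [j, k1, k2, k3, k4, k5], fun h x hx _ => by
    msimp at *; usimp; simp only [h, hx]; and_intros <;> first | trivial | ring⟩) hA

theorem iv_Y1 (hA : Au E2 A) : Ivs E2 A sY1 := ((iv_J hA J2).inter (hA.iv_comm Iv.top (iv_Z2 hA))).congr
  (fun y hy => ⟨fun ⟨j, h⟩ => by
    have h1 := brk' (h xa rfl trivial)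
    have h2 := brk' (h xc rfl trivial)
    rw [brk _ j] at h1 h2
    msimp at *
    simp at h1 h2
    simp [j, h1, h2], fun h => ⟨⟨h.1, h.2.1, h.2.2.1⟩, fun x hx _ => brk' (by
      rw [brk _ ⟨h.1, h.2.1, h.2.2.1⟩]; msimp at *; simp [h, hx])⟩⟩) hA

theorem dec {x s : U} {χ : U → k3} (h0 : χ s = 0 → s ∈ E) (h1 : χ s = 1 → s * x⁻¹ ∈ E) (h2 : χ s = 2 → s * x⁻¹ * x⁻¹ ∈ E) :
    ∃ u ∈ E, ∃ k : ℕ, s = u * x ^ k := by
  rcases k3_cases (χ s) with a | a | a
  exacts [⟨_, h0 a, 0, by simp⟩, ⟨_, h1 a, 1, by simp⟩, ⟨_, h2 a, 2, by simp [pow_two]⟩]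

end RhA

open RhA

/-- `J` is invariant (`mor_J`), `Y = ⁅J, E1⁆`, `W = Z(E1)`. `ker`: `inner_of_chain` with `[sW, sY, sJ]`; trivial on `E1 / J` and `J / Y` implies trivial on `Y / W` (`xv, xr` are commutators `⁅xb, xw⁆, ⁅xc, xw⁆` modulo `W`) and on `W`. -/
theorem rho1 (hF : F.IsSaturated 3) (hE : F.IsEssential 3 E1) : Rho F E1 E1 sJ U.c U.b U.w xa := by
  have hA := (cp_of_essential pgT hF hE).toAu
  refine ⟨hF, hE, le_rfl, J1, fun y hy z hz => ?_, fun _ _ _ _ => rfl, fun _ _ _ _ => rfl, ⟨xc, by decide⟩, ⟨xb, by decide⟩,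
    ⟨xw, by decide⟩, fun f hf y hy => ⟨hf.2 y hy, fun h1 h2 => ?_⟩, fun f hf y hy => ⟨mor_J hf.1 J1 y hy, fun h1 => ?_⟩,
    fun f hf h1 h2 => ?_, fun y hy => Normal.conj_mem inferInstance y hy _, fun y hy => ?_, fun y hy => ?_,
    fun u hu => ⟨fun y hy => ?_, fun y hy => ?_⟩, fun s _ => dec (χ := U.a) id (fun h => ?_) fun h => ?_⟩
  · msimp at *; usimp; simp [hy]
  · exact (mor_J hf.1 J1 y ⟨hy, h2, h1⟩).2.symm
  · exact (iv_of_fa (iv_Y hA) hf y hy.1 ⟨hy.1, hy.2.1, hy.2.2, h1⟩).2.2.2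
  · have j := mor_J hf.1 J1
    have kY : ∀ y ∈ sY, (f y).r = y.r ∧ (f y).v = y.v := fun y hy => by
      have m : ⁅tt 0 y.v y.r, xw⁆⁻¹ * y ∈ sW := by
        rw [brk _ (by decide)]; msimp at *; usimp; simp [hy]
      have := iv_of_fa (RhA.iv_W1 hA) hf _ m.1 m
      rw [hf.1.map_mul (inv_mem (J1 (brk_mem _ (by decide)))) hy.1,
        hf.1.map_inv (J1 (brk_mem _ (by decide))), hf.1.map_commutator rfl rfl, brk _ (j xw (by decide)),
        hf.2 (tt 0 y.v y.r) rfl, (h1 (tt 0 y.v y.r) rfl).1, (h1 (tt 0 y.v y.r) rfl).2, h2 xw (by decide)] at this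
      msimp at this; usimp at this
      exact ⟨by linear_combination this.2.2.2.1, by linear_combination this.2.2.2.2.1⟩
    have kB : ∀ t ∈ E1, ∀ y ∈ sY, f ⁅t, y⁆ = ⁅t, y⁆ := fun t ht y hy => by
      have jy : y ∈ sJ := ⟨hy.1, hy.2.1, hy.2.2.1⟩
      rw [hf.1.map_commutator ht hy.1, brk _ jy, brk _ (j y jy), hf.2 t ht, ht, (h1 t ht).1, (h1 t ht).2, (kY y hy).1,
        (kY y hy).2, h2 y jy]
      simp
    refine inner_of_chain hF hE hf [sW, sY, sJ] (by simp [RhA.iv_W1 hA, iv_Y hA, iv_J hA J1]) ?_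
    simp only [List.cons_append, List.nil_append, List.isChain_cons_cons, List.isChain_singleton, and_true]
    refine ⟨fun y _ hy => ?_, fun y _ hy => ?_, fun y _ hy => ?_, fun y hy _ => ?_⟩
    · have e : y = ⁅xc, jj 0 0 (-y.p) 0 y.q 0⁆ * ⁅xb, jj 0 0 0 0 (-y.u) 0⁆ := by
        rw [brk _ (jj_mem ..), brk _ (jj_mem ..)]; msimp at *; usimp; simp only [hy]
        and_intros <;> first | ring1 | linear_combination y.p * three_eq | linear_combination y.u * three_eq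
      rw [mem_bot, inv_mul_eq_one, e, hf.1.map_mul (J1 (brk_mem _ (jj_mem ..))) (J1 (brk_mem _ (jj_mem ..))),
        kB _ rfl _ ⟨rfl, rfl, rfl, rfl⟩, kB _ rfl _ ⟨rfl, rfl, rfl, rfl⟩]
    · have := iv_of_fa (iv_Y hA) hf y hy.1 hy
      have k := kY y hy
      msimp at *; usimp; simp [hy, this, k]
    · have := j y hy
      have k := h2 y hy
      msimp at *; usimp; simp [hy, this, k]
    · have := hf.2 y hy
      have k := h1 y hy
      msimp at *; usimp; simp [hy, this, k]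
  · msimp at *; usimp; exact ⟨by ring, by ring⟩
  · msimp at *; usimp; ring
  · msimp at *; usimp; simp only [hu, hy]; exact ⟨by ring, by ring⟩
  · usimp; ring
  · msimp; usimp; simp [h]
  · msimp; usimp; rw [h]; decide

/-- `Z = Z(E2)`, `Y₁ = ⁅J, E2⁆`. `ker`: chain `[sZ, sY1, sJ]`; `⁅xa, y⁆.p, ⁅xc, y⁆.p` determine `y ∈ Y₁` modulo `Z`, and `⁅xa, y⁆, ⁅xc, y⁆` modulo `Z` determine `y ∈ J` modulo `Y₁`. -/
theorem rho2 (hF : F.IsSaturated 3) (hE : F.IsEssential 3 E2) : Rho F E2 E2 sZ U.c U.a U.p xb⁻¹ := by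
  have hA := (cp_of_essential pgT hF hE).toAu
  have ZE : sZ ≤ E2 := fun _ h => h.2.1
  refine ⟨hF, hE, le_rfl, ZE, fun y hy z hz => ?_, fun _ _ _ _ => rfl, fun y hy z hz => ?_, ⟨xc, by decide⟩,
    ⟨xa, by decide⟩, ⟨xp, by decide⟩, fun f hf y hy => ⟨hf.2 y hy, fun h1 h2 => ?_⟩,
    fun f hf y hy => ⟨iv_of_fa (RhA.iv_Z2 hA) hf y (ZE hy) hy, fun h1 => ?_⟩,
    fun f hf h1 h2 => ?_, fun y hy => Normal.conj_mem inferInstance y hy _, fun y hy => ?_, fun y hy => ?_,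
    fun u hu => ⟨fun y hy => ?_, fun y hy => ?_⟩, fun s _ => dec (χ := fun s => -s.b) neg_eq_zero.1 (fun h => ?_) fun h => ?_⟩
  · msimp at *; usimp; simp [hz]
  · msimp at *; usimp; simp [hy]
  · exact ⟨(mor_J hf.1 J2 y ⟨h2, hy, h1⟩).2.2, (mor_J hf.1 J2 y ⟨h2, hy, h1⟩).1⟩
  · rw [show y = 1 by msimp at *; usimp; simp [hy, h1], hf.1.map_one]; rfl
  · have j := mor_J hf.1 J2
    have ka : ∀ y ∈ sJ, f ⁅xa, y⁆ = ⁅xa, f y⁆ := fun y hy => by
      rw [hf.1.map_commutator rfl hy.2.1, brk _ (j y hy), brk _ (j y hy), hf.2 xa rfl, (h1 xa rfl).1, (h1 xa rfl).2]; rfl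
    have kc : ∀ y ∈ sJ, f ⁅xc, y⁆ = ⁅xc, f y⁆ := fun y hy => by
      rw [hf.1.map_commutator rfl hy.2.1, brk _ (j y hy), brk _ (j y hy), hf.2 xc rfl, (h1 xc rfl).1, (h1 xc rfl).2]; rfl
    have kY : ∀ y ∈ sY1, (f y).q = y.q ∧ (f y).r = y.r := fun y hy => by
      have jy : y ∈ sJ := ⟨hy.1, hy.2.1, hy.2.2.1⟩
      have m := iv_of_fa (iv_Y1 hA) hf y hy.2.1 hy
      have e1 := h2 ⁅xa, y⁆ (by rw [brk _ jy]; msimp at *; simp [hy])
      have e2 := h2 ⁅xc, y⁆ (by rw [brk _ jy]; msimp at *; simp [hy])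
      rw [ka y jy, brk _ jy, brk _ (j y jy)] at e1
      rw [kc y jy, brk _ jy, brk _ (j y jy)] at e2
      msimp at *
      simpa [hy, m, two] using And.intro e1 e2
    refine inner_of_chain hF hE hf [sZ, sY1, sJ] (by simp [RhA.iv_Z2 hA, iv_Y1 hA, iv_J hA J2]) ?_
    simp only [List.cons_append, List.nil_append, List.isChain_cons_cons, List.isChain_singleton, and_true]
    refine ⟨fun y _ hy => ?_, fun y _ hy => ?_, fun y _ hy => ?_, fun y hy _ => ?_⟩
    · have := iv_of_fa (RhA.iv_Z2 hA) hf y hy.2.1 hy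
      have k := h2 y hy
      rw [mem_bot, inv_mul_eq_one]
      msimp at *; usimp; simp [hy, this, k]
    · have := iv_of_fa (iv_Y1 hA) hf y hy.2.1 hy
      have k := kY y hy
      msimp at *; usimp; simp [hy, this, k]
    · have := j y hy
      have e1 := kY ⁅xa, y⁆ (by rw [brk _ hy]; msimp at *; simp)
      have e2 := kY ⁅xc, y⁆ (by rw [brk _ hy]; msimp at *; simp)
      rw [ka y hy, brk _ hy, brk _ (j y hy)] at e1
      rw [kc y hy, brk _ hy, brk _ (j y hy)] at e2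
      msimp at *
      simp at e1 e2
      usimp; simp [hy, this, e1, e2]
    · have := hf.2 y hy
      have k := h1 y hy
      msimp at *; usimp; simp [hy, this, k]
  · msimp at *; usimp; exact ⟨by ring, by ring⟩
  · msimp at *; usimp; simp only [hy]; ring
  · msimp at *; usimp; simp only [hu, hy]; exact ⟨by ring, by ring⟩
  · msimp at *; usimp; simp only [hy]; ring
  · msimp; usimp; linear_combination -h
  · msimp; usimp; linear_combination -h

/-- every automorphism of `E₂` or `U` leaves `Z` invariant -/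
theorem iv_Z2 (hA : Au E2 A) : Ivs E2 A sZ := RhA.iv_Z2 hA

theorem iv_W1 (hA : Au E1 A) : Ivs E1 A sW := RhA.iv_W1 hA

end CL.C1F
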