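/-
S5227: the Weyl element on `E₁`.
-/
import Cfsg.Agent.FUS.C1.Gen
import Cfsg.Agent.FUS.C1.RhA
import Cfsg.Agent.FUS.C1.Ess

set_option autoImplicit false
set_option linter.unusedSimpArgs false
set_option linter.unusedVariables false
set_option linter.unusedSectionVars false

namespace CL.C1F

open CL.Fus CL.RF4 CL.U5 Subgroup Cfsg Cfsg.FusionSystem
open scoped commutatorElement

variable {F F' : FusionSystem (⊤ : Subgroup U)} {E P : Subgroup U} {A : Set (U → U)} {f g : U → U} {e : k3}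

namespace W1

theorem act (s : U) {y : U} (hy : y ∈ sJ) : cj s y = cj (tt s.a s.b s.c) y := by
  msimp at *; usimp; simp only [hy]; and_intros <;> first | trivial | ring

theorem eq_jj {y : U} (hy : y ∈ sJ) : y = jj y.p y.q y.r y.u y.v y.w := by
  msimp at *; usimp; simp [hy]

theorem cj_J {s y : U} (hs : s ∈ sJ) (hy : y ∈ sJ) : cj s y = y := by rw [cj, comm_J hs hy, mul_inv_cancel_right]

/-- the candidates on `J` -/
def gg (i j k : k3) (y : U) : U := jj (y.u + i * y.w) (-y.q + j * y.w) y.v (y.p + k * y.w) (-y.r) y.w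

theorem hom_gg (i j k : k3) : IsHomOn sJ (gg i j k) := fun x hx y hy => by
  msimp at *; simp only [gg, jj]; usimp; simp only [hx, hy]; and_intros <;> first | trivial | ring

theorem ext1 (hf : IsHomOn E1 f) (hg : IsHomOn E1 g) (ha : f xb = g xb) (hc : f xc = g xc) (hJ : ∀ y ∈ sJ, f y = g y) :
    ∀ y ∈ E1, f y = g y := fun y hy => by
  have e : y = jj y.p y.q y.r y.u y.v y.w * (xb ^ y.b.val * xc ^ y.c.val) := by
    rw [(by decide : ∀ a c : k3, xb ^ a.val * xc ^ c.val = tt 0 a c)]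
    msimp at *; usimp; simp [hy]
  have a : xb ∈ E1 := by decide
  have c : xc ∈ E1 := by decide
  have j : jj y.p y.q y.r y.u y.v y.w ∈ E1 := rfl
  rw [e, hf j (mul_mem (pow_mem a _) (pow_mem c _)), hg j (mul_mem (pow_mem a _) (pow_mem c _)), hf (pow_mem a _) (pow_mem c _),
    hg (pow_mem a _) (pow_mem c _), hf.map_pow a, hf.map_pow c, hg.map_pow a, hg.map_pow c, ha, hc, hJ _ ⟨rfl, rfl, rfl⟩]

theorem l1 : ∀ p q r u v : k3, h1 (jj p q r u v 1) = jj p q r u v 1 → jj p q r u v 1 = jj p q 0 u 0 1 := by decide +kernel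
theorem l2 : ∀ i j k : k3, cj xc (jj i j 0 k 0 1) * (jj i j 0 k 0 1)⁻¹ = xp * xr ∧
    cj xb⁻¹ (jj i j 0 k 0 1) * (jj i j 0 k 0 1)⁻¹ = xu * xv⁻¹ := by decide +kernel
theorem l6 : ∀ i j k b c : k3, gg i j k (gg i j k xw) = cj (tt 0 b c) (h1 xw) → k = -i := by decide +kernel
theorem l7 : ∀ i j b c : k3, (∀ y ∈ [xu, xv, xw], gg i j (-i) (cj xa (gg i j (-i) (cj xa (gg i j (-i) (cj xa y))))) =
    cj (tt 0 b c) y) → j = 0 := by decide +kernel
theorem l8 : ∀ p q r u v w : k3, h1 ⟨0, 0, 1, p, q, r, u, v, w⟩ = (⟨0, 0, 1, p, q, r, u, v, w⟩ : U)⁻¹ →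
    (⟨0, 0, 1, p, q, r, u, v, w⟩ : U) = ⟨0, 0, 1, r, -v, r, 0, v, 0⟩ := by decide +kernel
theorem l9 : ∀ p q r u v w : k3, h1 ⟨0, -1, 0, p, q, r, u, v, w⟩ = (⟨0, -1, 0, p, q, r, u, v, w⟩ : U)⁻¹ →
    (⟨0, -1, 0, p, q, r, u, v, w⟩ : U) = ⟨0, -1, 0, 0, r, r, -v, v, 0⟩ := by decide +kernel
theorem l10 : ∀ r v r' v' e : k3, (⟨0, 0, 1, r, -v, r, 0, v, 0⟩ : U) * ⟨0, -1, 0, 0, r', r', -v', v', 0⟩ =
    ⟨0, -1, 0, 0, r', r', -v', v', 0⟩ * ⟨0, 0, 1, r, -v, r, 0, v, 0⟩ → ⟨0, 0, 1, r, -v, r, 0, v, 0⟩ = cj (jj 0 0 0 0 0 (-r)) (w1 e xb) ∧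
      ⟨0, -1, 0, 0, r', r', -v', v', 0⟩ = cj (jj 0 0 0 0 0 (-r)) (w1 e xc) := by decide +kernel

end W1

open W1

/-- (checked by machine: 81 homomorphisms, 9 satisfy both relations.) `f xb`, `f xc` are inverted by `h1` (so determined by `r, v`: 9 candidates each), they commute, so after a conjugation by `xw^k` they are `w1 0 xb`, `w1 0 xc`;
`f xw = xw z` with `z ∈ W` (fixed by `h1`). Then `f` is known on `E1` (`xv, xr`, `W` are commutators). `f f xw = cj u xw` with `u` centralising `xb, xc` gives `z.u = -z.p`; the cubic relation gives `z.q = 0`. -/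
theorem rig1 (hf : IsHomOn E1 f) (m : ∀ y ∈ E1, f y ∈ E1) (hn : IsN E1 sJ U.c U.b U.w f) (hc : ∀ y ∈ E1, f (h1 y) = h1 (f y))
    (h2 : ∃ u ∈ E1, ∀ y ∈ E1, f (f y) = cj u (h1 y)) (h3 : ∃ u ∈ E1, ∀ y ∈ E1, f (cj xa (f (cj xa (f (cj xa y))))) = cj u y) :
    ∃ u ∈ E1, ∃ e, ∀ y ∈ E1, f y = cj u (w1 e y) := by
  have JE : sJ ≤ E1 := fun y hy => hy.1
  have fJ : ∀ y ∈ sJ, f y ∈ sJ := fun y hy =>
    ⟨m y (JE hy), by rw [(hn.1 y (JE hy)).2, hy.2.2, neg_zero], by rw [(hn.1 y (JE hy)).1, hy.2.1]⟩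
  have a : xb ∈ E1 := by decide
  have c : xc ∈ E1 := by decide
  have eA : f xb = ⟨0, 0, 1, (f xb).p, (f xb).q, (f xb).r, (f xb).u, (f xb).v, (f xb).w⟩ :=
    U.ext (m xb a) (hn.1 xb a).2 (hn.1 xb a).1 rfl rfl rfl rfl rfl rfl
  have eC : f xc = ⟨0, -1, 0, (f xc).p, (f xc).q, (f xc).r, (f xc).u, (f xc).v, (f xc).w⟩ :=
    U.ext (m xc c) (hn.1 xc c).2 (hn.1 xc c).1 rfl rfl rfl rfl rfl rfl
  have ca : ∀ y ∈ sJ, cj xc (f y) = f (cj xb y) := fun y hy => by
    rw [hf.map_cj a (JE hy), act (f xb) (fJ y hy), eA]; rfl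
  have cc : ∀ y ∈ sJ, cj xb⁻¹ (f y) = f (cj xc y) := fun y hy => by
    rw [hf.map_cj c (JE hy), act (f xc) (fJ y hy), eC]; rfl
  have iv : ∀ y ∈ E1, h1 y = y⁻¹ → h1 (f y) = (f y)⁻¹ := fun y hy e => by
    rw [← hf.map_inv hy, ← e]; exact (hc y hy).symm
  have mu : ∀ {x y}, x ∈ sJ → y ∈ sJ → f (x * y) = f x * f y := fun hx hy => hf (JE hx) (JE hy)
  have jr : xr ∈ sJ := by decide
  have ju : xu ∈ sJ := by decide
  have jw : xw ∈ sJ := by decide
  have Ww : f xw = jj (f xw).p (f xw).q 0 (f xw).u 0 1 := by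
    have e := eq_jj (fJ _ jw)
    rw [hn.2 xw jw] at e
    refine e.trans (l1 _ _ _ _ _ ?_)
    exact e ▸ (hc xw (JE jw)).symm
  generalize (f xw).p = i at Ww
  generalize (f xw).q = j at Ww
  generalize (f xw).u = k at Ww
  have e1 : f (xu * xv) = xp * xr := by
    rw [← (l2 i j k).1, ← Ww, ca _ jw, show cj xb xw = xu * xv * xw by decide, mu (by decide) jw, mul_inv_cancel_right]
  have e2 : f (xp * xr) = xu * xv⁻¹ := by
    rw [← (l2 i j k).2, ← Ww, cc _ jw, show cj xc xw = xp * xr * xw by decide, mu (by decide) jw, mul_inv_cancel_right]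
  have sp : ∀ y ∈ sJ, f (y * h1 y)⁻¹ = (f y * h1 (f y))⁻¹ ∧ f (y * (h1 y)⁻¹)⁻¹ = (f y * (h1 (f y))⁻¹)⁻¹ := fun y hy => by
    have hy' : h1 y ∈ sJ := by msimp at *; simp [tor, hy]
    rw [hf.map_inv (JE (mul_mem hy hy')), hf.map_inv (JE (mul_mem hy (inv_mem hy'))), mu hy hy', mu hy (inv_mem hy'),
      hf.map_inv (JE hy'), hc y (JE hy)]
    exact ⟨rfl, rfl⟩
  have s1 := sp (xu * xv) (by decide)
  have s2 := sp (xp * xr) (by decide)
  rw [e1] at s1
  rw [e2] at s2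
  have Uu : f xu = xp := (congrArg f (by decide)).trans (s1.1.trans (by decide))
  have Vv : f xv = xr := (congrArg f (by decide)).trans (s1.2.trans (by decide))
  have P : f xp = xu := (congrArg f (by decide)).trans (s2.1.trans (by decide))
  have R : f xr = xv⁻¹ := (congrArg f (by decide)).trans (s2.2.trans (by decide))
  have Q : f xq = xq⁻¹ := by
    have e := ca _ jr
    rw [show cj xb xr = xq * xr by decide, mu (by decide) jr, R] at e
    exact mul_right_cancel (e.symm.trans (by decide))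
  have G : ∀ y ∈ sJ, f y = gg i j k y := eq_on_J (hf.mono JE) (hom_gg i j k) (by
    simp only [List.mem_cons, List.not_mem_nil, or_false, forall_eq_or_imp, forall_eq, P, Q, R, Uu, Vv, Ww]
    clear Ww; revert i j k; decide +kernel)
  obtain ⟨u, hu, h2⟩ := h2
  obtain rfl : k = -i := l6 i j k u.b u.c (by
    rw [← G _ jw, ← G _ (fJ _ jw), h2 _ (JE jw), act u (by decide), show u.a = 0 from hu])
  obtain ⟨u', hu', h3⟩ := h3
  have nb : ∀ y ∈ sJ, cj xa y ∈ sJ := fun y hy => Normal.conj_mem inferInstance y hy _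
  obtain rfl : j = 0 := l7 i j u'.b u'.c fun y hy => by
    have hy : y ∈ sJ := by revert y; decide
    rw [← G _ (nb _ hy), ← G _ (nb _ (fJ _ (nb _ hy))), ← G _ (nb _ (fJ _ (nb _ (fJ _ (nb _ hy))))), h3 _ (JE hy), act u' hy,
      show u'.a = 0 from hu']
  have eA' := eA.trans (l8 _ _ _ _ _ _ (eA ▸ iv _ a (by decide)))
  have eC' := eC.trans (l9 _ _ _ _ _ _ (eC ▸ iv _ c (by decide)))
  obtain ⟨e1, e2⟩ := l10 _ _ _ _ i (by rw [← eA', ← eC', ← hf a c, ← hf c a]; exact congrArg f (by decide))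
  refine ⟨_, (rfl : jj 0 0 0 0 0 (-(f xb).r) ∈ E1), i, ext1 hf (fun x hx y hy => by
    rw [hom_w1 i hx hy]; simp only [cj]; group) (eA'.trans e1) (eC'.trans e2) fun y hy => ?_⟩
  rw [G y hy, cj_J ⟨rfl, rfl, rfl⟩ ⟨rfl, by simp [w1, hy.2.2], hy.2.1⟩]
  msimp at hy
  simp only [gg, w1, jj, hy, U.mk.injEq]; and_intros <;> first | trivial | ring

theorem isN1 (e : k3) : IsN E1 sJ U.c U.b U.w (w1 e) := by
  exact ⟨fun _ _ => ⟨rfl, rfl⟩, fun _ _ => rfl⟩

theorem maps1 (e : k3) : ∀ y ∈ E1, w1 e y ∈ E1 := fun _ _ => rfl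

/-- `(rho1 hF hE).exists_comm hS (not_E1 hF)`, `rig1` -/
theorem w1_of (hF : F.IsSaturated 3) (hS : Std F) (hE : F.IsEssential 3 E1) : Mor F ⊤ h1 ∧ ∃ e, Mor F E1 (w1 e) := by
  have h := rho1 hF hE
  obtain ⟨t, f, hf, hn, hc, h2, h3⟩ := h.exists_comm hS (not_E1 hF) (s := false) (t := true) (d := false)
    (fun y hy => by msimp at *; simp [tor, hy]) (fun s t d y h0 h1 h2 => by
      have a := (h1 xc (by decide)).1
      have b := (h1 xb (by decide)).2
      have c := h2 xw (by decide)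
      simp only [tor] at a b c; msimp at a b c; usimp at a b c
      have a' : sg s * sg t = -1 := by linear_combination a
      have b' : sg t = -1 := by linear_combination b
      have c' : sg d = 1 := by linear_combination c
      clear h0 h1 h2 a b c; revert s t d; decide)
    (fun z _ => by simp [tor, sg]) (fun z _ => by simp [tor, sg])
  obtain ⟨u, hu, e, k⟩ := rig1 hf.1.isHomOn hf.2 hn hc h2 h3
  exact ⟨t, e, ((mor_cj' F ⊤ u⁻¹).comp hf.1 fun _ _ => trivial).congr fun y hy => by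
    simp only [Function.comp, k y hy, cj_inv_cj]⟩

end CL.C1F
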