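/-
S5227: the Weyl element on `E₂`.
-/
import Cfsg.Agent.FUS.C1.Gen
import Cfsg.Agent.FUS.C1.RhA
import Cfsg.Agent.FUS.C1.Ess

set_option autoImplicit false
set_option linter.unusedSimpArgs false
set_option linter.unusedVariables false
set_option linter.unusedSectionVars false

namespace CL.C1F

open CL.Fus CL.RF4 CL.U5 Subgroup Cfsg Cfsg.FusionSystem
open scoped commutatorElement

variable {F F' : FusionSystem (⊤ : Subgroup U)} {E P : Subgroup U} {A : Set (U → U)} {f g : U → U} {e : k3}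

namespace W2

theorem act (s : U) {y : U} (hy : y ∈ sJ) : cj s y = cj (tt s.a s.b s.c) y := by
  msimp at *; usimp; simp only [hy]; and_intros <;> first | trivial | ring

theorem eq_jj {y : U} (hy : y ∈ sJ) : y = jj y.p y.q y.r y.u y.v y.w := by
  msimp at *; usimp; simp [hy]

theorem cj_J {s y : U} (hs : s ∈ sJ) (hy : y ∈ sJ) : cj s y = y := by rw [cj, comm_J hs hy, mul_inv_cancel_right]

/-- the candidates on `J` -/
def gg (i j k : k3) (y : U) : U := jj (y.p + i * y.u + j * y.v + k * y.w) (-y.r) y.q y.w (-y.v) y.u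

theorem hom_gg (i j k : k3) : IsHomOn sJ (gg i j k) := fun x hx y hy => by
  msimp at *; simp only [gg, jj]; usimp; simp only [hx, hy]; and_intros <;> ring

theorem ext2 (hf : IsHomOn E2 f) (hg : IsHomOn E2 g) (ha : f xa = g xa) (hc : f xc = g xc) (hJ : ∀ y ∈ sJ, f y = g y) :
    ∀ y ∈ E2, f y = g y := fun y hy => by
  have e : y = jj y.p y.q y.r y.u y.v y.w * (xa ^ y.a.val * xc ^ y.c.val) := by
    rw [(by decide : ∀ a c : k3, xa ^ a.val * xc ^ c.val = tt a 0 c)]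
    msimp at *; usimp; simp [hy]
  have a : xa ∈ E2 := by decide
  have c : xc ∈ E2 := by decide
  have j : jj y.p y.q y.r y.u y.v y.w ∈ E2 := rfl
  rw [e, hf j (mul_mem (pow_mem a _) (pow_mem c _)), hg j (mul_mem (pow_mem a _) (pow_mem c _)), hf (pow_mem a _) (pow_mem c _),
    hg (pow_mem a _) (pow_mem c _), hf.map_pow a, hf.map_pow c, hg.map_pow a, hg.map_pow c, ha, hc, hJ _ ⟨rfl, rfl, rfl⟩]

theorem l1 : ∀ p q r u v w : k3, h2 (jj p q r u v w) = (jj p q r u v w)⁻¹ → cj xc (jj p q r u v w) = xp * xp * jj p q r u v w →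
    cj xa⁻¹ (jj p q r u v w) = jj p q r u v w → jj p q r u v w = xr := by decide +kernel
theorem l2 : ∀ p q r u v w : k3, h2 (jj p q r u v w) = (jj p q r u v w)⁻¹ → cj xc (jj p q r u v w) = jj p q r u v w →
    cj xa⁻¹ (jj p q r u v w) = xp * xp * jj p q r u v w → jj p q r u v w = xq⁻¹ := by decide +kernel
theorem l3 : ∀ p q r u v w : k3, cj xc (jj p q r u v w) = xp * xr * jj p q r u v w →
    cj xa⁻¹ (jj p q r u v w) = jj p q r u v w → h2 (jj p q r u v w) = jj p q r u v w → jj p q r u v w = jj p 0 0 0 0 1 := by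
  decide +kernel
theorem l4 : ∀ p q r u v w : k3, cj xc (jj p q r u v w) = xq⁻¹ * jj p q r u v w →
    cj xa⁻¹ (jj p q r u v w) = xr * jj p q r u v w → h2 (jj p q r u v w) = jj p q r u v w → jj p q r u v w = jj p 0 0 0 (-1) 0 := by
  decide +kernel
theorem l5 : ∀ p q r u v w : k3, cj xc (jj p q r u v w) = jj p q r u v w →
    cj xa⁻¹ (jj p q r u v w) = xp * xq⁻¹ * jj p q r u v w → h2 (jj p q r u v w) = jj p q r u v w →
    jj p q r u v w = jj p 0 0 1 0 0 := by decide +kernel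
theorem l6 : ∀ i j k a c : k3, gg i j k (gg i j k xu) = cj (tt a 0 c) (h2 xu) → k = -i := by decide +kernel
theorem l7 : ∀ i j a c : k3, (∀ y ∈ [xu, xv, xw], gg i j (-i) (cj xb⁻¹ (gg i j (-i) (cj xb⁻¹ (gg i j (-i) (cj xb⁻¹ y))))) =
    cj (tt a 0 c) y) → j = 0 := by decide +kernel
theorem l8 : ∀ p q r u v w : k3, h2 ⟨0, 0, 1, p, q, r, u, v, w⟩ = (⟨0, 0, 1, p, q, r, u, v, w⟩ : U)⁻¹ →
    (⟨0, 0, 1, p, q, r, u, v, w⟩ : U) = ⟨0, 0, 1, r, q, r, 0, 0, 0⟩ := by decide +kernel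
theorem l9 : ∀ p q r u v w : k3, h2 ⟨-1, 0, 0, p, q, r, u, v, w⟩ = (⟨-1, 0, 0, p, q, r, u, v, w⟩ : U)⁻¹ →
    (⟨-1, 0, 0, p, q, r, u, v, w⟩ : U) = ⟨-1, 0, 0, -q, q, r, 0, 0, 0⟩ := by decide +kernel
theorem l10 : ∀ q r q' r' e : k3, (⟨0, 0, 1, r, q, r, 0, 0, 0⟩ : U) * ⟨-1, 0, 0, -q', q', r', 0, 0, 0⟩ =
    ⟨-1, 0, 0, -q', q', r', 0, 0, 0⟩ * ⟨0, 0, 1, r, q, r, 0, 0, 0⟩ → ⟨0, 0, 1, r, q, r, 0, 0, 0⟩ = cj (jj 0 0 0 q' (-q) (-r)) (w2 e xa) ∧
      ⟨-1, 0, 0, -q', q', r', 0, 0, 0⟩ = cj (jj 0 0 0 q' (-q) (-r)) (w2 e xc) := by decide +kernel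

end W2

open W2

/-- (checked by machine: 729 homomorphisms, 81 satisfy both relations.) `f J = J`, `f xp = xp`. `f xa`, `f xc` are inverted by `h2` (determined by `q, r`), and a conjugation by an element of `⟨xu, xv, xw⟩` (fixed by `h2`) makes them
`w2 0 xa`, `w2 0 xc` (they commute). `f xq, f xr` are inverted by `h2` and determined by commutators with `xa, xc`; `f xu, f xv, f xw` are fixed by `h2`, determined modulo `Z` by commutators. The three free `p`-coordinates `(i, j, k)` are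
cut down by the two relations to `(e, 0, -e)`. -/
theorem rig2 (hf : IsHomOn E2 f) (m : ∀ y ∈ E2, f y ∈ E2) (hZ : ∀ y ∈ sZ, f y ∈ sZ) (hn : IsN E2 sZ U.c U.a U.p f) (hc : ∀ y ∈ E2, f (h2 y) = h2 (f y))
    (h2 : ∃ u ∈ E2, ∀ y ∈ E2, f (f y) = cj u (h2 y)) (h3 : ∃ u ∈ E2, ∀ y ∈ E2, f (cj xb⁻¹ (f (cj xb⁻¹ (f (cj xb⁻¹ y))))) = cj u y) :
    ∃ u ∈ E2, ∃ e, ∀ y ∈ E2, f y = cj u (w2 e y) := by
  have JE : sJ ≤ E2 := fun y hy => hy.2.1
  have fJ : ∀ y ∈ sJ, f y ∈ sJ := fun y hy =>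
    ⟨by rw [(hn.1 y (JE hy)).2, hy.2.2, neg_zero], m y (JE hy), by rw [(hn.1 y (JE hy)).1, hy.1]⟩
  have a : xa ∈ E2 := by decide
  have c : xc ∈ E2 := by decide
  have eA : f xa = ⟨0, 0, 1, (f xa).p, (f xa).q, (f xa).r, (f xa).u, (f xa).v, (f xa).w⟩ :=
    U.ext (hn.1 xa a).2 (m xa a) (hn.1 xa a).1 rfl rfl rfl rfl rfl rfl
  have eC : f xc = ⟨-1, 0, 0, (f xc).p, (f xc).q, (f xc).r, (f xc).u, (f xc).v, (f xc).w⟩ :=
    U.ext (hn.1 xc c).2 (m xc c) (hn.1 xc c).1 rfl rfl rfl rfl rfl rfl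
  have ca : ∀ y ∈ sJ, cj xc (f y) = f (cj xa y) := fun y hy => by
    rw [hf.map_cj a (JE hy), act (f xa) (fJ y hy), eA]; rfl
  have cc : ∀ y ∈ sJ, cj xa⁻¹ (f y) = f (cj xc y) := fun y hy => by
    rw [hf.map_cj c (JE hy), act (f xc) (fJ y hy), eC]; rfl
  have iv : ∀ y ∈ E2, tor true false false y = y⁻¹ → tor true false false (f y) = (f y)⁻¹ := fun y hy e => by
    rw [← hf.map_inv hy, ← e]; exact (hc y hy).symm
  have fx : ∀ y ∈ E2, tor true false false y = y → tor true false false (f y) = f y := fun y hy e => by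
    conv_rhs => rw [← e]
    exact (hc y hy).symm
  have mu : ∀ {x y}, x ∈ sJ → y ∈ sJ → f (x * y) = f x * f y := fun hx hy => hf (JE hx) (JE hy)
  have jp : xp ∈ sJ := by decide
  have jq : xq ∈ sJ := by decide
  have jr : xr ∈ sJ := by decide
  have ju : xu ∈ sJ := by decide
  have jv : xv ∈ sJ := by decide
  have jw : xw ∈ sJ := by decide
  have P : f xp = xp := by
    have k := hZ xp (by decide)
    have k' := hn.2 xp (by decide)
    msimp at k; usimp; msimp at k' ⊢; simp only [k, k', and_self]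
  have Q : f xq = xr := by
    rw [eq_jj (fJ _ jq)]
    refine l1 _ _ _ _ _ _ ?_ ?_ ?_ <;> rw [← eq_jj (fJ _ jq)]
    · exact iv _ (JE jq) (by decide)
    · rw [ca _ jq, show cj xa xq = xp * xp * xq by decide, mu (mul_mem jp jp) jq, mu jp jp, P]
    · rw [cc _ jq, show cj xc xq = xq by decide]
  have R : f xr = xq⁻¹ := by
    rw [eq_jj (fJ _ jr)]
    refine l2 _ _ _ _ _ _ ?_ ?_ ?_ <;> rw [← eq_jj (fJ _ jr)]
    · exact iv _ (JE jr) (by decide)
    · rw [ca _ jr, show cj xa xr = xr by decide]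
    · rw [cc _ jr, show cj xc xr = xp * xp * xr by decide, mu (mul_mem jp jp) jr, mu jp jp, P]
  have Uu : f xu = jj (f xu).p 0 0 0 0 1 := by
    refine (eq_jj (fJ _ ju)).trans (l3 _ _ _ _ _ _ ?_ ?_ ?_) <;> rw [← eq_jj (fJ _ ju)]
    · rw [ca _ ju, show cj xa xu = xp * xq * xu by decide, mu (mul_mem jp jq) ju, mu jp jq, P, Q]
    · rw [cc _ ju, show cj xc xu = xu by decide]
    · exact fx _ (JE ju) (by decide)
  have Vv : f xv = jj (f xv).p 0 0 0 (-1) 0 := by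
    refine (eq_jj (fJ _ jv)).trans (l4 _ _ _ _ _ _ ?_ ?_ ?_) <;> rw [← eq_jj (fJ _ jv)]
    · rw [ca _ jv, show cj xa xv = xr * xv by decide, mu jr jv, R]
    · rw [cc _ jv, show cj xc xv = xq * xv by decide, mu jq jv, Q]
    · exact fx _ (JE jv) (by decide)
  have Ww : f xw = jj (f xw).p 0 0 1 0 0 := by
    refine (eq_jj (fJ _ jw)).trans (l5 _ _ _ _ _ _ ?_ ?_ ?_) <;> rw [← eq_jj (fJ _ jw)]
    · rw [ca _ jw, show cj xa xw = xw by decide]
    · rw [cc _ jw, show cj xc xw = xp * xr * xw by decide, mu (mul_mem jp jr) jw, mu jp jr, P, R]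
    · exact fx _ (JE jw) (by decide)
  generalize (f xu).p = i at Uu
  generalize (f xv).p = j at Vv
  generalize (f xw).p = k at Ww
  have G : ∀ y ∈ sJ, f y = gg i j k y := eq_on_J (hf.mono JE) (hom_gg i j k) (by
    simp only [List.mem_cons, List.not_mem_nil, or_false, forall_eq_or_imp, forall_eq, P, Q, R, Uu, Vv, Ww]
    clear Uu Vv Ww; revert i j k; decide +kernel)
  have gJ : ∀ y, gg i j k y ∈ sJ := fun y => ⟨rfl, rfl, rfl⟩
  obtain ⟨u, hu, h2⟩ := h2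
  obtain rfl : k = -i := l6 i j k u.a u.c (by
    rw [← G _ ju, ← G _ (fJ _ ju), h2 _ (JE ju), act u (by decide), show u.b = 0 from hu])
  obtain ⟨u', hu', h3⟩ := h3
  have nb : ∀ y ∈ sJ, cj xb⁻¹ y ∈ sJ := fun y hy => Normal.conj_mem inferInstance y hy _
  obtain rfl : j = 0 := l7 i j u'.a u'.c fun y hy => by
    have hy : y ∈ sJ := by revert y; decide
    rw [← G _ (nb _ hy), ← G _ (nb _ (fJ _ (nb _ hy))), ← G _ (nb _ (fJ _ (nb _ (fJ _ (nb _ hy))))), h3 _ (JE hy), act u' hy,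
      show u'.b = 0 from hu']
  have eA' := eA.trans (l8 _ _ _ _ _ _ (eA ▸ iv _ a (by decide)))
  have eC' := eC.trans (l9 _ _ _ _ _ _ (eC ▸ iv _ c (by decide)))
  obtain ⟨e1, e2⟩ := l10 _ _ _ _ i (by rw [← eA', ← eC', ← hf a c, ← hf c a]; exact congrArg f (by decide))
  refine ⟨_, (rfl : jj 0 0 0 (f xc).q (-(f xa).q) (-(f xa).r) ∈ E2), i, ext2 hf (fun x hx y hy => by
    rw [hom_w2 i hx hy]; simp only [cj]; group) (eA'.trans e1) (eC'.trans e2) fun y hy => ?_⟩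
  rw [G y hy, cj_J ⟨rfl, rfl, rfl⟩ ⟨by simp [w2, hy.2.2], rfl, hy.1⟩]
  msimp at hy
  simp only [gg, w2, jj, hy, U.mk.injEq]; and_intros <;> first | trivial | ring

theorem isN2 (e : k3) : IsN E2 sZ U.c U.a U.p (w2 e) :=
  ⟨fun _ _ => ⟨rfl, rfl⟩, fun y hy => by msimp at hy; simp [w2, hy]⟩

theorem maps2 (e : k3) : ∀ y ∈ E2, w2 e y ∈ E2 := fun _ _ => rfl

theorem w2_of (hF : F.IsSaturated 3) (hS : Std F) (hE : F.IsEssential 3 E2) : Mor F ⊤ h2 ∧ ∃ e, Mor F E2 (w2 e) := by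
  have h := rho2 hF hE
  obtain ⟨t, f, hf, hn, hc, h2, h3⟩ := h.exists_comm hS (not_E2 hF) (s := true) (t := false) (d := false)
    (fun y hy => by msimp at *; simp [tor, hy]) (fun s t d y h0 h1 h2 => by
      have a := (h1 xc (by decide)).1
      have b := (h1 xa (by decide)).2
      have c := h2 xp (by decide)
      simp only [tor] at a b c; msimp at a b c; usimp at a b c
      have a' : sg s * sg t = -1 := by linear_combination a
      have b' : sg s = -1 := by linear_combination b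
      have c' : sg d = 1 := by linear_combination c
      clear h0 h1 h2 a b c; revert s t d; decide)
    (fun z _ => by simp [tor, sg]) (fun z _ => by simp [tor, sg])
  obtain ⟨u, hu, e, k⟩ := rig2 hf.1.isHomOn hf.2 (fun y hy => (h.iC f hf y hy).1) hn hc h2 h3
  exact ⟨t, e, ((mor_cj' F ⊤ u⁻¹).comp hf.1 fun _ _ => trivial).congr fun y hy => by
    simp only [Function.comp, k y hy, cj_inv_cj]⟩

end CL.C1F
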