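/-
S5227: homomorphisms from the relations.
-/
import Cfsg.Agent.FUS.C1J.Hom

set_option autoImplicit false
set_option linter.unusedSimpArgs false
set_option linter.unusedVariables false
set_option linter.unusedSectionVars false

namespace CL.C1F

open CL.Fus CL.RF4 CL.U5 Subgroup Cfsg Cfsg.FusionSystem
open scoped commutatorElement

variable {F F' : FusionSystem (⊤ : Subgroup U)} {E P : Subgroup U} {A : Set (U → U)} {f g : U → U} {e : k3}

variable {G : Type*} [Group G]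

/-- `ι x = p^x.p q^x.q r^x.r u^x.u v^x.v w^x.w · c^x.c b^x.b a^x.a` (exponents `ZMod.val`; `tt a b c = xc^c xb^b xa^a`). First `J`, then conjugation by `a, b, c` on `J`, then `T`. -/
theorem exists_lift {a b c p q r u v w : G} (h : Rel a b c p q r u v w) : ∃ ι : U →* G, ι xa = a ∧ ι xb = b ∧ ι xc = c ∧ ι xp = p ∧ ι xq = q ∧
    ι xr = r ∧ ι xu = u ∧ ι xv = v ∧ ι xw = w :=
  h.exists_hom

/-- a nontrivial normal subgroup meets the centre `⟨xp⟩` -/
theorem inj_of {ι : U →* G} (h : ι xp ≠ 1) : Function.Injective ι :=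
  inj_of' h

theorem ind_of_gens {ι : U →* G} (hf : IsHomOn P f) {l : List U} (hl : P = closure {x | x ∈ l}) (n : G)
    (h : ∀ x ∈ l, n * ι x = ι (f x) * n) : Ind ι P f := by
  subst hl
  refine ⟨n, fun x hx => ?_⟩
  rw [mul_inv_eq_iff_eq_mul]
  induction hx using closure_induction with
  | mem x hx => exact h x hx
  | one => simp [hf.map_one]
  | mul x y hx hy ih1 ih2 => rw [map_mul, hf hx hy, map_mul, ← mul_assoc, ih1, mul_assoc, ih2, mul_assoc]
  | inv x hx ih =>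
    rw [hf.map_inv hx, map_inv, map_inv, mul_inv_eq_iff_eq_mul, mul_assoc, ih, inv_mul_cancel_left]

section
variable {K : Subgroup U}
theorem cm_mem {x y : U} (hx : x ∈ K) (hy : y ∈ K) : ⁅x, y⁆ ∈ K :=
  mul_mem (mul_mem (mul_mem hx hy) (inv_mem hx)) (inv_mem hy)
theorem c_mem (a : xa ∈ K) (b : xb ∈ K) : xc ∈ K := (by decide : ⁅xa, xb⁆ = xc) ▸ cm_mem a b
theorem r_mem (a : xa ∈ K) (v : xv ∈ K) : xr ∈ K := (by decide : ⁅xa, xv⁆ = xr) ▸ cm_mem a v
theorem q_mem (b : xb ∈ K) (r : xr ∈ K) : xq ∈ K := (by decide : ⁅xb, xr⁆ = xq) ▸ cm_mem b r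
theorem p_mem (c : xc ∈ K) (r : xr ∈ K) : xp ∈ K := (by decide : ⁅xc, xr⁆⁻¹ = xp) ▸ inv_mem (cm_mem c r)
theorem uv_mem (b : xb ∈ K) (w : xw ∈ K) : xu ∈ K ∧ xv ∈ K :=
  have u : xu ∈ K := (by decide : ⁅xb, ⁅xb, xw⁆⁆⁻¹ = xu) ▸ inv_mem (cm_mem b (cm_mem b w))
  ⟨u, (by decide : xu⁻¹ * ⁅xb, xw⁆ = xv) ▸ mul_mem (inv_mem u) (cm_mem b w)⟩
theorem pr_mem (c : xc ∈ K) (w : xw ∈ K) : xp ∈ K ∧ xr ∈ K :=
  have p : xp ∈ K := (by decide : ⁅xc, ⁅xc, xw⁆⁆⁻¹ = xp) ▸ inv_mem (cm_mem c (cm_mem c w))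
  ⟨p, (by decide : xp⁻¹ * ⁅xc, xw⁆ = xr) ▸ mul_mem (inv_mem p) (cm_mem c w)⟩
end

theorem top_eq : (⊤ : Subgroup U) = closure {x | x ∈ [xa, xb, xw]} := by
  refine le_antisymm (fun x hx => ?_) le_top
  set K := closure {x | x ∈ [xa, xb, xw]}
  have a : xa ∈ K := subset_closure (by simp)
  have b : xb ∈ K := subset_closure (by simp)
  have w : xw ∈ K := subset_closure (by simp)
  obtain ⟨u, v⟩ := uv_mem b w
  have c := c_mem a b
  have r := r_mem a v
  have q := q_mem b r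
  exact gens_top K.toSubmonoid (by simp [*, p_mem c r]) x hx

theorem E1_eq : E1 = closure {x | x ∈ [xb, xc, xw]} := by
  refine le_antisymm (fun x hx => ?_) ((closure_le _).2 (by decide : ∀ x ∈ [xb, xc, xw], x ∈ E1))
  set K := closure {x | x ∈ [xb, xc, xw]}
  have b : xb ∈ K := subset_closure (by simp)
  have c : xc ∈ K := subset_closure (by simp)
  have w : xw ∈ K := subset_closure (by simp)
  obtain ⟨u, v⟩ := uv_mem b w
  obtain ⟨p, r⟩ := pr_mem c w
  exact gens_E1 K.toSubmonoid (by simp [*, q_mem b r]) x hx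

theorem E2_eq : E2 = closure {x | x ∈ [xa, xc, xu, xv, xw]} := by
  refine le_antisymm (fun x hx => ?_) ((closure_le _).2 (by decide : ∀ x ∈ [xa, xc, xu, xv, xw], x ∈ E2))
  set K := closure {x | x ∈ [xa, xc, xu, xv, xw]}
  have a : xa ∈ K := subset_closure (by simp)
  have c : xc ∈ K := subset_closure (by simp)
  have u : xu ∈ K := subset_closure (by simp)
  have v : xv ∈ K := subset_closure (by simp)
  have w : xw ∈ K := subset_closure (by simp)
  obtain ⟨p, r⟩ := pr_mem c w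
  have q : xq ∈ K := (by decide : ⁅xc, xv⁆ = xq) ▸ cm_mem c v
  exact gens_E2 K.toSubmonoid (by simp [*]) x hx

theorem E3_eq : E3 = closure {x | x ∈ [xa, xb, xv]} := by
  refine le_antisymm (fun x hx => ?_) ((closure_le _).2 (by decide : ∀ x ∈ [xa, xb, xv], x ∈ E3))
  set K := closure {x | x ∈ [xa, xb, xv]}
  have a : xa ∈ K := subset_closure (by simp)
  have b : xb ∈ K := subset_closure (by simp)
  have v : xv ∈ K := subset_closure (by simp)
  have u : xu ∈ K := (by decide : ⁅xb, xv⁆⁻¹ = xu) ▸ inv_mem (cm_mem b v)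
  have c := c_mem a b
  have r := r_mem a v
  exact gens_E3 K.toSubmonoid (by simp [*, q_mem b r, p_mem c r]) x hx

end CL.C1F
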