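/-
S5227: the automizers of `E₃` and `J ⟨k⟩`.
-/
import Cfsg.Agent.FUS.C1.PrAll
import Cfsg.Agent.FUS.C1.RhA

set_option autoImplicit false
set_option linter.unusedSimpArgs false
set_option linter.unusedVariables false
set_option linter.unusedSectionVars false

namespace CL.C1F

open CL.Fus CL.RF4 CL.U5 Subgroup Cfsg Cfsg.FusionSystem
open scoped commutatorElement

variable {F F' : FusionSystem (⊤ : Subgroup U)} {E P : Subgroup U} {A : Set (U → U)} {f g : U → U} {e : k3}

open RhA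

namespace RhB

theorem J3 {y : U} (h : ⁅y, xv⁆ ∈ sZ) : y ∈ sJ := by
  rw [brk _ (by decide)] at h
  msimp at *
  simp [two] at h
  obtain ⟨k1, k2, k3⟩ := h
  simp [k2] at k1
  exact ⟨k2, k3, k1⟩

theorem one {x y : U} (h : y * x = x * y) {X : Subgroup U} : ⁅y, x⁆ ∈ X :=
  commutatorElement_eq_one_iff_mul_comm.2 h ▸ one_mem X

/-- `Z₂(J ⟨k⟩)` -/
def sK1 : Subgroup U where
  carrier := {g | g.a = 0 ∧ g.b = 0 ∧ g.c = 0 ∧ g.r = -g.u ∧ g.w = 0}
  one_mem' := by simp only [Set.mem_ofPred_eq]; usimp; simp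
  mul_mem' ha hb := by simp only [Set.mem_ofPred_eq] at *; usimp; simp [ha, hb, add_comm]
  inv_mem' ha := by simp only [Set.mem_ofPred_eq] at *; usimp; simp [ha]

theorem mem_sK1 {g : U} : g ∈ sK1 ↔ g.a = 0 ∧ g.b = 0 ∧ g.c = 0 ∧ g.r = -g.u ∧ g.w = 0 := Iff.rfl

theorem JK : sJ ≤ sK 1 0 := fun y hy => by msimp at *; simp [hy]
theorem kK : xk ∈ sK 1 0 := by decide

theorem brkK {t y : U} (ht : t ∈ sK 1 0) (ha : t.a = 1) (hy : y ∈ sJ) : ⁅t, y⁆ =
    jj (-y.q + y.r + y.u + y.v + y.w) (y.r + y.u - y.w) (y.v - y.w) (y.w - y.v) y.w 0 := by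
  rw [brk _ hy, ht.1, ht.2, ha]
  msimp; usimp
  and_intros <;> first | trivial | ring1 | linear_combination (y.q - y.r - y.v) * three_eq |
    linear_combination y.v * three_eq

theorem iv_ZK (hA : Au (sK 1 0) A) : Ivs (sK 1 0) A sZK := (hA.iv_cent Iv.top).congr (fun y hy => ⟨fun h => by
  have j := mem_J_of_comm (h xw (by decide) trivial) (h xv (by decide) trivial)
  have h1 := commutatorElement_eq_one_iff_mul_comm.2 (h xk kK trivial).symm
  rw [brkK kK rfl j] at h1
  msimp at h1; usimp at h1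
  obtain ⟨-, -, -, k1, k2, k3, -, k4, -⟩ := h1
  exact ⟨j.1, j.2.1, j.2.2, by linear_combination k2 + k3 - k1 + k4 + k4 + k4, by linear_combination k2 + k4,
    by linear_combination k3 + k4, k4⟩, fun h x hx _ => by
    simp only [SetLike.mem_coe, mem_sZK] at h
    msimp at *; usimp; simp only [h, hx]
    and_intros <;> first | trivial | ring1 | linear_combination (-x.a * x.a * y.u) * three_eq⟩) hA

theorem iv_K1 (hA : Au (sK 1 0) A) : Ivs (sK 1 0) A sK1 := ((iv_J hA JK).inter (hA.iv_comm Iv.top (iv_ZK hA))).congr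
  (fun y hy => ⟨fun ⟨j, h⟩ => by
    have h1 := brk' (h xk kK trivial)
    rw [brkK kK rfl j] at h1
    obtain ⟨-, -, -, k1, -, k2, -⟩ := h1
    simp only [jj] at k1 k2
    exact ⟨j.1, j.2.1, j.2.2, by linear_combination k1 + k2, k2⟩, fun h => ⟨⟨h.1, h.2.1, h.2.2.1⟩, fun x hx _ => brk' (by
      rw [brk _ ⟨h.1, h.2.1, h.2.2.1⟩, mem_sZK]
      simp only [SetLike.mem_coe, mem_sK1] at h
      msimp at *; simp only [h, hx]
      and_intros <;> first | trivial | ring1 | linear_combination (x.a * y.v) * three_eq)⟩⟩) hA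

end RhB

open RhB

/-- `Z(E3) = sZ`, `Z₂(E3) = sZ2`, `sR = C_{E3}(sZ2)`, `sW = Z(sR)` -/
theorem iv_E3 (hA : Au E3 A) : Ivs E3 A sZ ∧ Ivs E3 A sZ2 ∧ Ivs E3 A sR ∧ Ivs E3 A sW ∧ Ivs E3 A sP3 := by
  have k1 : Ivs E3 A sZ := (hA.iv_cent Iv.top).congr (fun y hy => ⟨fun h => by
    have j := J3 (one (h xv rfl trivial))
    have h1 := commutatorElement_eq_one_iff_mul_comm.2 (h xa rfl trivial).symm
    have h2 := commutatorElement_eq_one_iff_mul_comm.2 (h xb rfl trivial).symm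
    rw [brk _ j] at h1 h2
    msimp at *; usimp at h1 h2
    simp [two] at h1 h2
    obtain ⟨k1, k2, k3⟩ := h1
    simp [k2, two] at k1
    simp [j, hy, k1, k2, k3, h2], fun h x hx _ => by
      msimp at *; usimp; simp only [h, hx]; and_intros <;> first | trivial | ring⟩) hA
  have k2 : Ivs E3 A sZ2 := (hA.iv_comm Iv.top k1).congr (fun y hy => ⟨fun h => by
    have j := J3 (h xv rfl trivial)
    have h1 := brk' (h xa rfl trivial)
    have h2 := brk' (h xb rfl trivial)
    rw [brk _ j] at h1 h2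
    msimp at *
    simp at h1 h2
    simp [j, hy, h1, h2], fun h x hx _ => brk' (by
      rw [brk _ ⟨h.1, h.2.1, h.2.2.1⟩]; msimp at *; simp [h])⟩) hA
  have k3 : Ivs E3 A sR := (hA.iv_cent k2).congr (fun y hy => ⟨fun h => by
    have h1 := commutatorElement_eq_one_iff_mul_comm.2 (h xq rfl ⟨rfl, rfl, rfl, rfl, rfl, rfl, rfl⟩)
    rw [brk _ (by decide)] at h1
    msimp at *; usimp at h1
    simpa [two, hy] using h1, fun h x _ hx => by
      msimp at *; usimp; simp only [h, hx]; and_intros <;> first | trivial | ring⟩) hA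
  refine ⟨k1, k2, k3, (hA.iv_cent k3).congr (fun y hy => ⟨fun h => ?_, fun h x _ hx => ?_⟩) hA,
    (hA.iv_comm Iv.top k2).congr (fun y hy => ⟨fun h => ?_, fun h x hx _ => ?_⟩) hA⟩
  · have j := J3 (one (h xv rfl ⟨rfl, rfl⟩))
    have h2 := commutatorElement_eq_one_iff_mul_comm.2 (h xb rfl ⟨rfl, rfl⟩).symm
    rw [brk _ j] at h2
    msimp at *; usimp at h2
    simp [two, hy] at h2
    simp [j, hy, h2]
  · msimp at *; usimp; simp only [h, hx]; and_intros <;> first | trivial | ring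
  · have h1 := h xv rfl trivial
    have h2 := h xa rfl trivial
    rw [brk _ (by decide)] at h1
    msimp at *; usimp at h2
    simp [two] at h1
    simp [h1, hy] at h2
    simp [h1, hy, h2]
  · msimp at *; usimp; simp only [h, hx]; and_intros <;> first | trivial | ring

/-- `sP3 = Z₃(E3) = E3'`. `ker`: chain `[sZ, sZ2, sP3, sR]`; `xc, xr, xu` are commutators of `xa, xb, xv` modulo `sZ2`, then `xq = ⁅xb, xr⁆`, `xp`. -/
theorem rho3 (hF : F.IsSaturated 3) (hE : F.IsEssential 3 E3) : Rho F E3 sR E3 U.v U.b U.a xw⁻¹ := by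
  obtain ⟨i1, i2, i3, i4, i5⟩ := iv_E3 (cp_of_essential pgT hF hE).toAu
  refine ⟨hF, hE, fun _ h => h.2, le_rfl, fun y hy z hz => ?_, fun _ _ _ _ => rfl, fun _ _ _ _ => rfl, ⟨xv, by decide⟩,
    ⟨xb, by decide⟩, ⟨xa, by decide⟩, fun f hf y hy => ⟨iv_of_fa i3 hf y hy.2 hy, fun h1 h2 => ?_⟩,
    fun f hf y hy => ⟨hf.2 y hy, fun h1 => (iv_of_fa i3 hf y hy ⟨h1, hy⟩).1⟩,
    fun f hf h1 h2 => ?_, fun y hy => Normal.conj_mem inferInstance y hy _, fun y hy => ?_, fun y hy => ?_,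
    fun u hu => ⟨fun y hy => ?_, fun y hy => ?_⟩, fun s _ => dec (χ := fun s => -s.w) neg_eq_zero.1 (fun h => ?_) fun h => ?_⟩
  · msimp at *; usimp; simp [hz]
  · exact ⟨(iv_of_fa i5 hf y hy.2 ⟨hy.1, h2, h1, hy.2⟩).2.2.1, (iv_of_fa i5 hf y hy.2 ⟨hy.1, h2, h1, hy.2⟩).2.1⟩
  · have m : ∀ {s t y : U}, s ∈ E3 → t ∈ E3 → y ∈ E3 → f (⁅s, t⁆⁻¹ * y) = ⁅f s, f t⁆⁻¹ * f y := fun hs ht hy => by
      have := commutator_mem_commutator hs ht
      have := commutator_le_left _ _ this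
      rw [hf.1.map_mul (inv_mem this) hy, hf.1.map_inv this, hf.1.map_commutator hs ht]
    have kP : ∀ y ∈ sP3, (f y).c = y.c ∧ (f y).r = y.r := fun y hy => by
      have e : ⁅xa, (⟨0, y.c, 0, 0, 0, 0, 0, y.r, 0⟩ : U)⁆⁻¹ * y ∈ sW := by
        msimp at *; usimp; simp only [hy]; and_intros <;> ring
      have := iv_of_fa i4 hf _ e.2.2.2.2.2 e
      rw [m rfl rfl hy.2.2.2] at this
      have a1 := h2 xa rfl
      have a2 := hf.2 xa rfl
      have a3 := h1 ⟨0, y.c, 0, 0, 0, 0, 0, y.r, 0⟩ ⟨rfl, rfl⟩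
      have a4 := iv_of_fa i3 hf ⟨0, y.c, 0, 0, 0, 0, 0, y.r, 0⟩ rfl ⟨rfl, rfl⟩
      have a5 := iv_of_fa i5 hf y hy.2.2.2 hy
      generalize f xa = s at *
      msimp at *; usimp at this
      simp only [a1, a2, a3, a4, a5] at this
      exact ⟨by linear_combination this.2.2.1, by linear_combination this.2.2.2.1⟩
    have kW : ∀ y ∈ sW, (f y).u = y.u := fun y hy => by
      have e : ⁅xb, jj 0 0 0 0 (-y.u) 0⁆⁻¹ * y ∈ sZ2 := by
        msimp at *; usimp; simp only [hy]; and_intros <;> first | ring1 | linear_combination y.u * three_eq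
      have := iv_of_fa i2 hf _ e.2.2.2.2.2.2 e
      rw [m rfl rfl hy.2.2.2.2.2] at this
      have a1 := h1 xb ⟨rfl, rfl⟩
      have a2 := iv_of_fa i3 hf xb rfl ⟨rfl, rfl⟩
      have a3 := h1 (jj 0 0 0 0 (-y.u) 0) ⟨rfl, rfl⟩
      have a4 := iv_of_fa i3 hf (jj 0 0 0 0 (-y.u) 0) rfl ⟨rfl, rfl⟩
      have a5 := iv_of_fa i4 hf y hy.2.2.2.2.2 hy
      generalize f xb = s at *
      generalize f (jj 0 0 0 0 (-y.u) 0) = t at *
      msimp at *; usimp at this
      simp only [a1, a2, a3, a4, a5] at this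
      linear_combination this.2.2.2.2.1 - y.u * three_eq
    have kZ : ∀ y ∈ sZ2, (f y).q = y.q := fun y hy => by
      have e : ⁅xb, jj 0 0 y.q 0 0 0⁆⁻¹ * y ∈ sZ := by
        msimp at *; usimp; simp only [hy]; and_intros <;> ring
      have := iv_of_fa i1 hf _ e.2.2.2.2.2.2.2 e
      rw [m rfl rfl hy.2.2.2.2.2.2] at this
      have a1 := h1 xb ⟨rfl, rfl⟩
      have a2 := iv_of_fa i3 hf xb rfl ⟨rfl, rfl⟩
      have a3 := kP (jj 0 0 y.q 0 0 0) ⟨rfl, rfl, rfl, rfl⟩
      have a4 := iv_of_fa i5 hf (jj 0 0 y.q 0 0 0) rfl ⟨rfl, rfl, rfl, rfl⟩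
      have a5 := iv_of_fa i2 hf y hy.2.2.2.2.2.2 hy
      generalize f xb = s at *
      generalize f (jj 0 0 y.q 0 0 0) = t at *
      msimp at *; usimp at this
      simp only [a1, a2, a3, a4, a5] at this
      linear_combination this.2.2.2.1
    refine inner_of_chain hF hE hf [sZ, sZ2, sW, sP3, sR] (by simp [i1, i2, i3, i4, i5]) ?_
    simp only [List.cons_append, List.nil_append, List.isChain_cons_cons, List.isChain_singleton, and_true]
    refine ⟨fun y _ hy => ?_, fun y h hy => ?_, fun y h hy => ?_, fun y h hy => ?_, fun y h hy => ?_, fun y hy _ => ?_⟩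
    · have e : y = ⁅xa, jj 0 (-y.p) 0 0 0 0⁆ := by
        rw [brk _ (jj_mem ..)]; msimp at *; usimp; simp only [hy]
        and_intros <;> first | trivial | ring1 | linear_combination y.p * three_eq
      have a1 := iv_of_fa i2 hf (jj 0 (-y.p) 0 0 0 0) rfl ⟨rfl, rfl, rfl, rfl, rfl, rfl, rfl⟩
      rw [mem_bot, inv_mul_eq_one, e, hf.1.map_commutator rfl rfl, brk _ (jj_mem ..), brk _ ⟨a1.1, a1.2.1, a1.2.2.1⟩,
        kZ _ ⟨rfl, rfl, rfl, rfl, rfl, rfl, rfl⟩, h2 xa rfl]
      msimp at *; simp [a1]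
    · have := iv_of_fa i2 hf y h hy
      have k := kZ y hy
      msimp at *; usimp; simp [hy, this, k]
    · have := iv_of_fa i4 hf y h hy
      have k := kW y hy
      msimp at *; usimp; simp [hy, this, k]
    · have := iv_of_fa i5 hf y h hy
      have k := kP y hy
      msimp at *; usimp; simp [hy, this, k]
    · have := iv_of_fa i3 hf y h hy
      have k := h1 y hy
      msimp at *; usimp; simp [hy, this, k]
    · have := hf.2 y hy
      have k := h2 y hy
      msimp at *; usimp; simp [hy, this, k]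
  · msimp at *; usimp; simp only [hy]; exact ⟨by ring, by ring⟩
  · msimp at *; usimp; ring
  · msimp at *; usimp; simp only [hu, hy]; exact ⟨by ring, by ring⟩
  · usimp; ring
  · msimp; usimp; linear_combination -h
  · msimp; usimp; linear_combination -h

/-- `sZK = Z(K)`, `J` invariant. `ker`: chain `[sZK, K', sJ]` with `K' = {y ∈ J | ⁅y, xk⁆ ∈ sZK}`; `y ↦ ⁅y, xk⁆` is injective on `K' / sZK` and on `J / K'`. `N(K) = sC 1`. -/
theorem rho4 (hF : F.IsSaturated 3) (hE : F.IsEssential 3 (sK 1 0)) : Rho F (sK 1 0) sZK (sK 1 0) U.p U.u U.a xc := by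
  have hA := (cp_of_essential pgT hF hE).toAu
  have ZJ : sZK ≤ sJ := fun _ h => ⟨h.1, h.2.1, h.2.2.1⟩
  refine ⟨hF, hE, ZJ.trans JK, le_rfl, fun y hy z hz => ?_, fun y hy z hz => ?_, fun _ _ _ _ => rfl, ⟨xp, by decide⟩,
    ⟨jj 0 0 (-1) 1 0 0, by decide⟩, ⟨xk, by decide⟩,
    fun f hf y hy => ⟨iv_of_fa (iv_ZK hA) hf y (JK (ZJ hy)) hy, fun h1 h2 => ?_⟩,
    fun f hf y hy => ⟨hf.2 y hy, fun h1 => (mor_J hf.1 JK y (by msimp at *; simp [hy, h1])).1⟩,
    fun f hf h1 h2 => ?_, fun y hy => ?_, fun y hy => ?_, fun y hy => ?_,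
    fun u hu => ⟨fun y hy => ?_, fun y hy => ?_⟩, fun s hs => ?_⟩
  · rw [mem_sZK] at hy; usimp; simp [hy]
  · rw [mem_sZK] at hy; usimp; simp [hy]
  · rw [show y = 1 by rw [mem_sZK] at hy; usimp; simp [hy, h1, h2], hf.1.map_one]; exact ⟨rfl, rfl⟩
  · have j := mor_J hf.1 JK
    have ka : ∀ y ∈ sJ, f ⁅xk, y⁆ = ⁅xk, f y⁆ := fun y hy => by
      rw [hf.1.map_commutator kK (JK hy), brkK kK rfl (j y hy), brkK (hf.2 xk kK) (h2 xk kK) (j y hy)]
    have kY : ∀ y ∈ sK1, (f y).q = y.q ∧ (f y).v = y.v := fun y hy => by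
      have jy : y ∈ sJ := ⟨hy.1, hy.2.1, hy.2.2.1⟩
      have m := iv_of_fa (iv_K1 hA) hf y (JK jy) hy
      have e1 := h1 ⁅xk, y⁆ (by rw [brkK kK rfl jy, mem_sZK]; rw [mem_sK1] at hy; simp [jj, hy])
      rw [ka y jy, brkK kK rfl jy, brkK kK rfl (j y jy)] at e1
      simp only [SetLike.mem_coe, mem_sK1] at m hy
      simp only [jj, m, hy] at e1
      exact ⟨by linear_combination -e1.1 - e1.2, by linear_combination -e1.2⟩
    refine inner_of_chain hF hE hf [sZK, sK1, sJ] (by simp [iv_ZK hA, iv_K1 hA, iv_J hA JK]) ?_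
    simp only [List.cons_append, List.nil_append, List.isChain_cons_cons, List.isChain_singleton, and_true]
    refine ⟨fun y h hy => ?_, fun y h hy => ?_, fun y _ hy => ?_, fun y hy _ => ?_⟩
    · have := iv_of_fa (iv_ZK hA) hf y h hy
      have k := h1 y hy
      rw [mem_bot, inv_mul_eq_one]
      simp only [SetLike.mem_coe, mem_sZK] at *; usimp; simp [hy, this, k]
    · have := iv_of_fa (iv_K1 hA) hf y h hy
      have k := kY y hy
      simp only [SetLike.mem_coe, mem_sZK, mem_sK1] at *; usimp; simp [hy, this, k, add_comm]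
    · have := j y hy
      have e1 := kY ⁅xk, y⁆ (by rw [brkK kK rfl hy, mem_sK1]; simp [jj])
      rw [ka y hy, brkK kK rfl hy, brkK kK rfl (j y hy)] at e1
      simp only [jj] at e1
      rw [mem_sK1]
      msimp at *; usimp; simp only [hy, this]
      and_intros <;> first | ring1 | linear_combination e1.2 | linear_combination e1.1 + e1.2
    · have := hf.2 y hy
      have k := h2 y hy
      msimp at *; usimp; simp only [hy, this, k]
      and_intros <;> ring
  · msimp at *; usimp; simp only [hy]; exact ⟨by ring, by ring⟩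
  · rw [mem_sZK] at hy; msimp; usimp; simp only [hy]
    exact ⟨by linear_combination -y.u * three_eq, by ring⟩
  · msimp; usimp; ring
  · rw [cj_eq_self_iff.2 ?_]
    · exact ⟨rfl, rfl⟩
    · simp only [mem_sZK] at hy
      msimp at *; usimp; simp only [hu, hy]
      and_intros <;> first | trivial | ring1 | linear_combination (u.a * u.a * y.u) * three_eq
  · usimp; ring
  · have := (hs xk kK).2
    simp only [xk] at this
    msimp at this; usimp at this
    have e : s.b = s.a := by linear_combination -this + three_eq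
    refine dec (χ := fun s => s.c + s.a * s.a) (fun h => ?_) (fun h => ?_) fun h => ?_ <;> msimp
    · exact ⟨by rw [e, one_mul], by linear_combination h⟩
    · usimp; exact ⟨by rw [e]; ring, by linear_combination h⟩
    · usimp; exact ⟨by rw [e]; ring, by linear_combination h⟩

end CL.C1F
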