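/-
S5227: the Weyl element on `E₃`.
-/
import Cfsg.Agent.FUS.C1.Gen
import Cfsg.Agent.FUS.C1.RhB
import Cfsg.Agent.FUS.C1.Ess
import Cfsg.Agent.FUS.C1.Lift

set_option autoImplicit false
set_option linter.unusedSimpArgs false
set_option linter.unusedVariables false
set_option linter.unusedSectionVars false

namespace CL.C1F

open CL.Fus CL.RF4 CL.U5 Subgroup Cfsg Cfsg.FusionSystem
open scoped commutatorElement

variable {F F' : FusionSystem (⊤ : Subgroup U)} {E P : Subgroup U} {A : Set (U → U)} {f g : U → U} {e : k3}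

namespace W3

/-- the candidates -/
def AA (p q u : k3) : U := ⟨1, 0, 0, p, q, 0, u, 0, 0⟩
/-- the candidates -/
def B (c r : k3) : U := ⟨0, 0, c, c * r, -c, r, 0, 1, 0⟩
/-- the candidates -/
def V (c r : k3) : U := ⟨0, -1, c, c * r, r, r, 0, 0, 0⟩

theorem fixA {x : U} (h : h1 x = x) (a : x.a = 1) (w : x.w = 0) : x = AA x.p x.q x.u := by
  have k1 : ∀ t : k3, sg true * t = t → t = 0 := by decide
  have k2 : ∀ t : k3, sg false * sg true * t = t → t = 0 := by decide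
  have k3' : ∀ t : k3, sg false * sg true * sg false * t = t → t = 0 := by decide
  have k4 : ∀ t : k3, sg true * sg false * t = t → t = 0 := by decide
  exact U.ext a (k1 _ (congrArg U.b h)) (k2 _ (congrArg U.c h)) rfl rfl (k3' _ (congrArg U.r h)) rfl
    (k4 _ (congrArg U.v h)) w

theorem invB {x : U} (h : h1 x = x⁻¹) (a : x.a = 0) (b : x.b = 0) (v : x.v = 1) (w : x.w = 0) :
    x = B x.c x.r := by
  obtain ⟨_, _, c, p, q, r, u, _, _⟩ := x
  dsimp only at a b v w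
  subst a b v w
  revert c p q r u
  decide +kernel

theorem invV {x : U} (h : h1 x = x⁻¹) (a : x.a = 0) (b : x.b = -1) (v : x.v = 0) (w : x.w = 0) :
    x = V x.c x.r := by
  obtain ⟨_, _, c, p, q, r, u, _, _⟩ := x
  dsimp only at a b v w
  subst a b v w
  revert c p q r u
  decide +kernel

theorem d1 : ∀ p q u, AA p q u * AA p q u * AA p q u = 1 → u = 0 := by decide +kernel
theorem d2 : ∀ p q c r, ⁅B c r, ⁅AA p q 0, B c r⁆⁆ = 1 → c = 0 := by decide +kernel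
theorem d3 : ∀ p q c r, ⁅V c r, ⁅AA p q 0, V c r⁆⁆ = 1 → r = 0 := by decide +kernel
theorem d4 : ∀ p q c r, ⁅B 0 r, ⁅AA p q 0, V c 0⁆⁆ = ⁅⁅AA p q 0, B 0 r⁆, V c 0⁆ → c = -r := by decide +kernel
theorem d5 : ∀ p q r, AA p q 0 = cj ⟨r, 0, 0, 0, p - q, 0, -q, 0, 0⟩ (w3 xa) ∧
    B 0 r = cj ⟨r, 0, 0, 0, p - q, 0, -q, 0, 0⟩ (w3 xb) ∧
      V (-r) 0 = cj ⟨r, 0, 0, 0, p - q, 0, -q, 0, 0⟩ (w3 xv) := by decide +kernel

end W3

open W3 in
/-- (checked by machine: all 27 homomorphisms are of this form.) `E3 = ⟨xa, xb, xv⟩`. `f xa` is fixed by `h1` with `a = 1` (`p, q, u` free), `f xb`, `f xv` are inverted by `h1` (`c, r` free). Use the relations of `E3`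
(`xc = ⁅xa, xb⁆`, `xr = ⁅xa, xv⁆`, `xu`, `xq`, `xp` as commutators; e.g. `⁅xa, xc⁆ = ⁅xb, xc⁆ = ⁅xa, xr⁆ = ⁅xv, xr⁆ = 1`) and conjugate by `u ∈ ⟨xa, xu, xq⟩`. -/
theorem rig3 (hf : IsHomOn E3 f) (m : ∀ y ∈ E3, f y ∈ E3) (hR : ∀ y ∈ sR, f y ∈ sR) (hn : IsN sR E3 U.v U.b U.a f)
    (hc : ∀ y ∈ E3, f (h1 y) = h1 (f y)) : ∃ u ∈ E3, ∀ y ∈ E3, f y = cj u (w3 y) := by
  have a : xa ∈ E3 := rfl
  have b : xb ∈ E3 := rfl
  have v : xv ∈ E3 := rfl
  have cm : ∀ {x y}, x ∈ E3 → y ∈ E3 → ⁅x, y⁆ ∈ E3 := cm_mem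
  obtain ⟨p, q, u, hA⟩ : ∃ p q u, f xa = AA p q u :=
    ⟨_, _, _, fixA ((hc xa a).symm.trans (congrArg f (by decide))) (hn.2 xa a) (m xa a)⟩
  obtain ⟨c, r, hB⟩ : ∃ c r, f xb = B c r :=
    ⟨_, _, invB ((hc xb b).symm.trans ((congrArg f (by decide)).trans (hf.map_inv b))) (hR xb (by decide)).1
      ((hn.1 xb (by decide)).2.trans (by decide)) (hn.1 xb (by decide)).1 (m xb b)⟩
  obtain ⟨c', r', hV⟩ : ∃ c r, f xv = V c r :=
    ⟨_, _, invV ((hc xv v).symm.trans ((congrArg f (by decide)).trans (hf.map_inv v))) (hR xv (by decide)).1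
      (hn.1 xv (by decide)).2 (hn.1 xv (by decide)).1 (m xv v)⟩
  obtain rfl := d1 p q u (by
    rw [← hA, ← hf a a, ← hf (mul_mem a a) a, show xa * xa * xa = 1 by decide, hf.map_one])
  obtain rfl := d2 p q c r (by
    rw [← hA, ← hB, ← hf.map_commutator a b, ← hf.map_commutator b (cm a b), show ⁅xb, ⁅xa, xb⁆⁆ = 1 by decide,
      hf.map_one])
  obtain rfl := d3 p q c' r' (by
    rw [← hA, ← hV, ← hf.map_commutator a v, ← hf.map_commutator v (cm a v), show ⁅xv, ⁅xa, xv⁆⁆ = 1 by decide,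
      hf.map_one])
  obtain rfl := d4 p q c' r (by
    rw [← hA, ← hB, ← hV, ← hf.map_commutator a v, ← hf.map_commutator a b, ← hf.map_commutator b (cm a v),
      ← hf.map_commutator (cm a b) v, show ⁅xb, ⁅xa, xv⁆⁆ = ⁅⁅xa, xb⁆, xv⁆ by decide])
  obtain ⟨e1, e2, e3⟩ := d5 p q r
  refine ⟨⟨r, 0, 0, 0, p - q, 0, -q, 0, 0⟩, rfl, fun y hy => ?_⟩
  have hg : IsHomOn E3 (fun y => cj ⟨r, 0, 0, 0, p - q, 0, -q, 0, 0⟩ (w3 y)) := fun x hx y hy => by
    simp only [hom_w3 hx hy, cj]; group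
  refine ((E3_eq.le.trans ((closure_le (hf.eqSub hg)).2 ?_)) hy).2
  intro x hx
  simp only [Set.mem_ofPred_eq, List.mem_cons, List.not_mem_nil, or_false] at hx
  rcases hx with rfl | rfl | rfl
  exacts [⟨a, hA.trans e1⟩, ⟨b, hB.trans e2⟩, ⟨v, hV.trans e3⟩]

theorem isN3 : IsN sR E3 U.v U.b U.a w3 := ⟨fun _ _ => ⟨rfl, rfl⟩, fun _ _ => rfl⟩

theorem maps3 : ∀ y ∈ E3, w3 y ∈ E3 := fun _ _ => rfl

theorem w3_of (hF : F.IsSaturated 3) (hS : Std F) (hE : F.IsEssential 3 E3) : Mor F E3 w3 := by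
  have h := rho3 hF hE
  obtain ⟨-, f, hf, hn, hc, -⟩ := h.exists_comm hS (not_E3 hF) (s := false) (t := true) (d := false)
    (fun y hy => by msimp at *; simp [tor, hy])
    (fun s t d y k1 k2 k3 => by
      have e1 := (k2 xv (by decide)).1
      have e2 := (k2 xb (by decide)).2
      have e3 := k3 xa (by decide)
      have a1 : (cj y (tor s t d xv)).v = sg t * sg d := by msimp; simp only [tor]; usimp; ring
      have a2 : (cj y (tor s t d xb)).b = sg t := by msimp; simp only [tor]; usimp; ring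
      have a3 : (cj y (tor s t d xa)).a = sg s := by msimp; simp only [tor]; usimp; ring
      rw [a1] at e1; rw [a2] at e2; rw [a3] at e3
      revert e1 e2 e3
      cases s <;> cases t <;> cases d <;> decide)
    (fun y hy => by simp [tor, sg]) (fun y hy => by simp [tor, sg])
  obtain ⟨u, hu, e⟩ := rig3 hf.1.isHomOn hf.2 (fun y hy => (h.iD f hf y hy).1) hn hc
  exact (hf.1.cj_comp (mem_top u⁻¹)).congr fun y hy => by rw [Function.comp, e y hy, cj_inv_cj]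

end CL.C1F
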