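/-
S5227: the Weyl element on `J ⟨k⟩`.
-/
import Cfsg.Agent.FUS.C1.Gen
import Cfsg.Agent.FUS.C1.RhB
import Cfsg.Agent.FUS.C1.Ess

set_option autoImplicit false
set_option linter.unusedSimpArgs false
set_option linter.unusedVariables false
set_option linter.unusedSectionVars false

namespace CL.C1F

open CL.Fus CL.RF4 CL.U5 Subgroup Cfsg Cfsg.FusionSystem
open scoped commutatorElement

variable {F F' : FusionSystem (⊤ : Subgroup U)} {E P : Subgroup U} {A : Set (U → U)} {f g : U → U} {e : k3}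

namespace W4

/-- coordinates of `J` for the basis `g₁, N g₁, N² g₁, g₂, N g₂, N² g₂` -/
abbrev V := k3 × k3 × k3 × k3 × k3 × k3

/-- the element with given coordinates -/
def ee (x : V) : U := jj (2 * x.2.1 + x.2.2.1) (2 * x.2.1 + 2 * x.2.2.2.2.1) (x.2.2.2.2.1 + 2 * x.2.2.2.2.2)
  (2 * x.1 + x.2.2.2.1 + 2 * x.2.2.2.2.1 + x.2.2.2.2.2) (2 * x.2.2.2.2.1) (2 * x.2.2.2.1)
/-- the coordinates -/
def co (y : U) : V := (-(y.u + y.r + y.w), y.v - y.q, y.p - y.q + y.v, -y.w, -y.v, -(y.r + y.v))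
/-- the action of `xk ^ i` -/
def kP (i : k3) (x : V) : V := (x.1, x.2.1 + i * x.1, x.2.2.1 + i * x.2.1 + (i - i * i) * x.1,
  x.2.2.2.1, x.2.2.2.2.1 + i * x.2.2.2.1, x.2.2.2.2.2 + i * x.2.2.2.2.1 + (i - i * i) * x.2.2.2.1)
/-- the action of `xc` -/
def cV (x : V) : V := (x.1 + x.2.2.2.1, x.2.1 + x.2.2.2.2.1, x.2.2.1 + x.2.2.2.2.2 + 2 * x.2.2.2.1,
  x.2.2.2.1, x.2.2.2.2.1, x.2.2.2.2.2 + x.2.2.2.1)
/-- the module endomorphism with `g₁ ↦ A`, `g₂ ↦ B` -/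
def fV (A B x : V) : V := (x.1 * A.1 + x.2.2.2.1 * B.1,
  x.1 * A.2.1 + x.2.1 * A.1 + x.2.2.2.1 * B.2.1 + x.2.2.2.2.1 * B.1,
  x.1 * A.2.2.1 + x.2.1 * A.2.1 + x.2.2.1 * A.1 + x.2.2.2.1 * B.2.2.1 + x.2.2.2.2.1 * B.2.1 + x.2.2.2.2.2 * B.1,
  x.1 * A.2.2.2.1 + x.2.2.2.1 * B.2.2.2.1,
  x.1 * A.2.2.2.2.1 + x.2.1 * A.2.2.2.1 + x.2.2.2.1 * B.2.2.2.2.1 + x.2.2.2.2.1 * B.2.2.2.1,
  x.1 * A.2.2.2.2.2 + x.2.1 * A.2.2.2.2.1 + x.2.2.1 * A.2.2.2.1 + x.2.2.2.1 * B.2.2.2.2.2 +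
    x.2.2.2.2.1 * B.2.2.2.2.1 + x.2.2.2.2.2 * B.2.2.2.1)
/-- `g₁` -/
def e1 : V := (1, 0, 0, 0, 0, 0)
/-- `g₂` -/
def e4 : V := (0, 0, 0, 1, 0, 0)

theorem r2 {a1 a2 c1 c2 b1 b2 d1 d2 i : k3}
    (h1 : fV (0, a1, a2, 2, c1, c2) (1, b1, b2, 0, d1, d2) (0, a1, a2, 2, c1, c2) = kP i (-e1)) :
    d1 = -a1 ∧ d2 = -a2 ∧ b1 = c1 + i ∧ b2 = c2 + c1 * (c1 + i) + a1 * a1 + i - i * i := by
  simp only [fV, kP, e1, Prod.neg_mk, Prod.mk.injEq] at h1
  grind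

set_option synthInstance.maxSize 2000 in
theorem r3 : ∀ a1 c1 i a2 c2 j : k3, ∀ A B : V, A = (0, a1, a2, 2, c1, c2) →
    B = (1, c1 + i, c2 + c1 * (c1 + i) + a1 * a1 + i - i * i, 0, -a1, -a2) →
    fV A B (cV (fV A B (cV (fV A B (cV e1))))) = kP j e1 → fV A B (cV (fV A B (cV (fV A B (cV e4))))) = kP j e4 →
    ∃ i e g, A = kP i (co (m4 e g (ee e1))) ∧ B = kP i (co (m4 e g (ee e4))) := by
  rintro a1 c1 i a2 c2 j _ _ rfl rfl
  revert a1 c1 i a2 c2 j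
  decide +kernel

theorem eeJ (x : V) : ee x ∈ sJ := ⟨rfl, rfl, rfl⟩

theorem JK : sJ ≤ sK 1 0 := fun y h => by msimp at *; simp [h]

theorem ee_co {y : U} (h : y ∈ sJ) : ee (co y) = y := by
  msimp at h; simp only [ee, co, jj, U.ext_iff, h]; and_intros <;> first | trivial | grind

theorem co_ee (x : V) : co (ee x) = x := by
  simp only [ee, co, jj, Prod.ext_iff]; and_intros <;> grind

theorem ee_add (x y : V) : ee (x + y) = ee x * ee y := by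
  simp only [ee, jj, Prod.fst_add, Prod.snd_add]; usimp; and_intros <;> first | trivial | ring

theorem cj_ee {u : U} (h : u ∈ sK 1 0) (x : V) : cj u (ee x) = ee (kP u.a x) := by
  have := k3_cube u.a
  msimp at h; simp only [ee, kP, jj]; usimp; simp only [h]; and_intros <;> grind

theorem xc_ee (x : V) : cj xc (ee x) = ee (cV x) := by
  simp only [ee, cV, jj, xc, tt]; usimp; and_intros <;> grind

theorem dl_ee (x : V) : dl (ee x) = ee (-x) := by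
  simp only [ee, jj, tor, sg, Prod.fst_neg, Prod.snd_neg, U.ext_iff]; simp; and_intros <;> ring

theorem kK : xk ∈ sK 1 0 := by decide

theorem on_J (hf : IsHomOn (sK 1 0) f) (m : ∀ y ∈ sJ, f y ∈ sJ) (hk : f xk = xk) (x : V) :
    f (ee x) = ee (fV (co (f (ee e1))) (co (f (ee e4))) x) := by
  let φ : V →+ V := AddMonoidHom.mk' (fun x => co (f (ee x))) fun x y => by
    rw [ee_add, hf (JK (eeJ x)) (JK (eeJ y)), ← ee_co (m _ (eeJ x)), ← ee_co (m _ (eeJ y)), ← ee_add, co_ee,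
      co_ee, co_ee]
  have k : ∀ x, φ (kP 1 x - x) = kP 1 (φ x) - φ x := fun x => by
    rw [map_sub]
    congr 1
    change co (f (ee (kP xk.a x))) = kP xk.a (co (f (ee x)))
    rw [← cj_ee kK, hf.map_cj kK (JK (eeJ x)), hk, ← ee_co (m _ (eeJ x)), cj_ee kK, co_ee, co_ee]
  have e : x = x.1 • e1 + x.2.1 • (kP 1 e1 - e1) + x.2.2.1 • (kP 1 (kP 1 e1 - e1) - (kP 1 e1 - e1)) +
      x.2.2.2.1 • e4 + x.2.2.2.2.1 • (kP 1 e4 - e4) + x.2.2.2.2.2 • (kP 1 (kP 1 e4 - e4) - (kP 1 e4 - e4)) := by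
    simp [kP, e1, e4]
  have := congrArg φ e
  simp only [map_add, ZMod.map_smul, k] at this
  rw [← ee_co (m _ (eeJ x))]
  refine congrArg ee (this.trans ?_)
  change _ = fV (φ e1) (φ e4) x
  generalize φ e1 = A, φ e4 = B
  simp only [kP, fV, Prod.ext_iff, Prod.fst_add, Prod.snd_add, Prod.smul_fst, Prod.smul_snd, Prod.fst_sub,
    Prod.snd_sub, smul_eq_mul]
  and_intros <;> ring

theorem eq_on_K (hf : IsHomOn (sK 1 0) f) (hg : IsHomOn (sK 1 0) g) (hJ : ∀ y ∈ sJ, f y = g y) (hk : f xk = g xk)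
    (y : U) (hy : y ∈ sK 1 0) : f y = g y := by
  have st : ∀ z ∈ sK 1 0, f (z * xk⁻¹) = g (z * xk⁻¹) → f z = g z := fun z hz e => by
    have h' := mul_mem hz (inv_mem kK)
    rw [← inv_mul_cancel_right z xk, hf h' kK, hg h' kK, e, hk]
  have j0 : ∀ z ∈ sK 1 0, z.a = 0 → f z = g z := fun z hz e => hJ z (by msimp at *; simp [hz, e])
  rcases k3_cases y.a with e | e | e
  · exact j0 y hy e
  · exact st y hy (j0 _ (mul_mem hy (inv_mem kK)) (by rw [U.mul_a, e]; decide))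
  · exact st y hy (st _ (mul_mem hy (inv_mem kK)) (j0 _ (mul_mem (mul_mem hy (inv_mem kK)) (inv_mem kK))
      (by rw [U.mul_a, U.mul_a, e]; decide)))

theorem homg (g : k3) {x : U} (hx : x ∈ sK 1 0) (y : U) : m4g g (x * y) = m4g g x * m4g g y := by
  have := k3_cube x.a
  msimp at hx; simp only [m4g]; usimp; simp only [hx]; clear hx; and_intros <;> first | trivial | grind

theorem hom (e g : k3) : IsHomOn (sK 1 0) (m4 e g) := fun x hx y _ => by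
  unfold m4
  rw [tau_mul, homg g (show tau (-e) x ∈ sK 1 0 from hx), tau_mul]

theorem eq_k {z : U} (a : z.a = 1) (b : z ∈ sK 1 0) (c : z = dl z) : z = xk := by
  have n : ∀ x : k3, x = -x → x = 0 := by decide
  msimp at *
  simp only [tor, sg, U.ext_iff] at c ⊢
  simp only [a] at b
  simp only [Bool.false_eq_true, if_false, if_true, one_mul, neg_mul, mul_neg] at c
  exact ⟨a, b.1.trans (by decide), b.2.trans (by decide), n _ c.2.2.2.1, n _ c.2.2.2.2.1, n _ c.2.2.2.2.2.1,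
    n _ c.2.2.2.2.2.2.1, n _ c.2.2.2.2.2.2.2.1, n _ c.2.2.2.2.2.2.2.2⟩

end W4

open W4


/-- (checked by machine: `3 ^ 8` candidates, 243 satisfy the first relation, 27 both: `cj (xk ^ i) ∘ m4 e g`.) `f xk` is fixed by `dl`, so `f xk = xk`. `J` is a free module over `F₃[N] / N³`, `N y = ⁅xk, y⁆`, on `g₁ = jj 0 0 0 2 0 0`, `g₂ = jj 0 0 0 1 0 2`
(`N² g₁ = xp`, `N² g₂ = jj 0 0 2 1 0 0`), and `f` commutes with `N`; so `f` on `J` is given by `f g₁ = (0, t₀, t₁; 2, t₂, t₃)`, `f g₂ = (1, t₄, t₅; 0, t₆, t₇)`. On `J` the relations read `f² = -k^i`, `(f c)³ = k^j` in `GL₂(F₃[N] / N³)`; `decide` in stages. -/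
theorem rig4 (hf : IsHomOn (sK 1 0) f) (m : ∀ y ∈ sK 1 0, f y ∈ sK 1 0) (hZ : ∀ y ∈ sZK, f y ∈ sZK) (hn : IsN sZK (sK 1 0) U.p U.u U.a f)
    (hc : ∀ y ∈ sK 1 0, f (dl y) = dl (f y)) (h2 : ∃ u ∈ sK 1 0, ∀ y ∈ sK 1 0, f (f y) = cj u (dl y))
    (h3 : ∃ u ∈ sK 1 0, ∀ y ∈ sK 1 0, f (cj xc (f (cj xc (f (cj xc y))))) = cj u y) :
    ∃ u ∈ sK 1 0, ∃ e g, ∀ y ∈ sK 1 0, f y = cj u (m4 e g y) := by
  have mJ : ∀ y ∈ sJ, f y ∈ sJ := fun y hy => by
    have a := (hn.2 y (JK hy)).trans hy.1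
    have b := m y (JK hy)
    msimp at *; simp [a, b]
  have hk : f xk = xk := eq_k (hn.2 xk kK) (m xk kK) (hc xk kK)
  have F := on_J hf mJ hk
  have n1 := hn.1 xp (by decide)
  have n2 := hn.1 (jj 0 0 2 1 0 0) (by decide)
  rw [show xp = ee (0, 0, 1, 0, 0, 0) by decide, F] at n1
  rw [show jj 0 0 2 1 0 0 = ee (0, 0, 0, 0, 0, 1) by decide, F] at n2
  have inj : ∀ {x y}, ee x = ee y → x = y := fun {x y} h => by rw [← co_ee y, ← h, co_ee]
  obtain ⟨u, hu, h2⟩ := h2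
  obtain ⟨u', hu', h3⟩ := h3
  have a2 := h2 _ (JK (eeJ e1))
  have a3 := h3 _ (JK (eeJ e1))
  have b3 := h3 _ (JK (eeJ e4))
  rw [F e1, F, dl_ee, cj_ee hu] at a2
  simp only [xc_ee, F (cV _), cj_ee hu'] at a3 b3
  have FA : fV (co (f (ee e1))) (co (f (ee e4))) e1 = co (f (ee e1)) := by simp [fV, e1]
  rw [FA] at a2
  generalize hA : co (f (ee e1)) = A at *
  generalize hB : co (f (ee e4)) = B at *
  obtain ⟨a0, a1, a2', c0, c1, c2⟩ := A
  obtain ⟨b0, b1, b2, d0, d1, d2⟩ := B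
  obtain ⟨rfl, rfl⟩ : a0 = 0 ∧ c0 = 2 := by
    simp [ee, jj, fV] at n1
    exact ⟨n1.1, n1.2.trans (by decide)⟩
  obtain ⟨rfl, rfl⟩ : b0 = 1 ∧ d0 = 0 := by simpa [ee, jj, fV] using n2
  obtain ⟨rfl, rfl, rfl, rfl⟩ := r2 (inj a2)
  obtain ⟨i, e, g, hA', hB'⟩ := r3 _ _ _ _ _ _ _ _ rfl rfl (inj a3) (inj b3)
  have hi : tt i i (-(i * i)) ∈ sK 1 0 := by msimp; simp
  have mJ' : ∀ y ∈ sJ, cj (tt i i (-(i * i))) (m4 e g y) ∈ sJ := fun y hy =>
    (inferInstance : sJ.Normal).conj_mem _ (show m4 e g y ∈ sJ from hy) _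
  have hg : IsHomOn (sK 1 0) fun y => cj (tt i i (-(i * i))) (m4 e g y) := fun x hx y hy => by
    simp only [hom e g hx hy]; exact isHomOn_cj ⊤ _ trivial trivial
  have hk' : cj (tt i i (-(i * i))) (m4 e g xk) = xk :=
    (by decide : ∀ i e g : k3, cj (tt i i (-(i * i))) (m4 e g xk) = xk) i e g
  refine ⟨_, hi, e, g, eq_on_K hf hg (fun y hy => ?_) (hk.trans hk'.symm)⟩
  have c : ∀ x, co (cj (tt i i (-(i * i))) (m4 e g (ee x))) = kP i (co (m4 e g (ee x))) := fun x => by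
    rw [← ee_co (show m4 e g (ee x) ∈ sJ from eeJ x), cj_ee hi, co_ee, co_ee]; rfl
  rw [← ee_co hy, F, on_J hg mJ' hk', c, c, ← hA', ← hB']

theorem isN4 (e g : k3) : IsN sZK (sK 1 0) U.p U.u U.a (m4 e g) := by
  refine ⟨fun y hy => ?_, fun _ _ => rfl⟩
  rw [mem_sZK] at hy
  simp [m4, m4g, tau, hy]

theorem maps4 (e g : k3) : ∀ y ∈ sK 1 0, m4 e g y ∈ sK 1 0 := fun _ h => h

theorem hom_m4 (e g : k3) : IsHomOn (sK 1 0) (m4 e g) := by
  exact W4.hom e g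

theorem w4_of (hF : F.IsSaturated 3) (hS : Std F) (hE : F.IsEssential 3 (sK 1 0)) : ∃ e g, Mor F (sK 1 0) (m4 e g) := by
  have R := rho4 hF hE
  obtain ⟨-, f, hf, hn, hc, h2, h3⟩ := R.exists_comm hS (not_K hF) (s := false) (t := false) (d := true)
    (fun y hy => by msimp at *; simpa [tor, sg] using hy) (fun s t d y a b c => by
      have a1 := (a xk kK).1
      have b1 := (b xp (by decide)).1
      have c1 := c xk kK
      simp only [tor, xk, xp, tt, jj] at a1 b1 c1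
      usimp at a1 b1 c1
      ring_nf at a1 b1 c1
      revert a1 b1 c1
      cases s <;> cases t <;> cases d <;> decide)
    (fun z _ => by simp [tor, sg]) fun z _ => by simp [tor, sg]
  obtain ⟨u, -, e, g, h⟩ := rig4 hf.1.isHomOn hf.2 (fun y hy => (R.iD f hf y hy).1) hn hc h2 h3
  exact ⟨e, g, (hf.1.cj_comp (s := u⁻¹) trivial).congr fun y hy => by
    rw [Function.comp_apply, h y hy, cj_inv_cj]⟩

end CL.C1F
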