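/-
S5227: words in `Aut_F(J)`.
-/
import Cfsg.Agent.FUS.C1.Jch
import Cfsg.Agent.FUS.C1.J1
import Cfsg.Agent.Eqns.CL_C1F_ev

set_option autoImplicit false
set_option linter.unusedSimpArgs false
set_option linter.unusedVariables false
set_option linter.unusedSectionVars false

namespace CL.C1F

open CL.Fus CL.RF4 CL.U5 Subgroup Cfsg Cfsg.FusionSystem
open scoped commutatorElement

variable {F F' : FusionSystem (⊤ : Subgroup U)} {E P : Subgroup U} {A : Set (U → U)} {f g : U → U} {e : k3}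

namespace WdA

theorem mor_it (hf : Mor F sJ f) (n : ℕ) : Mor F sJ f^[n] := by
  induction n with
  | zero => exact mor_id F le_top
  | succ n ih => rw [Function.iterate_succ']; exact hf.comp ih (mor_J ih le_rfl)

theorem nine (hF : F.IsSaturated 3) {G : List (U → U)} (h : ∀ g ∈ G, Mor F sJ g) (l : List ℕ)
    (h9 : ∀ y ∈ [xp, xq, xr, xu, xv, xw], (ev G l)^[9] y = y) : ∀ y ∈ [xp, xq, xr, xu, xv, xw], (ev G l)^[3] y = y := fun y hy =>
  no9 hF (mor_ev h l) (eq_on_J (g := id) (mor_it (mor_ev h l) 9).isHomOn (fun _ _ _ _ => rfl) h9) y (by revert y; decide)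

theorem of_word {G : List (U → U)} (h : ∀ g ∈ G, Mor F sJ g) (l : List ℕ) (hf : IsHomOn sJ f)
    (e : ∀ y ∈ [xp, xq, xr, xu, xv, xw], ev G l y = f y) : Mor F sJ f :=
  (mor_ev h l).congr (eq_on_J (mor_ev h l).isHomOn hf e)

theorem g3 (h : Mor F sJ f) : ∀ g ∈ [cj xa, cj xb, f], Mor F sJ g := by
  simp only [List.mem_cons, List.not_mem_nil, or_false, forall_eq_or_imp, forall_eq]
  exact ⟨mor_cj' F _ _, mor_cj' F _ _, h⟩

theorem g4 (h : Mor F sJ f) (h' : Mor F sJ g) : ∀ k ∈ [cj xa, cj xb, f, g], Mor F sJ k := by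
  simp only [List.mem_cons, List.not_mem_nil, or_false, forall_eq_or_imp, forall_eq]
  exact ⟨mor_cj' F _ _, mor_cj' F _ _, h, h'⟩

theorem g5 {k : U → U} (h : Mor F sJ f) (h' : Mor F sJ g) (h'' : Mor F sJ k) : ∀ l ∈ [cj xa, cj xb, f, g, k], Mor F sJ l := by
  simp only [List.mem_cons, List.not_mem_nil, or_false, forall_eq_or_imp, forall_eq]
  exact ⟨mor_cj' F _ _, mor_cj' F _ _, h, h', h''⟩

theorem hom_m4J (e g : k3) : IsHomOn sJ (m4 e g) := fun x hx y hy => by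
  msimp at *; simp only [m4, m4g, tau]; usimp; simp only [hx, hy]; and_intros <;> first | trivial | ring

/-- `cj xa` on `J` -/
def la (x : U) : U := jj (x.p + 2 * x.q + x.u) (x.q + x.u) (x.r + x.v) x.u x.v x.w
/-- `cj xb` on `J` -/
def lb (x : U) : U := jj x.p (x.q + x.r) x.r (x.u + 2 * x.v + x.w) (x.v + x.w) x.w

theorem ev_eq (e : k3) (l : List ℕ) {y : U} (hy : y ∈ sJ) : ev [cj xa, cj xb, w1 0, w2 e] l y ∈ sJ ∧
    ev [cj xa, cj xb, w1 0, w2 e] l y = ev [la, lb, w1 0, w2 e] l y := by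
  induction l with
  | nil => exact ⟨hy, rfl⟩
  | cons n l ih =>
    obtain ⟨h, ih⟩ := ih
    simp only [ev]
    rw [← ih]
    generalize ev [cj xa, cj xb, w1 0, w2 e] l y = z at h
    rcases n with _ | _ | _ | _ | n
    · refine ⟨Normal.conj_mem inferInstance z h xa, ?_⟩
      change cj xa z = la z
      simp only [la]; msimp at *; usimp; simp only [h]; and_intros <;> ring
    · refine ⟨Normal.conj_mem inferInstance z h xb, ?_⟩
      change cj xb z = lb z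
      simp only [lb]; msimp at *; usimp; simp only [h]; and_intros <;> ring
    · refine ⟨?_, rfl⟩
      change w1 0 z ∈ sJ
      msimp at *; simp [w1, h]
    · refine ⟨?_, rfl⟩
      change w2 e z ∈ sJ
      msimp at *; simp [w2, h]
    · exact ⟨h, rfl⟩

/-- fixed by an element outside `J` -/
def nf (y : U) : Bool := (y.v == 0 && y.w == 0) || (y.w != 0 && (y.u * y.w == y.v * y.v && y.q * y.w == y.r * y.v))

theorem nf_spec : ∀ p q r u v w : k3, nf (jj p q r u v w) = true →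
    ∃ a b c, tt a b c ∉ sJ ∧ tt a b c * jj p q r u v w = jj p q r u v w * tt a b c := by decide +kernel

theorem cov0 : ∀ p q r u v w : k3, ([[], [2], [2,0], [2,0,0], [3], [3,1], [3,1,1], [2,3], [3,2], [2,0,3], [3,1,2], [2,3,2], [2,0,0,3], [3,1,1,2],
    [2,0,3,2], [2,3,2,0], [2,3,2,1], [3,1,2,3], [2,3,1], [2,0,3,1], [3,2,0,1], [2,0,3,1,2], [2,0,3,2,0], [2,3,2,1,0], [3,2,0], [2,0,0,3,1],
    [2,3,1,2,1], [2,3,1,2,1,0]] : List (List ℕ)).any (fun l => nf (ev [la, lb, w1 0, w2 0] l (jj p q r u v w))) = true := by decide +kernel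

theorem cov2 : ∀ p q r u v w : k3, ([[], [2,3,2,3], [2,3,2,0,3,1], [3,2,0,3,2,0], [2,3,2,0,3,0], [2,3,2,3,0,1], [2,0,0], [2,0,3,2,0,0],
    [3,2,3,0,2,1], [3,2,3,2,0,0], [3,1,1,2], [2,0,3,2], [2,3,2,3,1,3], [3,2,0,0], [3,1,2,0,2]] : List (List ℕ)).any
      (fun l => nf (ev [la, lb, w1 0, w2 2] l (jj p q r u v w))) = true := by decide +kernel

theorem eq_jj {y : U} (hy : y ∈ sJ) : y = jj y.p y.q y.r y.u y.v y.w := U.ext hy.1 hy.2.1 hy.2.2 rfl rfl rfl rfl rfl rfl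

end WdA

open WdA

/-- `no9` for `ev [cj xa, cj xb, w1 0, w2 1] [0, 0, 1, 3, 1, 2, 3, 2]` (`mor_ev`, `eq_on_J` for the ninth power, `decide`) -/
theorem not_one (hF : F.IsSaturated 3) (h1 : Mor F sJ (w1 0)) (h2 : Mor F sJ (w2 1)) : False := by
  exact absurd (nine hF (g4 h1 h2) [0, 0, 1, 3, 1, 2, 3, 2] (by decide +kernel)) (by decide +kernel)

/-- `ev [cj xa, cj xb, w1 0, w2 2] [0, 2, 3, 2, 1, 3, 2, 3, 0, 2, 3, 2, 1, 3, 2, 3] = dl` on `J`; `ext_J` with `P = ⊤`; `Std`: the extension is `cj y ∘ tor s t d` and inverts `xp`, so `d = true`. -/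
theorem dl_of (hF : F.IsSaturated 3) (hS : Std F) (t1 : Mor F ⊤ h1) (t2 : Mor F ⊤ h2) (m1 : Mor F sJ (w1 0)) (m2 : Mor F sJ (w2 2)) :
    Mor F ⊤ dl := by
  have h := of_word (g4 m1 m2) [0, 2, 3, 2, 1, 3, 2, 3, 0, 2, 3, 2, 1, 3, 2, 3] (f := dl) (fun x _ y _ => tor_mul _ _ _ x y) (by decide +kernel)
  obtain ⟨g, hg, e⟩ := ext_J hF h (P := ⊤) le_top fun s _ => ⟨dl s, fun y _ => by
    simp only [cj, tor_mul]
    congr 1
    exact eq_inv_of_mul_eq_one_left (by rw [← tor_mul, inv_mul_cancel]; decide)⟩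
  obtain ⟨y, s, t, d, ht, e'⟩ := hS g hg
  have k : (cj y (tor s t d xp)).p = -1 := by rw [← e', e (show xp ∈ sJ by decide)]; decide
  have k' : (cj y (tor s t d xp)).p = sg d := by simp only [tor]; msimp; usimp; ring
  obtain rfl : d = true := by
    cases d
    · exact absurd (k'.symm.trans k) (by decide)
    · rfl
  have c : ∀ {s t d s' t' d'}, Mor F ⊤ (tor s t d) → Mor F ⊤ (tor s' t' d') → Mor F ⊤ (tor (xor s s') (xor t t') (xor d d')) :=
    fun h h' => (h.comp h' fun _ _ => trivial).congr fun x _ => tor_tor ..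
  cases s <;> cases t
  exacts [ht, c ht t1, c ht t2, c (c ht t1) t2]

/-- order nine in `[cj xa, cj xb, m4 e g]`: `g = 1`: `[0, 0, 1, 2, 0, 0, 2, 1, 2]`, `g = 2`: `[0, 0, 1, 2, 0, 0, 2, 0, 2]` -/
theorem m4_zero (hF : F.IsSaturated 3) {g : k3} (h : Mor F sJ (m4 e g)) : g = 0 := by
  rcases k3_cases g with rfl | rfl | rfl
  · rfl
  · exact absurd (nine hF (g3 h) [0, 0, 1, 2, 0, 0, 2, 1, 2] (by clear h; revert e; decide +kernel)) (by clear h; revert e; decide +kernel)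
  · exact absurd (nine hF (g3 h) [0, 0, 1, 2, 0, 0, 2, 0, 2] (by clear h; revert e; decide +kernel)) (by clear h; revert e; decide +kernel)

/-- in `[cj xa, cj xb, m4 e 0]`: `[1, 2, 0, 2, 0, 2, 1, 2, 0, 2, 0, 2, 1, 2, 2]` and `[2, 0, 2, 0, 2, 0, 2, 0, 1, 2, 1, 2, 0, 2, 0, 1, 2]` -/
theorem m4_w (h : Mor F sJ (m4 e 0)) : Mor F sJ (w1 (e + 2)) ∧ Mor F sJ (w2 (e + 1)) := by
  exact ⟨of_word (g3 h) [1, 2, 0, 2, 0, 2, 1, 2, 0, 2, 0, 2, 1, 2, 2] (fun x hx y hy => hom_w1 _ hx.1 hy.1) (by clear h; revert e; decide +kernel),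
    of_word (g3 h) [2, 0, 2, 0, 2, 0, 2, 0, 1, 2, 1, 2, 0, 2, 0, 1, 2] (fun x hx y hy => hom_w2 _ hx.2.1 hy.2.1)
      (by clear h; revert e; decide +kernel)⟩

/-- order nine in `[cj xa, cj xb, w1 0, w2 e, m4 e' 0]`: `(0,0)`: `[0, 2, 2, 4, 3, 2]`, `(0,1), (0,2)`: `[0, 1, 2, 4, 3]`, `(2,0)`: `[0, 3, 4, 2, 4]`, `(2,2)`: `[0, 0, 1, 4, 3, 1, 4]` -/
theorem compat (hF : F.IsSaturated 3) {e' : k3} (he : e ≠ 1) (m1 : Mor F sJ (w1 0)) (m2 : Mor F sJ (w2 e)) (m4 : Mor F sJ (m4 e' 0)) :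
    e = 2 ∧ e' = 1 := by
  have h := nine hF (g5 m1 m2 m4)
  rcases k3_cases e with rfl | rfl | rfl <;> rcases k3_cases e' with rfl | rfl | rfl
  · exact absurd (h [0, 2, 2, 4, 3, 2] (by decide +kernel)) (by decide +kernel)
  · exact absurd (h [0, 1, 2, 4, 3] (by decide +kernel)) (by decide +kernel)
  · exact absurd (h [0, 1, 2, 4, 3] (by decide +kernel)) (by decide +kernel)
  · exact (he rfl).elim
  · exact (he rfl).elim
  · exact (he rfl).elim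
  · exact absurd (h [0, 3, 4, 2, 4] (by decide +kernel)) (by decide +kernel)
  · exact ⟨rfl, rfl⟩
  · exact absurd (h [0, 0, 1, 4, 3, 1, 4] (by decide +kernel)) (by decide +kernel)

/-- `[3, 2, 3, 2, 3, 1, 1, 3, 1, 2]` in `[cj xa, cj xb, w1 0, w2 2]` -/
theorem m4_of (m1 : Mor F sJ (w1 0)) (m2 : Mor F sJ (w2 2)) : Mor F sJ (m4 1 0) := by
  exact of_word (g4 m1 m2) [3, 2, 3, 2, 3, 1, 1, 3, 1, 2] (hom_m4J 1 0) (by decide +kernel)

/-- Words in `[cj xa, cj xb, w1 0, w2 e]`. `e = 0`: `[[], [2], [2,0], [2,0,0], [3], [3,1], [3,1,1], [2,3], [3,2], [2,0,3], [3,1,2], [2,3,2], [2,0,0,3], [3,1,1,2], [2,0,3,2], [2,3,2,0], [2,3,2,1], [3,1,2,3], [2,3,1],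
[2,0,3,1], [3,2,0,1], [2,0,3,1,2], [2,0,3,2,0], [2,3,2,1,0], [3,2,0], [2,0,0,3,1], [2,3,1,2,1], [2,3,1,2,1,0]]`; `e = 2`: `[[], [2,3,2,3], [2,3,2,0,3,1], [3,2,0,3,2,0], [2,3,2,0,3,0], [2,3,2,3,0,1], [2,0,0],
[2,0,3,2,0,0], [3,2,3,0,2,1], [3,2,3,2,0,0], [3,1,1,2], [2,0,3,2], [2,3,2,3,1,3], [3,2,0,0], [3,1,2,0,2]]`. `y ∈ J` is fixed by some `t ∉ J` iff `v = w = 0`, or `w ≠ 0`, `u w = v²`, `q w = r v`
(use linear formulas for `cj xa`, `cj xb` on `J` to make `decide +kernel` fast). -/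
theorem cover (he : e ≠ 1) : ∀ y ∈ sJ, ∃ l t, t ∉ sJ ∧ cj t (ev [cj xa, cj xb, w1 0, w2 e] l y) = ev [cj xa, cj xb, w1 0, w2 e] l y := by
  intro y hy
  have : ∃ l, nf (ev [la, lb, w1 0, w2 e] l y) = true := by
    rw [eq_jj hy]
    rcases k3_cases e with rfl | rfl | rfl
    · exact (List.any_eq_true.1 (cov0 ..)).imp fun _ => And.right
    · exact (he rfl).elim
    · exact (List.any_eq_true.1 (cov2 ..)).imp fun _ => And.right
  obtain ⟨l, hl⟩ := this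
  obtain ⟨h, e'⟩ := ev_eq e l hy
  rw [← e', eq_jj h] at hl
  obtain ⟨a, b, c, k, k'⟩ := nf_spec _ _ _ _ _ _ hl
  rw [← eq_jj h] at k'
  exact ⟨l, _, k, by rw [cj, k', mul_inv_cancel_right]⟩

/-- `θ ∉ H`; the four generators lie in `H` (`mem_H` with `s = xc`: `w1 0 xc`, `w2 e xc`), so does each word `η`; `η θ ∉ H`; `cover` at `y = θ xp` contradicts `j2`. -/
theorem notJ_a (hF : F.IsSaturated 3) (he : e ≠ 1) (m1 : Mor F E1 (w1 0)) (m2 : Mor F E2 (w2 e)) : ¬ F.IsEssential 3 sJ := by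
  intro hE
  obtain ⟨H, hH⟩ := exists_relSPE_of_essential pgT hF hE
  obtain ⟨θ, hθ, hθ'⟩ := SetLike.exists_of_lt hH.2.1
  have gen : ∀ {f : U → U} {P : Subgroup U}, Mor F P f → sJ ≤ P → xc ∈ P → ∃ η ∈ H, η ∈ F.autGroup sJ ∧ ∀ y ∈ sJ, autFun η y = f y := by
    intro f P hf hP hc
    obtain ⟨η, hη, k⟩ := (hf.mono hP).exists_aut ((hf.mono hP).img_eq_self (mor_J hf hP))
    refine ⟨η, mem_H hF hE hH hη (s := xc) (s' := f xc) (by decide) fun y hy => ?_, hη, fun y hy => k hy⟩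
    rw [k hy, k (show cj xc y ∈ sJ from Normal.conj_mem inferInstance y hy xc), hf.isHomOn.map_cj hc (hP hy)]
  have wd : ∀ l, ∃ η ∈ H, η ∈ F.autGroup sJ ∧ ∀ y ∈ sJ, autFun η y = ev [cj xa, cj xb, w1 0, w2 e] l y := fun l => by
    induction l with
    | nil => exact ⟨1, one_mem _, one_mem _, fun y hy => autFun_one hy⟩
    | cons n l ih =>
      obtain ⟨η, h1, h2, h3⟩ := ih
      have : ∃ ζ ∈ H, ζ ∈ F.autGroup sJ ∧ ∀ y ∈ sJ, autFun ζ y = [cj xa, cj xb, w1 0, w2 e].getD n id y := by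
        rcases n with _ | _ | _ | _ | n
        exacts [gen (mor_cj' F ⊤ xa) le_top trivial, gen (mor_cj' F ⊤ xb) le_top trivial, gen m1 (fun _ k => k.1) (by decide),
          gen m2 (fun _ k => k.2.1) (by decide), ⟨1, one_mem _, one_mem _, fun y hy => autFun_one hy⟩]
      obtain ⟨ζ, k1, k2, k3⟩ := this
      exact ⟨ζ * η, mul_mem k1 h1, mul_mem k2 h2, fun y hy => by rw [autFun_mul _ _ hy, k3 _ (autFun_mem η hy), h3 y hy]; rfl⟩
  have hp : xp ∈ sJ := by decide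
  obtain ⟨l, t, ht, k⟩ := cover he _ (autFun_mem θ hp)
  obtain ⟨η, h1, h2, h3⟩ := wd l
  rw [← h3 _ (autFun_mem θ hp), ← autFun_mul _ _ hp] at k
  exact ht (j2 hF hE hH (mul_mem h2 hθ) (fun k' => hθ' ((H.mul_mem_cancel_left h1).1 k')) k)

end CL.C1F
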