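/-
S5227: comparison of two systems.
-/
import Cfsg.Agent.FUS.C1.W1
import Cfsg.Agent.FUS.C1.W2
import Cfsg.Agent.FUS.C1.W3
import Cfsg.Agent.FUS.C1.W4
import Cfsg.Agent.FUS.C1.Wd
import Cfsg.Agent.FUS.C1.Std

set_option autoImplicit false
set_option linter.unusedSimpArgs false
set_option linter.unusedVariables false
set_option linter.unusedSectionVars false

namespace CL.C1F

open CL.Fus CL.RF4 CL.U5 Subgroup Cfsg Cfsg.FusionSystem
open scoped commutatorElement

variable {F F' : FusionSystem (⊤ : Subgroup U)} {E P : Subgroup U} {A : Set (U → U)} {f g : U → U} {e : k3}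

/-- every `sK e i`, `e ≠ 0`, is `cj y (tor false t false (sK 1 0))` -/
theorem exists_K {i : k3} (he : e ≠ 0) : ∃ y t, ∀ x, x ∈ sK 1 0 ↔ cj y (tor false t false x) ∈ sK e i := by
  rcases k3_cases e with rfl | rfl | rfl
  · exact (he rfl).elim
  · refine ⟨tt 0 (-i) 0, false, fun x => ?_⟩
    simp only [tor, sg]; msimp; usimp
    generalize x.a = a, x.b = b, x.c = c
    revert a b c i; decide
  · refine ⟨tt 0 (-i) 0, true, fun x => ?_⟩
    simp only [tor, sg]; msimp; usimp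
    generalize x.a = a, x.b = b, x.c = c
    revert a b c i; decide

namespace Le

theorem J_K : sJ ≤ sK 1 0 := fun y k => by msimp at *; simp [k]
theorem J_1 : sJ ≤ E1 := fun _ k => k.1
theorem J_2 : sJ ≤ E2 := fun _ k => k.2.1

theorem corr_self (hf : Mor F ⊤ f) (hg : Mor F ⊤ g) (i : IsoOn ⊤ ⊤ f g) : Corr f g F F :=
  ⟨i, fun hk => hf.comp (hk.comp (hg.mono le_top) fun _ h => ((i.mem_img_iff le_top).1 h).2) fun _ _ => trivial,
    fun hk => hg.comp (hk.comp (hf.mono le_top) fun _ h => ((i.symm.mem_img_iff le_top).1 h).2) fun _ _ => trivial⟩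

theorem iso (y : U) (s t d : Bool) : IsoOn ⊤ ⊤ (cj y ∘ tor s t d) (tor s t d ∘ cj y⁻¹) where
  hom := fun a _ b _ => by simp [tor_mul, cj, mul_assoc]
  maps := fun _ _ => trivial
  maps' := fun _ _ => trivial
  left := fun x _ => by simp only [Function.comp_apply, cj_inv_cj, tor_self]
  right := fun x _ => by simp only [Function.comp_apply, cj_cj_inv, tor_self]

theorem std_mem (hS : Std F) (hf : Mor F ⊤ f) {Q : Subgroup U} [hn : Q.Normal] {y : U} (h : ∀ s t d, tor s t d y ∈ Q) : f y ∈ Q := by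
  obtain ⟨u, s, t, d, -, k⟩ := hS f hf
  rw [k]; exact hn.conj_mem _ (h s t d) u

theorem m4_J (hF : F.IsSaturated 3) (hS : Std F) (hE : F.IsEssential 3 (sK 1 0)) : ∃ e, Mor F (sK 1 0) (m4 e 0) := by
  obtain ⟨e, g, m⟩ := w4_of hF hS hE
  obtain rfl := m4_zero hF (m.mono J_K)
  exact ⟨e, m⟩

theorem ess12 (hF : F.IsSaturated 3) (hS : Std F) (hE : F.IsEssential 3 (sK 1 0)) : F.IsEssential 3 E1 ∧ F.IsEssential 3 E2 := by
  obtain ⟨e, m⟩ := m4_J hF hS hE
  obtain ⟨m1, m2⟩ := m4_w (m.mono J_K)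
  constructor <;> by_contra n
  · obtain ⟨g, hg, eg⟩ := ext_J hF m1 J_1 fun s hs => ⟨_, fun y hy => (hom_w1 _).map_cj hs (J_1 hy)⟩
    obtain ⟨k, hk, ek⟩ := EssSm.exists_extend_top_of_not_le pgT hF (fun R hR h => by
      have h1 : xb ∈ R := h (by decide)
      have h2 : xw ∈ R := h (by decide)
      rcases ess_list hF hR with (rfl | rfl | rfl | ⟨e, i, -, rfl⟩) | rfl
      exacts [n hR, absurd h1 (by decide), absurd h2 (by decide), (not_mem_K e i).1 h1, absurd h1 (by decide)]) hg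
    have := std_mem hS hk (Q := sZ) (y := xp) (by decide)
    rw [ek (show xp ∈ E1 by decide), eg (show xp ∈ sJ by decide)] at this
    revert this; generalize e + 2 = e; revert e; decide
  · obtain ⟨g, hg, eg⟩ := ext_J hF m2 J_2 fun s hs => ⟨_, fun y hy => (hom_w2 _).map_cj hs (J_2 hy)⟩
    obtain ⟨k, hk, ek⟩ := EssSm.exists_extend_top_of_not_le pgT hF (fun R hR h => by
      have h1 : xa ∈ R := h (by decide)
      have h2 : xw ∈ R := h (by decide)
      have h3 : xc ∈ R := h (by decide)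
      rcases ess_list hF hR with (rfl | rfl | rfl | ⟨e, i, -, rfl⟩) | rfl
      exacts [absurd h1 (by decide), n hR, absurd h2 (by decide), (not_mem_K e i).2.2 h3, absurd h1 (by decide)]) hg
    have := std_mem hS hk (Q := sW) (y := xu) (by decide)
    rw [ek (show xu ∈ E2 by decide), eg (show xu ∈ sJ by decide)] at this
    revert this; generalize e + 1 = e; revert e; decide

theorem img_K {i : k3} {y : U} {t : Bool} (h : ∀ x, x ∈ sK 1 0 ↔ cj y (tor false t false x) ∈ sK e i) :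
    img (tor false t false ∘ cj y⁻¹) (sK e i) = sK 1 0 :=
  Subgroup.ext fun x => by rw [(iso y false t false).symm.mem_img_iff le_top, h]; simp

/-- `m4 1 0` on `K` from `m4 1 0` on `J` -/
theorem m4_K (hF : F.IsSaturated 3) (m : Mor F sJ (m4 1 0)) : Mor F (sK 1 0) (m4 1 0) := by
  obtain ⟨g, hg, eg⟩ := ext_J hF m J_K fun s hs => ⟨_, fun y hy => (hom_m4 1 0).map_cj hs (J_K hy)⟩
  obtain ⟨n, -, j⟩ := exists_isoOn m (mor_J m le_rfl)
  have mg : ∀ s ∈ sK 1 0, g s ∈ sK 1 0 := fun s hs => by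
    have k : ∀ z ∈ sJ, ((m4 1 0 s)⁻¹ * g s) * z = z * ((m4 1 0 s)⁻¹ * g s) := fun z hz => by
      have hy := j.maps' z hz
      have cy : cj s (n z) ∈ sJ := Subgroup.Normal.conj_mem inferInstance _ hy s
      rw [← cj_eq_self_iff, cj_mul, ← j.right z hz, ← eg hy, ← hg.map_cj hs (J_K hy), eg cy, eg hy,
        (hom_m4 1 0).map_cj hs (J_K hy), cj_inv_cj]
    have := mul_mem (maps4 1 0 s hs) (J_K (mem_J_of_comm (k xw (by decide)) (k xv (by decide))))
    rwa [mul_inv_cancel_left] at this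
  obtain ⟨g', hg', i⟩ := exists_isoOn hg mg
  obtain ⟨u, hu, eu⟩ := inner_K (hg'.isHomOn.comp (hom_m4 1 0) (maps4 1 0)) (fun y hy => i.maps' _ (maps4 1 0 y hy))
    fun y hy => by rw [Function.comp_apply, ← eg hy, i.left y (J_K hy)]
  exact (hg.comp (mor_cj' F _ u) fun y hy => cj_mem (J_K hu) hy).congr fun y hy => by
    rw [Function.comp_apply, ← eu y hy, Function.comp_apply, i.right _ (maps4 1 0 y hy)]

theorem le_K (h : Dat F e) (h' : Dat F' e) (ht : ∀ f, Mor F ⊤ f → Mor F' ⊤ f) (hE : F.IsEssential 3 (sK 1 0))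
    (hf : Aut F (sK 1 0) f) : Mor F' (sK 1 0) f := by
  obtain ⟨e', m⟩ := m4_J h.sat h.std hE
  obtain ⟨rfl, rfl⟩ := compat h.sat h.ne (h.m1.mono J_1) (h.m2.mono J_2) (m.mono J_K)
  exact (rho4 h.sat hE).mor (not_K h.sat) ht ⟨m, maps4 1 0⟩ (isN4 1 0) (m4_K h'.sat (m4_of (h'.m1.mono J_1) (h'.m2.mono J_2))) hf

theorem corr_K (h : Dat F e) (y : U) (t : Bool) : Corr (cj y ∘ tor false t false) (tor false t false ∘ cj y⁻¹) F F := by
  have k : Mor F ⊤ (tor false t false) := by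
    cases t
    · exact (mor_id F le_rfl).congr fun x _ => (tor_id x).symm
    · exact h.t1
  exact corr_self ((mor_cj' F ⊤ y).comp k fun _ _ => trivial) (k.comp (mor_cj' F ⊤ y⁻¹) fun _ _ => trivial) (iso _ _ _ _)

end Le

open Le

/-- Transport to `sK 1 0` (`corr_tor`, `essential_img_aut`); `w4_of`, `m4_zero`, `m4_w`; `ext_J` extends `w1 e'` from `J` to a map `g` on `E1` (`hom_w1`); if `E1` were not essential, `g` would extend to `⊤`
(`EssSm.exists_extend_top_of_not_le`; an essential `R ≥ E1` is `E1` by `not_E1`), so fix `Z` (`Std`), but `w1 e' xp = xu`. For `E2`: `w2 e' xu ∉ W`, and automorphisms of `⊤` leave `W` invariant. -/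
theorem ess12_of_K (hF : F.IsSaturated 3) (hS : Std F) {i : k3} (he : e ≠ 0) (hE : F.IsEssential 3 (sK e i)) :
    F.IsEssential 3 E1 ∧ F.IsEssential 3 E2 := by
  obtain ⟨y, t, h⟩ := exists_K (i := i) he
  obtain ⟨F', c, hS'⟩ := corr_tor F false t false
  have c' : Corr (tor false t false ∘ cj y⁻¹) (cj y ∘ tor false t false) F F' :=
    (corr_self (mor_cj' F _ y⁻¹) (mor_cj' F _ y) (isoOn_cj y).symm).trans c
  have k := c'.isEssential hE
  rw [img_K h] at k
  obtain ⟨k1, k2⟩ := ess12 (c.isSaturated hF) (hS' hS) k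
  have l1 := c.symm.isEssential k1
  have l2 := c.symm.isEssential k2
  have e1 : img (tor false t false) E1 = E1 := Subgroup.ext fun x => by
    rw [c.iso.mem_img_iff le_top]; cases t <;> simp [mem_E1, tor, sg]
  have e2 : img (tor false t false) E2 = E2 := Subgroup.ext fun x => by
    rw [c.iso.mem_img_iff le_top]; cases t <;> simp [mem_E2, tor, sg]
  exact ⟨e1 ▸ l1, e2 ▸ l2⟩

/-- `alperin_isSubsystemOf` / `alperin_le`, `ess_list`, `notJ_a`, `Std.le`, `Rho.mor` with `rho1..rho4`. For `sK 1 0`: `m4 e' 0 ∈ F` (`w4_of`, `m4_zero`), `compat`: `e = 2`, `e' = 1`; `m4_of` in `F'` on `J`, `ext_J` to `g` on `K`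
(`hom_m4`), `g⁻¹ ∘ m4 1 0` is inner (`inner_K`). General `sK ε i` by conjugating with `β = cj y ∘ tor false t false ∈ F, F'` (`exists_K`). -/
theorem Dat.le (h : Dat F e) (h' : Dat F' e) (hd : Mor F ⊤ dl → Mor F' ⊤ dl) : F ≤ F' := by
  have ht := h.std.le h'.t1 h'.t2 h.t1 h.t2 hd
  refine alperin_isSubsystemOf pgT h.sat fun P f hP hf e => ?_
  have m : ∀ x ∈ P, f x ∈ P := img_le_iff.1 e.le
  rcases hP with rfl | hP
  · exact ht f hf
  rcases ess_list h.sat hP with (rfl | rfl | rfl | ⟨ε, i, hε, rfl⟩) | rfl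
  · exact (rho1 h.sat hP).mor (not_E1 h.sat) ht ⟨h.m1, maps1 0⟩ (isN1 0) h'.m1 ⟨hf, m⟩
  · exact (rho2 h.sat hP).mor (not_E2 h.sat) ht ⟨h.m2, maps2 _⟩ (isN2 _) h'.m2 ⟨hf, m⟩
  · exact (rho3 h.sat hP).mor (not_E3 h.sat) ht ⟨h.m3, maps3⟩ isN3 h'.m3 ⟨hf, m⟩
  · obtain ⟨y, t, k⟩ := exists_K (i := i) hε
    have c := corr_K h y t
    have k1 := c.symm.isEssential hP
    have k2 := c.mor' hf
    rw [img_K k] at k1 k2
    have k3 := le_K h h' ht k1 ⟨k2, fun x hx => (k _).2 (by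
      have := c.iso.right (f (cj y (tor false t false x))) trivial
      simp only [Function.comp_apply] at this ⊢
      rw [this]; exact m _ ((k x).1 hx))⟩
    have k4 := (corr_K h' y t).mor k3
    rw [← img_K k, c.iso.img_img' le_top] at k4
    exact k4.congr fun x _ => by simp only [Function.comp_apply, cj_cj_inv, tor_self]
  · exact (notJ_a h.sat h.ne h.m1 h.m2 hP).elim

end CL.C1F
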