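/-
S5227: the standard forms.
-/
import Cfsg.Agent.FUS.C1.Le
import Cfsg.Agent.FUS.C1.KJn

set_option autoImplicit false
set_option linter.unusedSimpArgs false
set_option linter.unusedVariables false
set_option linter.unusedSectionVars false

namespace CL.C1F

open CL.Fus CL.RF4 CL.U5 Subgroup Cfsg Cfsg.FusionSystem
open scoped commutatorElement

variable {F F' : FusionSystem (⊤ : Subgroup U)} {E P : Subgroup U} {A : Set (U → U)} {f g : U → U} {e : k3}

namespace Cls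

theorem nrm (hF : F.IsSaturated 3) (hc : F.core = ⊥) {Q : Subgroup U} (hQ : xp ∈ Q)
    (h : ∀ R, (R = ⊤ ∨ F.IsEssential 3 R) → Q ≤ R ∧ ∀ g, Mor F R g → (∀ y ∈ R, g y ∈ R) → ∀ y ∈ Q, g y ∈ Q) : False := by
  have := le_core (normal_of_essential pgT hF (Q := Q) fun R hR => ⟨(h R hR).1, fun g hg e =>
    hg.img_eq_self_of_le (h R hR).1 ((h R hR).2 g hg (img_le_iff.1 e.le))⟩) hQ
  rw [hc, mem_bot] at this
  exact absurd this (by decide)

theorem of_iv {Q R : Subgroup U} (hQ : Q ≤ R) (h : ∀ A, Au R A → Ivs R A Q) :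
    Q ≤ R ∧ ∀ g, Mor F R g → (∀ y ∈ R, g y ∈ R) → ∀ y ∈ Q, g y ∈ Q :=
  ⟨hQ, fun g hg m y hy => let ⟨_, _, i⟩ := exists_isoOn hg m; h _ (au_pair i) g (.inl rfl) y (hQ hy) hy⟩

theorem of_std (hS : Std F) {Q : Subgroup U} [hn : Q.Normal] (h : ∀ s t d, ∀ y ∈ Q, tor s t d y ∈ Q) :
    Q ≤ ⊤ ∧ ∀ g, Mor F ⊤ g → (∀ y ∈ (⊤ : Subgroup U), g y ∈ (⊤ : Subgroup U)) → ∀ y ∈ Q, g y ∈ Q :=
  ⟨le_top, fun g hg _ y hy => by
    obtain ⟨u, s, t, d, -, k⟩ := hS g hg
    rw [k]; exact hn.conj_mem _ (h s t d y hy) u⟩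

theorem ess1 (hF : F.IsSaturated 3) (hc : F.core = ⊥) (hS : Std F) : F.IsEssential 3 E1 := by
  by_contra n
  refine nrm hF hc (Q := sZ) (by decide) ?_
  rintro R (rfl | hR)
  · exact of_std hS fun s t d y hy => by msimp at *; simp [tor, hy]
  rcases ess_list hF hR with (rfl | rfl | rfl | ⟨e, i, he, rfl⟩) | rfl
  · exact (n hR).elim
  · exact of_iv (fun _ k => k.2.1) fun _ => iv_Z2
  · exact of_iv (fun _ k => k.2.2.2.2.2.2.2) fun _ k => (iv_E3 k).1
  · exact (n (ess12_of_K hF hS he hR).1).elim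
  refine (notJ_b hF (fun R hR k => ?_) hR).elim
  rcases ess_list hF hR with (rfl | rfl | rfl | ⟨e, i, he, rfl⟩) | rfl
  · exact (n hR).elim
  · rfl
  · exact absurd (k.le (show xw ∈ sJ by decide)) (by decide)
  · exact (n (ess12_of_K hF hS he hR).1).elim
  · exact (lt_irrefl _ k).elim

theorem ess2 (hF : F.IsSaturated 3) (hc : F.core = ⊥) (hS : Std F) : F.IsEssential 3 E2 := by
  by_contra n
  refine nrm hF hc (Q := sW) (by decide) ?_
  rintro R (rfl | hR)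
  · exact of_std hS fun s t d y hy => by msimp at *; simp [tor, hy]
  rcases ess_list hF hR with (rfl | rfl | rfl | ⟨e, i, he, rfl⟩) | rfl
  · exact of_iv (fun _ k => k.1) fun _ => iv_W1
  · exact (n hR).elim
  · exact of_iv (fun _ k => k.2.2.2.2.2) fun _ k => (iv_E3 k).2.2.2.1
  · exact (n (ess12_of_K hF hS he hR).2).elim
  refine (notJ_c hF (fun R hR k => ?_) hR).elim
  rcases ess_list hF hR with (rfl | rfl | rfl | ⟨e, i, he, rfl⟩) | rfl
  · rfl
  · exact (n hR).elim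
  · exact absurd (k.le (show xw ∈ sJ by decide)) (by decide)
  · exact (n (ess12_of_K hF hS he hR).2).elim
  · exact (lt_irrefl _ k).elim

theorem ess3 (hF : F.IsSaturated 3) (hc : F.core = ⊥) : F.IsEssential 3 E3 := by
  by_contra n
  refine nrm hF hc (Q := sJ) (by decide) fun R hR => ?_
  have k : sJ ≤ R := by
    rcases hR with rfl | hR
    · exact le_top
    rcases ess_list hF hR with (rfl | rfl | rfl | ⟨e, i, he, rfl⟩) | rfl
    · exact fun _ k => k.1
    · exact fun _ k => k.2.1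
    · exact (n hR).elim
    · exact fun y k => by msimp at *; simp [k]
    · exact le_rfl
  exact ⟨k, fun g hg _ => mor_J hg k⟩

theorem tr (c : Corr (tau e) (tau (-e)) F F') (hf : Mor F P f) (hP : ∀ x ∈ P, tau (-e) x ∈ P)
    (h : ∀ x ∈ P, tau e (f (tau (-e) x)) = g x) : Mor F' P g :=
  ((c.mor hf).mono fun y hy => by
    have := mem_img_of_mem (tau e) (hP y hy)
    rwa [tau_tau, add_neg_cancel, tau_zero] at this).congr h

theorem tr_tor (c : Corr (tau e) (tau (-e)) F F') {s t d : Bool} (hf : Mor F ⊤ (tor s t d)) : Mor F' ⊤ (tor s t d) :=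
  tr c hf (fun _ _ => trivial) fun x _ => by rw [tau_tor, tau_tau, add_neg_cancel, tau_zero]

end Cls

open Cls

/-- `exists_std`. If `E1` is not essential: no `sK` (`ess12_of_K`), not `J` (`notJ_b`), so `Z` is normal (`normal_of_essential`, `iv_Z2`, `iv_E3`). If `E2` is not essential: `notJ_c`, `W` is normal (`iv_W1`, `iv_E3`, `Std`).
`w1_of`, `w2_of`; `corr_tau` with `-e₁` (`tau_w1`, `tau_w2`, `tau_tor`); `not_one`; `notJ_a`; if `E3` is not essential then `J` is normal (`mor_J`); `w3_of`. -/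
theorem exists_dat (hF : F.IsSaturated 3) (hc : F.core = ⊥) :
    ∃ (β β' : U → U) (F' : FusionSystem (⊤ : Subgroup U)) (e : k3), Corr β β' F F' ∧ Dat F' e := by
  obtain ⟨β, β', F₁, c, hS⟩ := exists_std hF
  have s₁ := c.isSaturated hF
  have c₁ := c.core_eq_bot_iff.2 hc
  obtain ⟨t1, e₁, m1⟩ := w1_of s₁ hS (ess1 s₁ c₁ hS)
  obtain ⟨t2, e₂, m2⟩ := w2_of s₁ hS (ess2 s₁ c₁ hS)
  obtain ⟨F₂, c', hS'⟩ := corr_tau F₁ (-e₁)
  have s₂ := c'.isSaturated s₁
  have n1 : Mor F₂ E1 (w1 0) := tr c' m1 (fun _ k => k) fun x hx => by rw [tau_w1 _ _ hx, neg_add_cancel]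
  have n2 : Mor F₂ E2 (w2 (-e₁ + e₂)) := tr c' m2 (fun _ k => k) fun x hx => tau_w2 _ _ hx
  refine ⟨_, _, F₂, -e₁ + e₂, c.trans c', s₂, hS' hS, fun k => ?_, tr_tor c' t1, tr_tor c' t2, n1, n2,
    w3_of s₂ (hS' hS) (ess3 s₂ (c'.core_eq_bot_iff.2 c₁))⟩
  rw [k] at n2
  exact not_one s₂ (n1.mono fun _ k => k.1) (n2.mono fun _ k => k.2.1)

end CL.C1F
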