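/-
S5227: the system of a model.
-/
import Cfsg.Agent.FUS.C1.Std
import Cfsg.Agent.FUS.GroupFusion

set_option autoImplicit false
set_option linter.unusedSimpArgs false
set_option linter.unusedVariables false
set_option linter.unusedSectionVars false

namespace CL.C1F

open CL.Fus CL.RF4 CL.U5 Subgroup Cfsg Cfsg.FusionSystem
open scoped commutatorElement

variable {F F' : FusionSystem (⊤ : Subgroup U)} {E P : Subgroup U} {A : Set (U → U)} {f g : U → U} {e : k3}

/-- first half of `CL.U5.realizable` (FUS/U5/Real) without the semidirect product; `std_of` -/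
theorem Md.exists_sys {G : Type} [Group G] [Finite G] {ι : U →* G} (M : Md ι e) (he : e ≠ 1)
    (h : Ind ι ⊤ dl ∨ ∀ n : G, n * ι xp * n⁻¹ ≠ (ι xp)⁻¹) :
    ∃ E : FusionSystem (⊤ : Subgroup U), Dat E e ∧ E.IsRealizable 3 ∧ ∀ P f, Mor E P f ↔ Ind ι P f := by
  let κ : (⊤ : Subgroup U) →* G := ι.comp (⊤ : Subgroup U).subtype
  have hκ : Function.Injective κ := M.inj.comp (subtype_injective _)
  obtain ⟨e', he'⟩ := exists_isoOn_of_injective κ hκ
  obtain ⟨E, hE⟩ := he'.symm.exists_corr (groupFusionSystem κ.range)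
  have hr : E.IsRealizedBy κ := hE.symm.isRealizedBy fun x => (homFn_coe κ x).symm
  have hm : ∀ P f, Mor E P f ↔ Ind ι P f := fun P f =>
    (((isRealizedBy_iff (e := ι) fun _ => rfl).1 hr).2 P f le_top fun _ _ => trivial).trans
      (exists_congr fun n => forall₂_congr fun x _ => eq_comm)
  have hκr : κ.range = ι.range := by
    rw [MonoidHom.range_comp, range_subtype, ← MonoidHom.range_eq_map]
  have hR : E.IsRealizable 3 := isRealizable_of_isRealizedBy hr ⟨IsPGroup.toSylow (P := κ.range)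
    (pgT.of_surjective _ κ.rangeRestrict_surjective) (by rw [hκr]; exact M.idx), rfl⟩
  have hs := isSaturated_of_isRealizable hR
  have t1 := (hm _ _).2 M.t1
  have t2 := (hm _ _).2 M.t2
  refine ⟨E, ⟨hs, std_of hs t1 t2 (h.imp (hm _ _).2 fun k f hf e => ?_), he, t1, t2, (hm _ _).2 M.m1, (hm _ _).2 M.m2,
    (hm _ _).2 M.m3⟩, hR, hm⟩
  obtain ⟨n, hn⟩ := (hm _ _).1 hf
  exact k n (by rw [hn xp trivial, e, map_inv])

end CL.C1F
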