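/-
S5227: `Sp₆(3)` and `GSp₆(3)`.
-/
import Cfsg.Agent.FUS.C1.Lift
import Cfsg.Agent.CLAS.SpForm

set_option autoImplicit false
set_option linter.unusedSimpArgs false
set_option linter.unusedVariables false
set_option linter.unusedSectionVars false

namespace CL.C1F

open CL.Fus CL.RF4 CL.U5 Subgroup Cfsg Cfsg.FusionSystem
open scoped commutatorElement

variable {F F' : FusionSystem (⊤ : Subgroup U)} {E P : Subgroup U} {A : Set (U → U)} {f g : U → U} {e : k3}

namespace SpX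
open Matrix

/-- the Levi part -/
def mA (x : U) : Matrix (Fin 3) (Fin 3) k3 := !![1, x.a, x.c; 0, 1, x.b; 0, 0, 1]
/-- its inverse transpose -/
def mD (x : U) : Matrix (Fin 3) (Fin 3) k3 := !![1, 0, 0; -x.a, 1, 0; x.a * x.b - x.c, -x.b, 1]
/-- the upper right block -/
def mB (x : U) : Matrix (Fin 3) (Fin 3) k3 :=
  !![x.p - x.a * x.q + (x.a * x.b - x.c) * x.r, x.q - x.b * x.r, x.r;
    x.q - x.a * x.u + (x.a * x.b - x.c) * x.v, x.u - x.b * x.v, x.v;
    x.r - x.a * x.v + (x.a * x.b - x.c) * x.w, x.v - x.b * x.w, x.w]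
/-- the matrix of an element -/
def mat (x : U) : Matrix (Fin 3 ⊕ Fin 3) (Fin 3 ⊕ Fin 3) k3 := fromBlocks (mA x) (mB x) 0 (mD x)

theorem mat_mul (x y : U) : mat (x * y) = mat x * mat y := by
  simp only [mat, fromBlocks_multiply, Matrix.mul_zero, Matrix.zero_mul, add_zero, zero_add, mA, mB, mD, mul_fin_three]
  usimp
  congr 1 <;> ext i j <;> fin_cases i <;> fin_cases j <;> simp <;> ring1

theorem mat_mem (x : U) : mat x ∈ symplecticGroup (Fin 3) k3 := by
  rw [SymplecticGroup.mem_iff, mat, J, fromBlocks_transpose, fromBlocks_multiply, fromBlocks_multiply]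
  congr 1 <;> ext i j <;> fin_cases i <;> fin_cases j <;> simp [mA, mB, mD, vecMul, dotProduct, Fin.sum_univ_three] <;> ring1

/-- the group -/
abbrev G := symplecticGroup (Fin 3) k3

/-- the embedding -/
def ι : U →* G := MonoidHom.mk' (fun x => ⟨mat x, mat_mem x⟩) fun x y => Subtype.ext (mat_mul x y)

theorem ind {P : Subgroup U} [DecidablePred (· ∈ P)] {f : U → U} (hf : IsHomOn P f) (n : Matrix (Fin 3 ⊕ Fin 3) (Fin 3 ⊕ Fin 3) k3)
    {L : List U} (hP : ∀ M : Submonoid U, (∀ x ∈ L, x ∈ M) → ∀ x ∈ P, x ∈ M)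
    (h : n * J (Fin 3) k3 * nᵀ = J (Fin 3) k3 ∧ ∀ x ∈ L, x ∈ P ∧ n * mat x = mat (f x) * n) : Ind ι P f :=
  ind_of_gens' hf ⟨n, h.1⟩ (fun x hx => ⟨(h.2 x hx).1, Subtype.ext (h.2 x hx).2⟩) hP

/-- membership in the whole group -/
local instance decTop : DecidablePred (· ∈ (⊤ : Subgroup U)) := fun _ => isTrue trivial

theorem md : Md ι 0 := by
  have hi : Function.Injective ι := inj_of' fun e => absurd (congrArg Subtype.val e : mat xp = 1) (by decide +kernel)
  have ht : ∀ s t d, IsHomOn ⊤ (tor s t d) := fun s t d x _ y _ => tor_mul s t d x y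
  refine ⟨hi, fun e => ?_,
    ind (ht false true false) (fromBlocks !![1, 0, 0; 0, 1, 0; 0, 0, -1] 0 0 !![1, 0, 0; 0, 1, 0; 0, 0, -1]) gens_top (by decide +kernel),
    ind (ht true false false) (fromBlocks !![-1, 0, 0; 0, 1, 0; 0, 0, 1] 0 0 !![-1, 0, 0; 0, 1, 0; 0, 0, 1]) gens_top (by decide +kernel),
    ind (hom_w1 0) (fromBlocks !![0, 1, 0; -1, 0, 0; 0, 0, 1] 0 0 !![0, 1, 0; -1, 0, 0; 0, 0, 1]) gens_E1 (by decide +kernel),
    ind (hom_w2 0) (fromBlocks !![1, 0, 0; 0, 0, -1; 0, 1, 0] 0 0 !![1, 0, 0; 0, 0, -1; 0, 1, 0]) gens_E2 (by decide +kernel),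
    ind hom_w3 (fromBlocks !![1, 0, 0; 0, 1, 0; 0, 0, 0] !![0, 0, 0; 0, 0, 0; 0, 0, -1] !![0, 0, 0; 0, 0, 0; 0, 0, 1]
      !![1, 0, 0; 0, 1, 0; 0, 0, 0]) gens_E3 (by decide +kernel)⟩
  have := ι.range.card_mul_index
  rw [← Nat.card_congr (MonoidHom.ofInjective hi).toEquiv, U.card, CL.Sp.card_symplecticGroup, Nat.card_zmod] at this
  simp only [Finset.prod_range_succ, Finset.prod_range_zero] at this
  omega

theorem not_conj (n : G) : n * ι xp * n⁻¹ ≠ (ι xp)⁻¹ := fun e => by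
  rw [mul_inv_eq_iff_eq_mul, ← map_inv] at e
  have h : n.1 * mat xp = mat xp⁻¹ * n.1 := congrArg Subtype.val e
  have h1 := congrFun (congrFun h (.inl 0)) (.inr 0)
  have h2 := fun i => congrFun (congrFun h i) (.inr 0)
  have h3 := congrFun (congrFun (SymplecticGroup.mem_iff'.1 n.2) (.inl 0)) (.inr 0)
  have a := h2 (.inl 1)
  have b := h2 (.inl 2)
  have c := h2 (.inr 0)
  have d := h2 (.inr 1)
  have f := h2 (.inr 2)
  simp [mat, mA, mB, mD, xp, jj, U.inv_a, U.inv_b, U.inv_c, U.inv_p, U.inv_q, U.inv_r, U.inv_u, U.inv_v, U.inv_w, J, Matrix.mul_apply,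
    Fintype.sum_sum_type, Fin.sum_univ_three] at h1 h3 a b c d f
  simp only [a, b, c, d, f] at h3
  generalize n.1 (.inl 0) (.inl 0) = s at *
  generalize n.1 (.inr 0) (.inr 0) = t at *
  have : s = -t := by linear_combination h1
  subst this
  simp at h3
  exact (by decide : ∀ t : k3, t * t ≠ -1) t h3

/-- the similitude -/
def dm : Matrix (Fin 3 ⊕ Fin 3) (Fin 3 ⊕ Fin 3) k3 := fromBlocks 1 0 0 (-1)

theorem dm_dm (n : Matrix (Fin 3 ⊕ Fin 3) (Fin 3 ⊕ Fin 3) k3) : dm * (dm * n) = n := by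
  rw [← mul_assoc, (by decide +kernel : dm * dm = 1), one_mul]

theorem dm_mem (n : G) : dm * n.1 * dm ∈ symplecticGroup (Fin 3) k3 := by
  have h : n.1 * (J (Fin 3) k3 * n.1ᵀ) = J (Fin 3) k3 := (mul_assoc _ _ _).symm.trans n.2
  rw [SymplecticGroup.mem_iff, transpose_mul, transpose_mul, (by decide +kernel : dmᵀ = dm), mul_assoc (dm * n.1),
    (by decide +kernel : dm * J (Fin 3) k3 = -J (Fin 3) k3 * dm)]
  simp only [mul_assoc, dm_dm, neg_mul, mul_neg]
  rw [← mul_assoc (J _ _), ← mul_assoc n.1, h]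
  decide +kernel

/-- the diagonal automorphism -/
def φ : MulAut G where
  toFun n := ⟨_, dm_mem n⟩
  invFun n := ⟨_, dm_mem n⟩
  left_inv n := Subtype.ext (by simpa only [mul_assoc, dm_dm, mul_one] using congrArg (n.1 * ·) (dm_dm 1))
  right_inv n := Subtype.ext (by simpa only [mul_assoc, dm_dm, mul_one] using congrArg (n.1 * ·) (dm_dm 1))
  map_mul' n m := Subtype.ext (by simp only [Submonoid.coe_mul, mul_assoc, dm_dm])

theorem φ_ι (x : U) : φ (ι x) = ι (dl x) := Subtype.ext (by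
  change dm * mat x * dm = mat (dl x)
  rw [dm, mat, mat, fromBlocks_multiply, fromBlocks_multiply]
  congr 1 <;> ext i j <;> fin_cases i <;> fin_cases j <;> simp [mA, mB, mD, tor, sg] <;> ring1)

end SpX

/-- `G = Matrix.symplecticGroup (Fin 3) k3`, `ι x = fromBlocks A (X A⁻ᵀ) 0 A⁻ᵀ` (directly, or by `exists_lift` with `decide`), `card_symplecticGroup` (CLAS/SpForm). `h1, h2, w1 0, w2 0`: `fromBlocks B 0 0 B⁻ᵀ` with signed permutation
matrices `B`; `w3`: the element `!![0, ±1; ∓1, 0]` of the `SL₂` on the third hyperbolic pair. `ι xp = 1 + e ⊗ ⟨e, ·⟩`, so `n (ι xp) n⁻¹ = 1 + n e ⊗ ⟨n e, ·⟩ ≠ 1 - e ⊗ ⟨e, ·⟩` as `-1` is not a square.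
`φ` = conjugation by `fromBlocks 1 0 0 (-1)`. -/
theorem exists_sp0 : ∃ (G : Type) (_ : Group G) (_ : Finite G) (ι : U →* G), Md ι 0 ∧ (∀ n : G, n * ι xp * n⁻¹ ≠ (ι xp)⁻¹) ∧
    ∃ φ : MulAut G, φ * φ = 1 ∧ ∀ x, φ (ι x) = ι (dl x) :=
  ⟨SpX.G, inferInstance, inferInstance, SpX.ι, SpX.md, SpX.not_conj, SpX.φ, MulEquiv.ext SpX.φ.left_inv, SpX.φ_ι⟩

/-- `G ⋊ Multiplicative (ZMod 2)` (or `G ⋊ zpowers φ`), see `CL.U5.realizable` -/
theorem exists_gsp : ∃ (G : Type) (_ : Group G) (_ : Finite G) (ι : U →* G), Md ι 0 ∧ Ind ι ⊤ dl := by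
  obtain ⟨G, _, _, ι, M, -, φ, h2, h⟩ := exists_sp0
  let H := G ⋊[(zpowers φ).subtype] zpowers φ
  have k : ∀ {P f}, Ind ι P f → Ind ((SemidirectProduct.inl : G →* H).comp ι) P f := fun ⟨n, hn⟩ =>
    ⟨.inl n, fun x hx => by simp only [MonoidHom.comp_apply, ← hn x hx, map_mul, map_inv]⟩
  refine ⟨H, inferInstance, Finite.of_equiv _ SemidirectProduct.equivProd.symm, SemidirectProduct.inl.comp ι,
    ⟨SemidirectProduct.inl_injective.comp M.inj, ?_, k M.t1, k M.t2, k M.m1, k M.m2, k M.m3⟩,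
    .inr ⟨φ, mem_zpowers _⟩, fun x _ => ?_⟩
  · rw [MonoidHom.range_comp, index_map_of_injective _ SemidirectProduct.inl_injective,
      SemidirectProduct.range_inl_eq_ker_rightHom, index_ker]
    refine Nat.Prime.not_dvd_mul Nat.prime_three M.idx fun e => ?_
    have := e.trans (card_subgroup_dvd_card _)
    rw [Nat.card_zpowers] at this
    exact absurd (this.trans (orderOf_dvd_of_pow_eq_one ((pow_two φ).trans h2))) (by decide)
  · simp only [MonoidHom.comp_apply, ← h, ← map_inv]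
    exact (SemidirectProduct.inl_aut (φ := (zpowers φ).subtype) ⟨φ, mem_zpowers _⟩ _).symm

end CL.C1F
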