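/-
S5227: assembly.
-/
import Cfsg.Agent.FUS.C1.Cls
import Cfsg.Agent.FUS.C1.Real
import Cfsg.Agent.FUS.C1.Sp
import Cfsg.Agent.FUS.C1.Co

set_option autoImplicit false
set_option linter.unusedSimpArgs false
set_option linter.unusedVariables false
set_option linter.unusedSectionVars false

namespace CL.C1F

open CL.Fus CL.RF4 CL.U5 Subgroup Cfsg Cfsg.FusionSystem
open scoped commutatorElement

variable {F F' : FusionSystem (⊤ : Subgroup U)} {E P : Subgroup U} {A : Set (U → U)} {f g : U → U} {e : k3}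

theorem Dat.real {G : Type} [Group G] [Finite G] {ι : U →* G} (h : Dat F e) (M : Md ι e)
    (hd : (Mor F ⊤ dl ∧ Ind ι ⊤ dl) ∨ (¬ Mor F ⊤ dl ∧ ∀ n : G, n * ι xp * n⁻¹ ≠ (ι xp)⁻¹)) : F.IsRealizable 3 := by
  obtain ⟨E, hE, hR, hm⟩ := M.exists_sys h.ne (hd.imp And.right And.right)
  have k : Mor F ⊤ dl ↔ Mor E ⊤ dl := by
    rcases hd with ⟨h1, h2⟩ | ⟨h1, h2⟩
    · exact iff_of_true h1 ((hm _ _).2 h2)
    · refine iff_of_false h1 fun k => ?_
      obtain ⟨n, hn⟩ := (hm _ _).1 k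
      exact h2 n (by rw [hn xp trivial, ← map_inv]; rfl)
  rwa [FusionSystem_ext (F := F) (E := E) fun P => (h.le hE k.1 P).antisymm (hE.le h k.2 P)]

theorem main (hF : F.IsSaturated 3) (hc : F.core = ⊥) : F.IsRealizable 3 := by
  obtain ⟨β, β', F', e, c, h⟩ := exists_dat hF hc
  refine c.symm.isRealizable ?_
  rcases k3_cases e with rfl | rfl | rfl
  · by_cases k : Mor F' ⊤ dl
    · obtain ⟨G, _, _, ι, M, h'⟩ := exists_gsp
      exact h.real M (.inl ⟨k, h'⟩)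
    · obtain ⟨G, _, _, ι, M, h', -⟩ := exists_sp0
      exact h.real M (.inr ⟨k, h'⟩)
  · exact (h.ne rfl).elim
  · obtain ⟨ι, M, h'⟩ := exists_co
    have : Finite Co0 := Nat.finite_of_card_ne_zero (by rw [CL.Leech.card_Co0]; norm_num)
    exact h.real M (.inl ⟨dl_of h.sat h.std h.t1 h.t2 (h.m1.mono fun _ k => k.1) (h.m2.mono fun _ k => k.2.1), h'⟩)

end CL.C1F
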